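import Cfsg.Agent.H181.TF.Facts2
import Cfsg.Agent.H752.TF.Co
import Cfsg.Agent.H745.TF.Stmts

/-!
# S5262: centralizers and characteristic subgroups (helper181)

* the named subgroups as `CS` subgroups, centralizers, the upper central series of `U`;
* characteristic subgroups of `U`.
-/

set_option autoImplicit false

namespace Cfsg.Agent.H181.TF

open Cfsg Cfsg.FusionSystem Cfsg.Agent.H756.PU Cfsg.Agent.H745.TF

universe u v w

variable {K : Type u} [Field K] {σ : K →+* K} {U : Type v} [Group U] {m : ℕ}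

section
variable (hK : HypK σ m) (T : TF σ U)

/-! ### the named subgroups -/

theorem co_eq (g : U) : Cfsg.Agent.H752.TF.co T g = cd T g :=
  el_injective T ((Cfsg.Agent.H752.TF.el_co T g).trans (el_cd T g).symm)

include hK

theorem QB_eq : T.QB = CS hK T (cB σ) := by
  ext g; rw [Cfsg.Agent.H752.TF.mem_QB hK T, co_eq, mem_CS]; exact (pB_iff (c := cd T g) (d := zc)).symm

theorem QA_eq : T.QA = CS hK T (cQ σ) := by
  ext g; rw [Cfsg.Agent.H752.TF.mem_QA hK T, co_eq, mem_CS]; exact (pQ_iff (c := cd T g) (d := zc)).symm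

theorem N3_eq : T.N3 = CS hK T (cN σ) := by
  ext g; rw [Cfsg.Agent.H752.TF.mem_N3 hK T, co_eq, mem_CS]; exact (pN_iff (c := cd T g) (d := zc)).symm

theorem V_eq : T.V = CS hK T (cV σ) := by
  ext g; rw [Cfsg.Agent.H752.TF.mem_V hK T, co_eq, mem_CS]; exact (pV_iff (c := cd T g) (d := zc)).symm

theorem Y_eq : T.Y = CS hK T (cY σ) := by
  ext g; rw [Cfsg.Agent.H752.TF.mem_Y hK T, co_eq, mem_CS]; exact (pY_iff (c := cd T g) (d := zc)).symm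

theorem E4_eq : T.E4 = CS hK T (cE4 σ) := by
  ext g; rw [Cfsg.Agent.H752.TF.mem_E4 hK T, co_eq, mem_CS]; exact (pE4_iff (c := cd T g) (d := zc)).symm

theorem E_eq : T.E = CS hK T (cE σ) := by
  ext g; rw [Cfsg.Agent.H752.TF.mem_E hK T, co_eq, mem_CS]; exact (pE_iff (c := cd T g) (d := zc)).symm

theorem D_eq : T.D = CS hK T (cD σ) := by
  ext g; rw [Cfsg.Agent.H752.TF.mem_D hK T, co_eq, mem_CS]; exact (pD_iff (c := cd T g) (d := zc)).symm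

theorem A37_eq : T.A37 = CS hK T (cA σ) := by
  ext g; rw [Cfsg.Agent.H752.TF.mem_A37 hK T, co_eq, mem_CS]; exact (pA_iff (c := cd T g) (d := zc)).symm

theorem Z4_eq : T.Z4 = CS hK T (cZ σ) := by
  ext g
  rw [Cfsg.Agent.H752.TF.mem_Z4 hK T, mem_CS, pZ_iff]
  constructor
  · rintro ⟨u, rfl⟩
    rw [← co_eq, Cfsg.Agent.H752.TF.co_x4]
    exact ⟨rfl, rfl, rfl, rfl, rfl, rfl, rfl, rfl, rfl, rfl, rfl⟩
  · rintro ⟨h1, h2, h3, h4, h5, h6, h7, h8, h9, h10, h11⟩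
    refine ⟨(cd T g).b4, ?_⟩
    rw [← cd_inj T, ← co_eq T (T.x4 0 _), Cfsg.Agent.H752.TF.co_x4]
    exact Cd.ext h1 h2 h3 h4 h5 rfl h6 h7 h8 h9 h10 h11

theorem top_eq : (⊤ : Subgroup U) = CS hK T (cU σ) := by
  ext g; exact ⟨fun _ => rfl, fun _ => trivial⟩

/-! ### transfer of the coordinate facts -/

/-- from coordinates to the group -/
theorem tr {α1 α2 α3 α4 : Type*} {pM : Cd K → α1} {pA : Cd K → α2} {pB : Cd K → α3} {pN : Cd K → α4} (hM : Cong σ pM)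
    (hA : Cong σ pA) (hB : Cong σ pB) (hN : Cong σ pN)
    (f : ∀ c, pM c = pM zc ↔ pA c = pA zc ∧ ∀ d, pB d = pB zc → pN (mul σ d c) = pN (mul σ c d)) (x : U) :
    x ∈ CS hK T hM ↔ x ∈ CS hK T hA ∧ ∀ b ∈ CS hK T hB, b * x * b⁻¹ * x⁻¹ ∈ CS hK T hN := by
  rw [mem_CS, f, mem_CS]
  refine and_congr Iff.rfl ⟨fun h b hb => comm_crit.2 (h _ hb), fun h d hd => ?_⟩
  have h1 := comm_crit.1 (h (T.el d) (el_mem_CS.2 hd))
  rwa [cd_el] at h1

theorem tr_ch {α1 α4 : Type*} {pM : Cd K → α1} {pN : Cd K → α4} (hM : Cong σ pM) (hN : Cong σ pN)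
    (f : ∀ c d, pM c = pM zc → pN (mul σ d c) = pN (mul σ c d)) (g x : U) (hx : x ∈ CS hK T hM) :
    x⁻¹ * (g * x * g⁻¹) ∈ CS hK T hN := comm_crit'.2 (f _ _ hx)

/-- commutation and the trivial subgroup -/
theorem comm_bot {x b : U} : b * x * b⁻¹ * x⁻¹ ∈ CS hK T (cong_id (σ := σ)) ↔ b * x = x * b := by
  rw [CS_id, Subgroup.mem_bot, mul_inv_eq_one, mul_inv_eq_iff_eq_mul]

/-! ### centralizers (exported) -/

theorem mem_Z4_iff (x : U) : x ∈ T.Z4 ↔ ∀ y : U, y * x = x * y := by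
  rw [Z4_eq hK, tr hK T (cZ σ) (cU σ) (cU σ) cong_id (u_Z σ)]
  simp only [comm_bot, ← top_eq]
  exact ⟨fun h y => h.2 y trivial, fun h => ⟨trivial, fun y _ => h y⟩⟩

theorem mem_V_iff (x : U) : x ∈ T.V ↔ ∀ y : U, y * x * y⁻¹ * x⁻¹ ∈ T.Z4 := by
  rw [V_eq hK, Z4_eq hK, tr hK T (cV σ) (cU σ) (cU σ) (cZ σ) (u_V σ), ← top_eq]
  exact ⟨fun h y => h.2 y trivial, fun h => ⟨trivial, fun y _ => h y⟩⟩

theorem mem_Y_iff (x : U) : x ∈ T.Y ↔ ∀ y : U, y * x * y⁻¹ * x⁻¹ ∈ T.V := by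
  rw [V_eq hK, Y_eq hK, tr hK T (cY σ) (cU σ) (cU σ) (cV σ) (u_Y σ), ← top_eq]
  exact ⟨fun h y => h.2 y trivial, fun h => ⟨trivial, fun y _ => h y⟩⟩

theorem mem_E4_iff (x : U) : x ∈ T.E4 ↔ ∀ y : U, y * x * y⁻¹ * x⁻¹ ∈ T.Y := by
  rw [Y_eq hK, E4_eq hK, tr hK T (cE4 σ) (cU σ) (cU σ) (cY σ) (u_E4 σ), ← top_eq]
  exact ⟨fun h y => h.2 y trivial, fun h => ⟨trivial, fun y _ => h y⟩⟩

/-- `C_U(V) = QB` -/
theorem mem_QB_iff (x : U) : x ∈ T.QB ↔ ∀ y ∈ T.V, y * x = x * y := by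
  rw [QB_eq hK, V_eq hK, tr hK T (cB σ) (cU σ) (cV σ) cong_id (u_B σ)]
  simp only [comm_bot, ← top_eq]
  exact ⟨fun h => h.2, fun h => ⟨trivial, h⟩⟩

/-- `QA = {x | [E4, x] ≤ Z}` -/
theorem mem_QA_iff (x : U) : x ∈ T.QA ↔ ∀ y ∈ T.E4, y * x * y⁻¹ * x⁻¹ ∈ T.Z4 := by
  rw [QA_eq hK, E4_eq hK, Z4_eq hK, tr hK T (cQ σ) (cU σ) (cE4 σ) (cZ σ) (u_Q σ), ← top_eq]
  exact ⟨fun h => h.2, fun h => ⟨trivial, h⟩⟩

/-- `C_U(Y) = N3` -/
theorem mem_N3_iff (x : U) : x ∈ T.N3 ↔ ∀ y ∈ T.Y, y * x = x * y := by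
  rw [N3_eq hK, Y_eq hK, tr hK T (cN σ) (cU σ) (cY σ) cong_id (u_N σ)]
  simp only [comm_bot, ← top_eq]
  exact ⟨fun h => h.2, fun h => ⟨trivial, h⟩⟩

/-- `C_U(E) = D` -/
theorem mem_D_iff (x : U) : x ∈ T.D ↔ ∀ y ∈ T.E, y * x = x * y := by
  rw [D_eq hK, E_eq hK, tr hK T (cD σ) (cU σ) (cE σ) cong_id (u_D σ)]
  simp only [comm_bot, ← top_eq]
  exact ⟨fun h => h.2, fun h => ⟨trivial, h⟩⟩

/-- `Z(QB) = V` -/
theorem center_QB (x : U) : x ∈ T.V ↔ x ∈ T.QB ∧ ∀ y ∈ T.QB, y * x = x * y := by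
  rw [QB_eq hK, V_eq hK, tr hK T (cV σ) (cB σ) (cB σ) cong_id (qb_V σ)]
  simp only [comm_bot]

/-- `Z(QA) = Z4` -/
theorem center_QA (x : U) : x ∈ T.Z4 ↔ x ∈ T.QA ∧ ∀ y ∈ T.QA, y * x = x * y := by
  rw [QA_eq hK, Z4_eq hK, tr hK T (cZ σ) (cQ σ) (cQ σ) cong_id (qa_Z σ)]
  simp only [comm_bot]

/-- `Z₂(QA) = E` -/
theorem center2_QA (x : U) : x ∈ T.E ↔ x ∈ T.QA ∧ ∀ y ∈ T.QA, y * x * y⁻¹ * x⁻¹ ∈ T.Z4 := by
  rw [QA_eq hK, E_eq hK, Z4_eq hK, tr hK T (cE σ) (cQ σ) (cQ σ) (cZ σ) (qa_E σ)]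

/-- `C_U(QB) ≤ QB` -/
theorem cen_QB (x : U) (h : ∀ y ∈ T.QB, y * x = x * y) : x ∈ T.QB := by
  rw [mem_QB_iff hK]
  exact fun y hy => h y ((center_QB hK T y).1 hy).1

/-- `C_U(QA) ≤ QA` -/
theorem cen_QA (x : U) (h : ∀ y ∈ T.QA, y * x = x * y) : x ∈ T.QA := by
  rw [mem_QA_iff hK]
  intro y hy
  have h1 : y ∈ T.QA := by
    rw [E4_eq hK, mem_CS, pE4_iff] at hy
    rw [QA_eq hK, mem_CS, pQ_iff]
    exact ⟨hy.2.2.2.2.2.2.1, hy.2.2.2.2.2.2.2⟩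
  rw [h y h1, mul_assoc x, mul_inv_cancel, mul_one, mul_inv_cancel]
  exact T.Z4.one_mem

/-! ### characteristic subgroups of `U` -/

omit hK

/-- `M` is preserved by the automorphism `α` of `U` -/
def PresU (α : MulAut U) (M : Subgroup U) : Prop := ∀ x, x ∈ M ↔ α x ∈ M

theorem presU_com {α : MulAut U} {B N M : Subgroup U} (hB : PresU α B) (hN : PresU α N)
    (h : ∀ x, x ∈ M ↔ ∀ b ∈ B, b * x * b⁻¹ * x⁻¹ ∈ N) : PresU α M := by
  intro x
  rw [h x, h (α x)]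
  refine ⟨fun hx y hy => ?_, fun hx y hy => ?_⟩
  · have h1 : α (α⁻¹ y) = y := MulAut.apply_inv_self _ α y
    have h2 : α⁻¹ y ∈ B := by rw [hB (α⁻¹ y), h1]; exact hy
    have h3 := (hN _).1 (hx _ h2)
    rwa [map_mul, map_mul, map_mul, map_inv, map_inv, h1] at h3
  · rw [hN, map_mul, map_mul, map_mul, map_inv, map_inv]
    exact hx _ ((hB y).1 hy)

theorem presU_top (α : MulAut U) : PresU α ⊤ := fun _ => ⟨fun _ => trivial, fun _ => trivial⟩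

theorem presU_bot (α : MulAut U) : PresU α ⊥ := fun x => by
  rw [Subgroup.mem_bot, Subgroup.mem_bot, map_eq_one_iff α α.injective]

theorem com_bot_iff {x b : U} : b * x * b⁻¹ * x⁻¹ ∈ (⊥ : Subgroup U) ↔ b * x = x * b := by
  rw [Subgroup.mem_bot, mul_inv_eq_one, mul_inv_eq_iff_eq_mul]

variable (α : MulAut U)
include hK

theorem char_Z4 : PresU α T.Z4 :=
  presU_com (presU_top α) (presU_bot α) fun x => by
    rw [mem_Z4_iff hK]; simp only [com_bot_iff]; exact ⟨fun h b _ => h b, fun h b => h b trivial⟩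

theorem char_V : PresU α T.V :=
  presU_com (presU_top α) (char_Z4 hK T α) fun x => by
    rw [mem_V_iff hK]; exact ⟨fun h b _ => h b, fun h b => h b trivial⟩

theorem char_Y : PresU α T.Y :=
  presU_com (presU_top α) (char_V hK T α) fun x => by
    rw [mem_Y_iff hK]; exact ⟨fun h b _ => h b, fun h b => h b trivial⟩

theorem char_E4 : PresU α T.E4 :=
  presU_com (presU_top α) (char_Y hK T α) fun x => by
    rw [mem_E4_iff hK]; exact ⟨fun h b _ => h b, fun h b => h b trivial⟩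

theorem char_QB : PresU α T.QB :=
  presU_com (char_V hK T α) (presU_bot α) fun x => by
    rw [mem_QB_iff hK]; simp only [com_bot_iff]

theorem char_QA : PresU α T.QA :=
  presU_com (char_E4 hK T α) (char_Z4 hK T α) (mem_QA_iff hK T)

theorem char_N3 : PresU α T.N3 :=
  presU_com (char_Y hK T α) (presU_bot α) fun x => by
    rw [mem_N3_iff hK]; simp only [com_bot_iff]

theorem char_E : PresU α T.E := by
  intro x
  rw [center2_QA hK, center2_QA hK]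
  refine and_congr (char_QA hK T α x) ⟨fun hx y hy => ?_, fun hx y hy => ?_⟩
  · have h1 : α (α⁻¹ y) = y := MulAut.apply_inv_self _ α y
    have h2 : α⁻¹ y ∈ T.QA := by rw [char_QA hK T α, h1]; exact hy
    have h3 := (char_Z4 hK T α _).1 (hx _ h2)
    rwa [map_mul, map_mul, map_mul, map_inv, map_inv, h1] at h3
  · rw [char_Z4 hK T α, map_mul, map_mul, map_mul, map_inv, map_inv]
    exact hx _ ((char_QA hK T α y).1 hy)

theorem char_D : PresU α T.D :=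
  presU_com (char_E hK T α) (presU_bot α) fun x => by
    rw [mem_D_iff hK]; simp only [com_bot_iff]

variable {α}
omit hK

theorem map_of_presU {M : Subgroup U} (h : ∀ α : MulAut U, PresU α M) (α : MulAut U) :
    M.map α.toMonoidHom = M := by
  apply le_antisymm
  · rintro _ ⟨x, hx, rfl⟩
    exact (h α x).1 hx
  · intro x hx
    refine ⟨α⁻¹ x, (h α⁻¹ x).1 hx, MulAut.apply_inv_self _ α x⟩

end

end Cfsg.Agent.H181.TF
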