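import Cfsg.Agent.H294.PU.Gen

/-!
# TI modulo inner automorphisms, from an invariant chain (helper181, for S5262)
-/

set_option autoImplicit false

namespace Cfsg.Agent.H181.TF

open Cfsg Cfsg.FusionSystem Cfsg.Agent.H756.PU

universe u

section
variable {Q : Type u} [Group Q]

/-- the automorphisms which preserve every `M i` and act trivially on `M i / M (i+1)` -/
def ChS (M : ℕ → Subgroup Q) : Subgroup (MulAut Q) where
  carrier := {β | (∀ i x, x ∈ M i ↔ β x ∈ M i) ∧ ∀ i, ∀ x ∈ M i, x⁻¹ * β x ∈ M (i + 1)}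
  one_mem' := ⟨fun _ _ => Iff.rfl, fun i x _ => by simp⟩
  mul_mem' := by
    rintro α β ⟨ha, ha'⟩ ⟨hb, hb'⟩
    refine ⟨fun i x => (hb i x).trans (ha i _), fun i x hx => ?_⟩
    have key : x⁻¹ * (α * β) x = (x⁻¹ * β x) * ((β x)⁻¹ * α (β x)) := by
      rw [MulAut.mul_apply]; group
    rw [key]
    exact (M (i + 1)).mul_mem (hb' i x hx) (ha' i _ ((hb i x).1 hx))
  inv_mem' := by
    rintro α ⟨ha, ha'⟩
    have hi : ∀ x, α (α⁻¹ x) = x := fun x => MulAut.apply_inv_self _ α x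
    have j : ∀ i x, x ∈ M i ↔ α⁻¹ x ∈ M i := fun i x => by rw [ha i (α⁻¹ x), hi]
    refine ⟨j, fun i x hx => ?_⟩
    have key : x⁻¹ * α⁻¹ x = ((α⁻¹ x)⁻¹ * α (α⁻¹ x))⁻¹ := by
      rw [hi]; group
    rw [key]
    exact (M (i + 1)).inv_mem (ha' i _ ((j i x).1 hx))

theorem mem_ChS {M : ℕ → Subgroup Q} {β : MulAut Q} :
    β ∈ ChS M ↔ (∀ i x, x ∈ M i ↔ β x ∈ M i) ∧ ∀ i, ∀ x ∈ M i, x⁻¹ * β x ∈ M (i + 1) := Iff.rfl

theorem isPGroup_ChS {M : ℕ → Subgroup Q} {k : ℕ} (h0 : M 0 = ⊤) (hk : M k = ⊥) {p e : ℕ}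
    (hexp : ∀ x : Q, x ^ p ^ e = 1) : IsPGroup p (ChS M) := by
  rintro ⟨β, hβ⟩
  set N := p ^ e with hN
  have key : ∀ j ≤ k, ∀ x ∈ M (k - j), (β ^ N ^ j) x = x := by
    intro j
    induction j with
    | zero =>
      intro _ x hx
      rw [Nat.sub_zero, hk, Subgroup.mem_bot] at hx
      rw [hx, map_one]
    | succ j ih =>
      intro hj x hx
      have ih' := ih (by omega)
      set δ := β ^ N ^ j with hδ
      have hδm : δ ∈ ChS M := (ChS M).pow_mem hβ _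
      have h1 : x⁻¹ * δ x ∈ M (k - j) := by
        have := hδm.2 _ x hx
        rwa [show k - (j + 1) + 1 = k - j by omega] at this
      set n := x⁻¹ * δ x with hn
      have h2 : δ x = x * n := by rw [hn]; group
      have h3 : ∀ i, (δ ^ i) x = x * n ^ i := by
        intro i
        induction i with
        | zero => simp
        | succ i ihi => rw [pow_succ', MulAut.mul_apply, ihi, map_mul, map_pow, ih' n h1, h2, pow_succ', mul_assoc]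
      have h4 := h3 N
      rw [hexp, mul_one, hδ, ← pow_mul, ← pow_succ] at h4
      exact h4
  refine ⟨e * k, ?_⟩
  ext1
  rw [Subgroup.coe_pow, Subgroup.coe_one]
  change β ^ p ^ (e * k) = 1
  rw [pow_mul, ← hN]
  ext x
  rw [MulAut.one_apply]
  exact key k le_rfl x (by rw [Nat.sub_self, h0]; trivial)

end

/-- the TI argument with a chain of any length -/
theorem ti_chain {G : Type u} [Group G] [Finite G] {p e : ℕ} (hexp : ∀ x : G, x ^ p ^ e = 1)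
    {Q : Subgroup G} (M : ℕ → Subgroup G) {k : ℕ} (h0 : M 0 = Q) (hk : M k = ⊥)
    (hle : ∀ i, M (i + 1) ≤ M i)
    (hT : ∀ i, ∀ g : G, ∀ x ∈ M i, x⁻¹ * (g * x * g⁻¹) ∈ M (i + 1))
    {Γ : Subgroup (MulAut Q)} (hΓ : autInducedBy ⊤ Q ≤ Γ)
    (hsyl : ∀ P : Subgroup (MulAut Q), P ≤ Γ → IsPGroup p P →
      ∃ g ∈ Γ, ∀ x ∈ P, g * x * g⁻¹ ∈ autInducedBy ⊤ Q)
    {γ : MulAut Q} (hγ : γ ∈ Γ)
    (gM : ∀ i, ∀ x : Q, (x : G) ∈ M i ↔ ((γ x : Q) : G) ∈ M i) : NormAut (⊤ : Subgroup G) γ := by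
  set R0 : Subgroup (MulAut Q) := ChS (fun i => (M i).subgroupOf Q) with hR0
  have hn : ∀ i, ∀ g : G, ∀ x ∈ M i, g * x * g⁻¹ ∈ M i := fun i g x hx => by
    have := (M i).mul_mem hx (hle i (hT i g x hx)); simpa [mul_assoc] using this
  have iffn : ∀ i, ∀ g x, x ∈ M i ↔ g * x * g⁻¹ ∈ M i := fun i g x => by
    refine ⟨hn i g x, fun h => ?_⟩
    have := hn i g⁻¹ _ h
    simpa [mul_assoc] using this
  have hTR : autInducedBy ⊤ Q ≤ R0 := by
    intro α hα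
    obtain ⟨g, -, hg⟩ := (Cfsg.Agent.H802.mem_autInducedBy_iff _ _ _).1 hα
    rw [hR0, mem_ChS]
    refine ⟨fun i x => ?_, fun i x hx => ?_⟩
    · rw [Subgroup.mem_subgroupOf, Subgroup.mem_subgroupOf, hg]; exact iffn i g _
    · rw [Subgroup.mem_subgroupOf] at hx ⊢
      rw [Subgroup.coe_mul, Subgroup.coe_inv, hg]; exact hT i g _ hx
  have hRp : IsPGroup p R0 := by
    refine isPGroup_ChS (k := k) (e := e) ?_ ?_ ?_
    · rw [h0, Subgroup.subgroupOf_self]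
    · rw [hk, Subgroup.bot_subgroupOf]
    · intro x
      ext
      rw [Subgroup.coe_pow, hexp]; rfl
  have hγT : ∀ x ∈ autInducedBy (⊤ : Subgroup G) Q, γ * x * γ⁻¹ ∈ R0 := by
    intro t ht
    obtain ⟨ht1, ht2⟩ := mem_ChS.1 (hTR ht)
    have hi : ∀ x, γ (γ⁻¹ x) = x := fun x => MulAut.apply_inv_self _ γ x
    have jj : ∀ i, ∀ x : Q, x ∈ (M i).subgroupOf Q ↔ γ⁻¹ x ∈ (M i).subgroupOf Q := fun i x => by
      rw [Subgroup.mem_subgroupOf, Subgroup.mem_subgroupOf, gM i (γ⁻¹ x), hi]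
    have key : ∀ x, x⁻¹ * (γ * t * γ⁻¹) x = γ ((γ⁻¹ x)⁻¹ * t (γ⁻¹ x)) := fun x => by
      rw [map_mul, map_inv, hi, MulAut.mul_apply, MulAut.mul_apply]
    rw [hR0, mem_ChS]
    refine ⟨fun i x => ?_, fun i x hx => ?_⟩
    · rw [MulAut.mul_apply, MulAut.mul_apply, jj i x, ht1 i (γ⁻¹ x), Subgroup.mem_subgroupOf,
        Subgroup.mem_subgroupOf, gM i]
    · rw [key, Subgroup.mem_subgroupOf, ← gM]
      exact ht2 i _ ((jj i x).1 hx)
  have hle' : R0 ⊓ Γ ≤ R0 := inf_le_left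
  have hRp' : IsPGroup p (R0 ⊓ Γ : Subgroup (MulAut Q)) := hRp.to_le hle'
  refine Cfsg.Agent.H294.PU.norm_of_pgroup hsyl (R := R0 ⊓ Γ) inf_le_right hRp' (le_inf hTR hΓ) ?_
  intro x hx
  exact ⟨hγT x hx, Γ.mul_mem (Γ.mul_mem hγ (hΓ hx)) (Γ.inv_mem hγ)⟩

/-! ### transport along `γ` -/

/-- transport of the condition `[g, e] ∈ N` -/
theorem transport {G : Type u} [Group G] {Q : Subgroup G} {N : Subgroup G} {γ t : MulAut Q} {g h : G}
    (hg : ∀ x : Q, ((t x : Q) : G) = g * (x : G) * g⁻¹)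
    (hh : ∀ x : Q, (((γ * t * γ⁻¹) x : Q) : G) = h * (x : G) * h⁻¹)
    (hN : ∀ x : Q, (x : G) ∈ N ↔ ((γ x : Q) : G) ∈ N) (e : Q) :
    g * (e : G) * g⁻¹ * (e : G)⁻¹ ∈ N ↔
      h * ((γ e : Q) : G) * h⁻¹ * ((γ e : Q) : G)⁻¹ ∈ N := by
  rw [← hg, ← hh]
  have h1 : (γ * t * γ⁻¹) (γ e) = γ (t e) := by
    rw [MulAut.mul_apply, MulAut.mul_apply, MulAut.inv_apply_self]
  rw [h1]
  have h2 := hN (t e * e⁻¹)
  rw [map_mul, map_inv] at h2
  exact h2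

/-- `γ` preserves `M ∩ Q` -/
def Pres {G : Type u} [Group G] {Q : Subgroup G} (γ : MulAut Q) (M : Subgroup G) : Prop :=
  ∀ x : Q, (x : G) ∈ M ↔ ((γ x : Q) : G) ∈ M

/-- a subgroup given by `[b, x] ∈ N` for all `b ∈ B`, inside `A`, is preserved if `A`, `B`, `N` are -/
theorem pres_com {G : Type u} [Group G] {Q : Subgroup G} {γ : MulAut Q} {A B N M : Subgroup G} (hBQ : B ≤ Q)
    (hA : Pres γ A) (hB : Pres γ B) (hN : Pres γ N)
    (h : ∀ x ∈ Q, x ∈ M ↔ x ∈ A ∧ ∀ b ∈ B, b * x * b⁻¹ * x⁻¹ ∈ N) : Pres γ M := by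
  intro x
  rw [h x x.2, h _ (γ x).2]
  refine and_congr (hA x) ⟨fun hx y hy => ?_, fun hx y hy => ?_⟩
  · set y' : Q := γ⁻¹ ⟨y, hBQ hy⟩ with hy'
    have h1 : γ y' = ⟨y, hBQ hy⟩ := MulAut.apply_inv_self _ γ _
    have h2 : (y' : G) ∈ B := by rw [hB y', h1]; exact hy
    have h3 := (hN (y' * x * y'⁻¹ * x⁻¹)).1 (hx _ h2)
    rw [map_mul, map_mul, map_mul, map_inv, map_inv, h1] at h3
    exact h3
  · have h2 := hx _ ((hB ⟨y, hBQ hy⟩).1 hy)
    have h3 := (hN (⟨y, hBQ hy⟩ * x * ⟨y, hBQ hy⟩⁻¹ * x⁻¹)).2 (by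
      rw [map_mul, map_mul, map_mul, map_inv, map_inv]; exact h2)
    exact h3

/-- an induced automorphism which is not inner is induced by elements outside `Q` -/
theorem not_mem_of_not_inn {G : Type u} [Group G] {Q : Subgroup G} {t : MulAut Q} {g : G}
    (hg : ∀ x : Q, ((t x : Q) : G) = g * (x : G) * g⁻¹) (ht : t ∉ Inn Q) : g ∉ Q := by
  intro hgQ
  apply ht
  refine ⟨⟨g, hgQ⟩, ?_⟩
  ext1 x
  apply Subtype.ext
  rw [hg]; rfl

/-- a conjugate of a non-inner automorphism is not inner -/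
theorem conj_not_inn {G : Type u} [Group G] {Q : Subgroup G} {γ t : MulAut Q} (ht : t ∉ Inn Q) :
    γ * t * γ⁻¹ ∉ Inn Q := fun hc => by
  apply ht
  obtain ⟨y, hy⟩ := hc
  refine ⟨γ⁻¹ y, ?_⟩
  have h1 : t = γ⁻¹ * (γ * t * γ⁻¹) * γ := by group
  rw [h1, ← hy]
  ext1 z
  rw [MulAut.mul_apply, MulAut.mul_apply, MulAut.conj_apply, MulAut.conj_apply, map_mul, map_mul,
    map_inv, MulAut.inv_apply_self]

end Cfsg.Agent.H181.TF
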