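import Cfsg.Agent.H181.TF.MulDef
import Cfsg.Agent.H659.TF.Ump

/-!
# S5262: the product in coordinates (helper181)

Collection from `OctRel` (generated; characteristic 2, `σ (σ x) = x²`): `el_mul`, `el_inv`, `el_one`.
-/

set_option autoImplicit false
set_option linter.all false
set_option maxHeartbeats 1000000

namespace Cfsg.Agent.H181.TF

open Cfsg.Agent.H745.TF Cfsg.Agent.Octagon.Pkg

universe u v

/-- a family of root elements -/
structure Fam (K : Type u) (G : Type v) where
  x1 : K → G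
  x3 : K → G
  x5 : K → G
  x7 : K → G
  x2 : K → K → G
  x4 : K → K → G
  x6 : K → K → G
  x8 : K → K → G

/-- the ordered product -/
def Fam.E {K : Type u} {G : Type v} [Group G] (F : Fam K G) (c : Cd K) : G :=
  F.x1 c.a1 * F.x2 c.a2 c.b2 * F.x3 c.a3 * F.x4 c.a4 c.b4 * F.x5 c.a5 * F.x6 c.a6 c.b6 * F.x7 c.a7 * F.x8 c.a8 c.b8

/-- the relations, in characteristic 2 -/
structure Ok {K : Type u} [Field K] (σ : K →+* K) {G : Type v} [Group G] (F : Fam K G) : Prop where
  rel : OctRel σ F.x1 F.x3 F.x5 F.x7 F.x2 F.x4 F.x6 F.x8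
  h2 : (2 : K) = 0
  hs : ∀ x, σ (σ x) = x ^ 2

namespace Ok

variable {K : Type u} [Field K] {σ : K →+* K} {G : Type v} [Group G] {F : Fam K G} (H : Ok σ F)
include H

theorem z1 : F.x1 0 = 1 := Cfsg.Agent.H659.TF.x1_zero H.rel
theorem z2 : F.x2 0 0 = 1 := Cfsg.Agent.H659.TF.x2_zero H.rel
theorem z3 : F.x3 0 = 1 := Cfsg.Agent.H659.TF.x3_zero H.rel
theorem z4 : F.x4 0 0 = 1 := Cfsg.Agent.H659.TF.x4_zero H.rel
theorem z5 : F.x5 0 = 1 := Cfsg.Agent.H659.TF.x5_zero H.rel
theorem z6 : F.x6 0 0 = 1 := Cfsg.Agent.H659.TF.x6_zero H.rel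
theorem z7 : F.x7 0 = 1 := Cfsg.Agent.H659.TF.x7_zero H.rel
theorem z8 : F.x8 0 0 = 1 := Cfsg.Agent.H659.TF.x8_zero H.rel

theorem dbl (x : K) : x + x = 0 := by rw [← two_mul, H.h2, zero_mul]
theorem i1 (t : K) : (F.x1 t)⁻¹ = F.x1 t := inv_eq_of_mul_eq_one_right (by rw [H.rel.m1, H.dbl, H.z1])
theorem i2 (p u : K) : (F.x2 p u)⁻¹ = F.x2 p (u + p * σ p) := inv_eq_of_mul_eq_one_right (by
  rw [H.rel.m2, H.dbl, show u + (u + p * σ p) + p * σ p = (u + u) + (p * σ p + p * σ p) by ring, H.dbl, H.dbl, add_zero, H.z2])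
theorem i3 (t : K) : (F.x3 t)⁻¹ = F.x3 t := inv_eq_of_mul_eq_one_right (by rw [H.rel.m3, H.dbl, H.z3])
theorem i4 (p u : K) : (F.x4 p u)⁻¹ = F.x4 p (u + p * σ p) := inv_eq_of_mul_eq_one_right (by
  rw [H.rel.m4, H.dbl, show u + (u + p * σ p) + p * σ p = (u + u) + (p * σ p + p * σ p) by ring, H.dbl, H.dbl, add_zero, H.z4])
theorem i5 (t : K) : (F.x5 t)⁻¹ = F.x5 t := inv_eq_of_mul_eq_one_right (by rw [H.rel.m5, H.dbl, H.z5])
theorem i6 (p u : K) : (F.x6 p u)⁻¹ = F.x6 p (u + p * σ p) := inv_eq_of_mul_eq_one_right (by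
  rw [H.rel.m6, H.dbl, show u + (u + p * σ p) + p * σ p = (u + u) + (p * σ p + p * σ p) by ring, H.dbl, H.dbl, add_zero, H.z6])
theorem i7 (t : K) : (F.x7 t)⁻¹ = F.x7 t := inv_eq_of_mul_eq_one_right (by rw [H.rel.m7, H.dbl, H.z7])
theorem i8 (p u : K) : (F.x8 p u)⁻¹ = F.x8 p (u + p * σ p) := inv_eq_of_mul_eq_one_right (by
  rw [H.rel.m8, H.dbl, show u + (u + p * σ p) + p * σ p = (u + u) + (p * σ p + p * σ p) by ring, H.dbl, H.dbl, add_zero, H.z8])

omit H in
theorem swp {a b c : G} (h : a * b = b * a * c) : b * a = a * b * c⁻¹ := by rw [h]; group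

theorem w21 (q v t : K) : F.x2 q v * F.x1 t = F.x1 t * F.x2 q v := (H.rel.r12 t q v).symm
theorem w31 (s t : K) : F.x3 s * F.x1 t = F.x1 t * F.x3 s := (H.rel.r13 t s).symm
theorem w32 (s p u : K) : F.x3 s * F.x2 p u = F.x2 p u * F.x3 s := (H.rel.r23 p u s).symm
theorem w41 (q v t : K) : F.x4 q v * F.x1 t =
    F.x1 t * F.x4 q v * F.x2 (0) (q * t) := by
  have h := H.rel.r14 t q v
  have h1 := swp h
  rw [H.i2] at h1
  refine h1.trans ?_
  refine congrArg₂ (· * ·) (rfl) (congrArg₂ F.x2 ?_ ?_)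
  · (try simp only [map_add, map_mul, map_pow, map_zero, H.hs]) <;> ring1
  · (try simp only [map_add, map_mul, map_pow, map_zero, H.hs]) <;> ring1
theorem w42 (q v p u : K) : F.x4 q v * F.x2 p u =
    F.x2 p u * F.x4 q v * F.x3 (p * q) := by
  have h := H.rel.r24 p u q v
  have h1 := swp h
  rw [H.i3] at h1
  refine h1.trans ?_
  refine congrArg₂ (· * ·) (rfl) (congrArg F.x3 ?_)
  · (try simp only [map_add, map_mul, map_pow, map_zero, H.hs]) <;> ring1
theorem w43 (q v t : K) : F.x4 q v * F.x3 t = F.x3 t * F.x4 q v := (H.rel.r34 t q v).symm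
theorem w51 (s t : K) : F.x5 s * F.x1 t = F.x1 t * F.x5 s := (H.rel.r15 t s).symm
theorem w52 (s p u : K) : F.x5 s * F.x2 p u =
    F.x2 p u * F.x5 s * F.x4 (0) (p * s) := by
  have h := H.rel.r25 p u s
  have h1 := swp h
  rw [H.i4] at h1
  refine h1.trans ?_
  refine congrArg₂ (· * ·) (rfl) (congrArg₂ F.x4 ?_ ?_)
  · (try simp only [map_add, map_mul, map_pow, map_zero, H.hs]) <;> ring1
  · (try simp only [map_add, map_mul, map_pow, map_zero, H.hs]) <;> ring1
theorem w53 (s t : K) : F.x5 s * F.x3 t = F.x3 t * F.x5 s := (H.rel.r35 t s).symm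
theorem w54 (s p u : K) : F.x5 s * F.x4 p u = F.x4 p u * F.x5 s := (H.rel.r45 p u s).symm
theorem w61 (q v t : K) : F.x6 q v * F.x1 t =
    F.x1 t * F.x6 q v * F.x4 (0) (t * v + q * σ q * t) * F.x3 (σ q * t) * F.x2 (0) (q * σ t) := by
  have h := H.rel.r16 t q v
  simp only [mul_assoc (F.x6 q v * F.x1 t)] at h
  rw [swp h]
  simp only [mul_inv_rev, H.i2, H.i3, H.i4, ← mul_assoc]
  refine congrArg₂ (· * ·) (congrArg₂ (· * ·) (congrArg₂ (· * ·) (rfl) (congrArg₂ F.x4 ?_ ?_)) (congrArg F.x3 ?_)) (congrArg₂ F.x2 ?_ ?_)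
  · (try simp only [map_add, map_mul, map_pow, map_zero, H.hs]) <;> ring1
  · (try simp only [map_add, map_mul, map_pow, map_zero, H.hs]) <;> ring1
  · (try simp only [map_add, map_mul, map_pow, map_zero, H.hs]) <;> ring1
  · (try simp only [map_add, map_mul, map_pow, map_zero, H.hs]) <;> ring1
  · (try simp only [map_add, map_mul, map_pow, map_zero, H.hs]) <;> ring1
theorem w62 (q v p u : K) : F.x6 q v * F.x2 p u = F.x2 p u * F.x6 q v := (H.rel.r26 p u q v).symm
theorem w63 (q v t : K) : F.x6 q v * F.x3 t =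
    F.x3 t * F.x6 q v * F.x4 (0) (q * t) := by
  have h := H.rel.r36 t q v
  have h1 := swp h
  rw [H.i4] at h1
  refine h1.trans ?_
  refine congrArg₂ (· * ·) (rfl) (congrArg₂ F.x4 ?_ ?_)
  · (try simp only [map_add, map_mul, map_pow, map_zero, H.hs]) <;> ring1
  · (try simp only [map_add, map_mul, map_pow, map_zero, H.hs]) <;> ring1
theorem w64 (q v p u : K) : F.x6 q v * F.x4 p u =
    F.x4 p u * F.x6 q v * F.x5 (p * q) := by
  have h := H.rel.r46 p u q v
  have h1 := swp h
  rw [H.i5] at h1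
  refine h1.trans ?_
  refine congrArg₂ (· * ·) (rfl) (congrArg F.x5 ?_)
  · (try simp only [map_add, map_mul, map_pow, map_zero, H.hs]) <;> ring1
theorem w65 (q v t : K) : F.x6 q v * F.x5 t = F.x5 t * F.x6 q v := (H.rel.r56 t q v).symm
theorem w71 (s t : K) : F.x7 s * F.x1 t =
    F.x1 t * F.x7 s * F.x5 (σ s * t) * F.x3 (s * σ t) := by
  have h := H.rel.r17 t s
  simp only [mul_assoc (F.x7 s * F.x1 t)] at h
  rw [swp h]
  simp only [mul_inv_rev, H.i3, H.i5, ← mul_assoc]
  refine congrArg₂ (· * ·) (congrArg₂ (· * ·) (rfl) (congrArg F.x5 ?_)) (congrArg F.x3 ?_)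
  · (try simp only [map_add, map_mul, map_pow, map_zero, H.hs]) <;> ring1
  · (try simp only [map_add, map_mul, map_pow, map_zero, H.hs]) <;> ring1
theorem w72 (s p u : K) : F.x7 s * F.x2 p u =
    F.x2 p u * F.x7 s * F.x6 (0) (p * σ s) * F.x5 (σ p * s) * F.x4 (0) (s * u + p * σ p * s) := by
  have h := H.rel.r27 p u s
  simp only [mul_assoc (F.x7 s * F.x2 p u)] at h
  rw [swp h]
  simp only [mul_inv_rev, H.i4, H.i5, H.i6, ← mul_assoc]
  refine congrArg₂ (· * ·) (congrArg₂ (· * ·) (congrArg₂ (· * ·) (rfl) (congrArg₂ F.x6 ?_ ?_)) (congrArg F.x5 ?_)) (congrArg₂ F.x4 ?_ ?_)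
  · (try simp only [map_add, map_mul, map_pow, map_zero, H.hs]) <;> ring1
  · (try simp only [map_add, map_mul, map_pow, map_zero, H.hs]) <;> ring1
  · (try simp only [map_add, map_mul, map_pow, map_zero, H.hs]) <;> ring1
  · (try simp only [map_add, map_mul, map_pow, map_zero, H.hs]) <;> ring1
  · (try simp only [map_add, map_mul, map_pow, map_zero, H.hs]) <;> ring1
theorem w73 (s t : K) : F.x7 s * F.x3 t = F.x3 t * F.x7 s := (H.rel.r37 t s).symm
theorem w74 (s p u : K) : F.x7 s * F.x4 p u =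
    F.x4 p u * F.x7 s * F.x6 (0) (p * s) := by
  have h := H.rel.r47 p u s
  have h1 := swp h
  rw [H.i6] at h1
  refine h1.trans ?_
  refine congrArg₂ (· * ·) (rfl) (congrArg₂ F.x6 ?_ ?_)
  · (try simp only [map_add, map_mul, map_pow, map_zero, H.hs]) <;> ring1
  · (try simp only [map_add, map_mul, map_pow, map_zero, H.hs]) <;> ring1
theorem w75 (s t : K) : F.x7 s * F.x5 t = F.x5 t * F.x7 s := (H.rel.r57 t s).symm
theorem w76 (s p u : K) : F.x7 s * F.x6 p u = F.x6 p u * F.x7 s := (H.rel.r67 p u s).symm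
theorem w81 (q v t : K) : F.x8 q v * F.x1 t =
    F.x1 t * F.x8 q v * F.x7 (t * σ v + q * t * v + q ^ 2 * σ q * t) * F.x6 (t * v) (t * σ t * v * σ v + q * t * σ
      t * v ^ 2 + q * σ q * t * σ t * σ v + q ^ 3 * (σ q) ^ 2 * t * σ t) * F.x5 (σ q * t * σ t * σ v + t * σ t * v ^
      2 + q ^ 2 * (σ q) ^ 2 * t * σ t) * F.x4 (σ t * v + q * σ q * σ t) (q * t ^ 2 * σ t * v ^ 2 + q * σ q * t ^ 2 *
      σ t * σ v + q ^ 3 * (σ q) ^ 2 * t ^ 2 * σ t) * F.x3 (t * σ t * σ v + q * t * σ t * v + q ^ 2 * σ q * t * σ t)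
      * F.x2 (q * t) (t * σ t * v) := by
  have h := H.rel.r18 t q v
  simp only [mul_assoc (F.x8 q v * F.x1 t)] at h
  rw [swp h]
  simp only [mul_inv_rev, H.i2, H.i3, H.i4, H.i5, H.i6, H.i7, ← mul_assoc]
  refine congrArg₂ (· * ·) (congrArg₂ (· * ·) (congrArg₂ (· * ·) (congrArg₂ (· * ·) (congrArg₂ (· * ·) (congrArg₂ (· * ·) (rfl) (congrArg F.x7 ?_)) (congrArg₂ F.x6 ?_ ?_)) (congrArg F.x5 ?_)) (congrArg₂ F.x4 ?_ ?_)) (congrArg F.x3 ?_)) (congrArg₂ F.x2 ?_ ?_)
  · (try simp only [map_add, map_mul, map_pow, map_zero, H.hs]) <;> ring1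
  · (try simp only [map_add, map_mul, map_pow, map_zero, H.hs]) <;> ring1
  · (try simp only [map_add, map_mul, map_pow, map_zero, H.hs]) <;> ring1
  · (try simp only [map_add, map_mul, map_pow, map_zero, H.hs]) <;> ring1
  · (try simp only [map_add, map_mul, map_pow, map_zero, H.hs]) <;> ring1
  · try simp only [map_add, map_mul, map_pow, map_zero, H.hs]
    linear_combination (q ^ 2 * σ q * t ^ 2 * σ t * v + t ^ 2 * σ t * v * σ v) * H.h2
  · (try simp only [map_add, map_mul, map_pow, map_zero, H.hs]) <;> ring1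
  · (try simp only [map_add, map_mul, map_pow, map_zero, H.hs]) <;> ring1
  · try simp only [map_add, map_mul, map_pow, map_zero, H.hs]
    linear_combination (q * σ q * t * σ t) * H.h2
theorem w82 (q v p u : K) : F.x8 q v * F.x2 p u =
    F.x2 p u * F.x8 q v * F.x7 (p * v + p * q * σ q) * F.x6 (p * σ q) (u * σ v + p * σ p * σ v + q * u * v + q ^ 2
      * σ q * u) * F.x5 (u * v) * F.x4 (σ p * q) (σ u * v + p * u * v + q * σ q * σ u + p ^ 2 * σ p * v + p ^ 2 * σ
      p * q * σ q) * F.x3 (q * u + p * σ p * q) := by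
  have h := H.rel.r28 p u q v
  simp only [mul_assoc (F.x8 q v * F.x2 p u)] at h
  rw [swp h]
  simp only [mul_inv_rev, H.i3, H.i4, H.i5, H.i6, H.i7, ← mul_assoc]
  refine congrArg₂ (· * ·) (congrArg₂ (· * ·) (congrArg₂ (· * ·) (congrArg₂ (· * ·) (congrArg₂ (· * ·) (rfl) (congrArg F.x7 ?_)) (congrArg₂ F.x6 ?_ ?_)) (congrArg F.x5 ?_)) (congrArg₂ F.x4 ?_ ?_)) (congrArg F.x3 ?_)
  · (try simp only [map_add, map_mul, map_pow, map_zero, H.hs]) <;> ring1
  · (try simp only [map_add, map_mul, map_pow, map_zero, H.hs]) <;> ring1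
  · try simp only [map_add, map_mul, map_pow, map_zero, H.hs]
    linear_combination (p * σ p * q ^ 2 * σ q) * H.h2
  · (try simp only [map_add, map_mul, map_pow, map_zero, H.hs]) <;> ring1
  · (try simp only [map_add, map_mul, map_pow, map_zero, H.hs]) <;> ring1
  · (try simp only [map_add, map_mul, map_pow, map_zero, H.hs]) <;> ring1
  · (try simp only [map_add, map_mul, map_pow, map_zero, H.hs]) <;> ring1
theorem w83 (q v t : K) : F.x8 q v * F.x3 t =
    F.x3 t * F.x8 q v * F.x6 (0) (t * v + q * σ q * t) * F.x5 (σ q * t) * F.x4 (0) (q * σ t) := by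
  have h := H.rel.r38 t q v
  simp only [mul_assoc (F.x8 q v * F.x3 t)] at h
  rw [swp h]
  simp only [mul_inv_rev, H.i4, H.i5, H.i6, ← mul_assoc]
  refine congrArg₂ (· * ·) (congrArg₂ (· * ·) (congrArg₂ (· * ·) (rfl) (congrArg₂ F.x6 ?_ ?_)) (congrArg F.x5 ?_)) (congrArg₂ F.x4 ?_ ?_)
  · (try simp only [map_add, map_mul, map_pow, map_zero, H.hs]) <;> ring1
  · (try simp only [map_add, map_mul, map_pow, map_zero, H.hs]) <;> ring1
  · (try simp only [map_add, map_mul, map_pow, map_zero, H.hs]) <;> ring1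
  · (try simp only [map_add, map_mul, map_pow, map_zero, H.hs]) <;> ring1
  · (try simp only [map_add, map_mul, map_pow, map_zero, H.hs]) <;> ring1
theorem w84 (q v p u : K) : F.x8 q v * F.x4 p u = F.x4 p u * F.x8 q v := (H.rel.r48 p u q v).symm
theorem w85 (q v t : K) : F.x8 q v * F.x5 t =
    F.x5 t * F.x8 q v * F.x6 (0) (q * t) := by
  have h := H.rel.r58 t q v
  have h1 := swp h
  rw [H.i6] at h1
  refine h1.trans ?_
  refine congrArg₂ (· * ·) (rfl) (congrArg₂ F.x6 ?_ ?_)
  · (try simp only [map_add, map_mul, map_pow, map_zero, H.hs]) <;> ring1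
  · (try simp only [map_add, map_mul, map_pow, map_zero, H.hs]) <;> ring1
theorem w86 (q v p u : K) : F.x8 q v * F.x6 p u =
    F.x6 p u * F.x8 q v * F.x7 (p * q) := by
  have h := H.rel.r68 p u q v
  have h1 := swp h
  rw [H.i7] at h1
  refine h1.trans ?_
  refine congrArg₂ (· * ·) (rfl) (congrArg F.x7 ?_)
  · (try simp only [map_add, map_mul, map_pow, map_zero, H.hs]) <;> ring1
theorem w87 (q v t : K) : F.x8 q v * F.x7 t = F.x7 t * F.x8 q v := (H.rel.r78 t q v).symm

theorem s8_8 (a1 a2 b2 a3 a4 b4 a5 a6 b6 a7 a8 b8 p u : K) : F.x1 a1 * F.x2 a2 b2 * F.x3 a3 * F.x4 a4 b4 * F.x5 a5 * F.x6 a6 b6 * F.x7 a7 * F.x8 a8 b8 * F.x8 p u =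
    F.E ⟨a1, a2, b2, a3, a4, b4, a5, a6, b6, a7, a8 + p, b8 + u + a8 * σ p⟩ := by
  rw [mul_assoc (F.x1 a1 * F.x2 a2 b2 * F.x3 a3 * F.x4 a4 b4 * F.x5 a5 * F.x6 a6 b6 * F.x7 a7) (F.x8 a8 b8) (F.x8 p u), H.rel.m8]
  simp only [Fam.E, H.z1, H.z2, H.z3, H.z4, H.z5, H.z6, H.z7, H.z8, mul_one]
/-- right multiplication by a root element of `X8` -/
theorem R8 (c : Cd K) (p u : K) : F.E c * F.x8 p u =
    F.E ⟨c.a1, c.a2, c.b2, c.a3, c.a4, c.b4, c.a5, c.a6, c.b6, c.a7, c.a8 + p, c.b8 + u + c.a8 * σ p⟩ :=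
  H.s8_8 c.a1 c.a2 c.b2 c.a3 c.a4 c.b4 c.a5 c.a6 c.b6 c.a7 c.a8 c.b8 p u

theorem s7_7 (a1 a2 b2 a3 a4 b4 a5 a6 b6 a7 t : K) : F.x1 a1 * F.x2 a2 b2 * F.x3 a3 * F.x4 a4 b4 * F.x5 a5 * F.x6 a6 b6 * F.x7 a7 * F.x7 t =
    F.E ⟨a1, a2, b2, a3, a4, b4, a5, a6, b6, a7 + t, 0, 0⟩ := by
  rw [mul_assoc (F.x1 a1 * F.x2 a2 b2 * F.x3 a3 * F.x4 a4 b4 * F.x5 a5 * F.x6 a6 b6) (F.x7 a7) (F.x7 t), H.rel.m7]
  simp only [Fam.E, H.z1, H.z2, H.z3, H.z4, H.z5, H.z6, H.z7, H.z8, mul_one]
theorem s7_8 (a1 a2 b2 a3 a4 b4 a5 a6 b6 a7 a8 b8 t : K) : F.x1 a1 * F.x2 a2 b2 * F.x3 a3 * F.x4 a4 b4 * F.x5 a5 * F.x6 a6 b6 * F.x7 a7 * F.x8 a8 b8 * F.x7 t =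
    F.E ⟨a1, a2, b2, a3, a4, b4, a5, a6, b6, a7 + t, a8, b8⟩ := by
  rw [mul_assoc (F.x1 a1 * F.x2 a2 b2 * F.x3 a3 * F.x4 a4 b4 * F.x5 a5 * F.x6 a6 b6 * F.x7 a7) (F.x8 a8 b8) (F.x7 t), H.w87]
  simp only [← mul_assoc]
  rw [H.s7_7 a1 a2 b2 a3 a4 b4 a5 a6 b6 a7 t]
  rw [show F.E ⟨a1, a2, b2, a3, a4, b4, a5, a6, b6, a7 + t, 0, 0⟩ *
      F.x8 a8 b8 =
      F.E ⟨a1, a2, b2, a3, a4, b4, a5, a6, b6, a7 + t, a8, b8⟩ by
    rw [H.R8]
    refine congrArg F.E (Cd.ext ?_ ?_ ?_ ?_ ?_ ?_ ?_ ?_ ?_ ?_ ?_ ?_)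
    · first | with_reducible rfl | ((try simp only [map_add, map_mul, map_pow, map_zero, H.hs]) <;> ring1)
    · first | with_reducible rfl | ((try simp only [map_add, map_mul, map_pow, map_zero, H.hs]) <;> ring1)
    · first | with_reducible rfl | ((try simp only [map_add, map_mul, map_pow, map_zero, H.hs]) <;> ring1)
    · first | with_reducible rfl | ((try simp only [map_add, map_mul, map_pow, map_zero, H.hs]) <;> ring1)
    · first | with_reducible rfl | ((try simp only [map_add, map_mul, map_pow, map_zero, H.hs]) <;> ring1)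
    · first | with_reducible rfl | ((try simp only [map_add, map_mul, map_pow, map_zero, H.hs]) <;> ring1)
    · first | with_reducible rfl | ((try simp only [map_add, map_mul, map_pow, map_zero, H.hs]) <;> ring1)
    · first | with_reducible rfl | ((try simp only [map_add, map_mul, map_pow, map_zero, H.hs]) <;> ring1)
    · first | with_reducible rfl | ((try simp only [map_add, map_mul, map_pow, map_zero, H.hs]) <;> ring1)
    · first | with_reducible rfl | ((try simp only [map_add, map_mul, map_pow, map_zero, H.hs]) <;> ring1)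
    · first | with_reducible rfl | ((try simp only [map_add, map_mul, map_pow, map_zero, H.hs]) <;> ring1)
    · first | with_reducible rfl | ((try simp only [map_add, map_mul, map_pow, map_zero, H.hs]) <;> ring1)
    ]
/-- right multiplication by a root element of `X7` -/
theorem R7 (c : Cd K) (t : K) : F.E c * F.x7 t =
    F.E ⟨c.a1, c.a2, c.b2, c.a3, c.a4, c.b4, c.a5, c.a6, c.b6, c.a7 + t, c.a8, c.b8⟩ :=
  H.s7_8 c.a1 c.a2 c.b2 c.a3 c.a4 c.b4 c.a5 c.a6 c.b6 c.a7 c.a8 c.b8 t

theorem s6_6 (a1 a2 b2 a3 a4 b4 a5 a6 b6 p u : K) : F.x1 a1 * F.x2 a2 b2 * F.x3 a3 * F.x4 a4 b4 * F.x5 a5 * F.x6 a6 b6 * F.x6 p u =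
    F.E ⟨a1, a2, b2, a3, a4, b4, a5, a6 + p, b6 + u + a6 * σ p, 0, 0, 0⟩ := by
  rw [mul_assoc (F.x1 a1 * F.x2 a2 b2 * F.x3 a3 * F.x4 a4 b4 * F.x5 a5) (F.x6 a6 b6) (F.x6 p u), H.rel.m6]
  simp only [Fam.E, H.z1, H.z2, H.z3, H.z4, H.z5, H.z6, H.z7, H.z8, mul_one]
theorem s6_7 (a1 a2 b2 a3 a4 b4 a5 a6 b6 a7 p u : K) : F.x1 a1 * F.x2 a2 b2 * F.x3 a3 * F.x4 a4 b4 * F.x5 a5 * F.x6 a6 b6 * F.x7 a7 * F.x6 p u =
    F.E ⟨a1, a2, b2, a3, a4, b4, a5, a6 + p, b6 + u + a6 * σ p, a7, 0, 0⟩ := by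
  rw [mul_assoc (F.x1 a1 * F.x2 a2 b2 * F.x3 a3 * F.x4 a4 b4 * F.x5 a5 * F.x6 a6 b6) (F.x7 a7) (F.x6 p u), H.w76]
  simp only [← mul_assoc]
  rw [H.s6_6 a1 a2 b2 a3 a4 b4 a5 a6 b6 p u]
  rw [show F.E ⟨a1, a2, b2, a3, a4, b4, a5, a6 + p, b6 + u + a6 * σ p, 0, 0, 0⟩ *
      F.x7 a7 =
      F.E ⟨a1, a2, b2, a3, a4, b4, a5, a6 + p, b6 + u + a6 * σ p, a7, 0, 0⟩ by
    rw [H.R7]
    refine congrArg F.E (Cd.ext ?_ ?_ ?_ ?_ ?_ ?_ ?_ ?_ ?_ ?_ ?_ ?_)
    · first | with_reducible rfl | ((try simp only [map_add, map_mul, map_pow, map_zero, H.hs]) <;> ring1)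
    · first | with_reducible rfl | ((try simp only [map_add, map_mul, map_pow, map_zero, H.hs]) <;> ring1)
    · first | with_reducible rfl | ((try simp only [map_add, map_mul, map_pow, map_zero, H.hs]) <;> ring1)
    · first | with_reducible rfl | ((try simp only [map_add, map_mul, map_pow, map_zero, H.hs]) <;> ring1)
    · first | with_reducible rfl | ((try simp only [map_add, map_mul, map_pow, map_zero, H.hs]) <;> ring1)
    · first | with_reducible rfl | ((try simp only [map_add, map_mul, map_pow, map_zero, H.hs]) <;> ring1)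
    · first | with_reducible rfl | ((try simp only [map_add, map_mul, map_pow, map_zero, H.hs]) <;> ring1)
    · first | with_reducible rfl | ((try simp only [map_add, map_mul, map_pow, map_zero, H.hs]) <;> ring1)
    · first | with_reducible rfl | ((try simp only [map_add, map_mul, map_pow, map_zero, H.hs]) <;> ring1)
    · first | with_reducible rfl | ((try simp only [map_add, map_mul, map_pow, map_zero, H.hs]) <;> ring1)
    · first | with_reducible rfl | ((try simp only [map_add, map_mul, map_pow, map_zero, H.hs]) <;> ring1)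
    · first | with_reducible rfl | ((try simp only [map_add, map_mul, map_pow, map_zero, H.hs]) <;> ring1)
    ]
theorem s6_8 (a1 a2 b2 a3 a4 b4 a5 a6 b6 a7 a8 b8 p u : K) : F.x1 a1 * F.x2 a2 b2 * F.x3 a3 * F.x4 a4 b4 * F.x5 a5 * F.x6 a6 b6 * F.x7 a7 * F.x8 a8 b8 * F.x6 p u =
    F.E ⟨a1, a2, b2, a3, a4, b4, a5, a6 + p, b6 + u + a6 * σ p, a7 + a8 * p, a8, b8⟩ := by
  rw [mul_assoc (F.x1 a1 * F.x2 a2 b2 * F.x3 a3 * F.x4 a4 b4 * F.x5 a5 * F.x6 a6 b6 * F.x7 a7) (F.x8 a8 b8) (F.x6 p u), H.w86]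
  simp only [← mul_assoc]
  rw [H.s6_7 a1 a2 b2 a3 a4 b4 a5 a6 b6 a7 p u]
  rw [show F.E ⟨a1, a2, b2, a3, a4, b4, a5, a6 + p, b6 + u + a6 * σ p, a7, 0, 0⟩ *
      F.x8 a8 b8 =
      F.E ⟨a1, a2, b2, a3, a4, b4, a5, a6 + p, b6 + u + a6 * σ p, a7, a8, b8⟩ by
    rw [H.R8]
    refine congrArg F.E (Cd.ext ?_ ?_ ?_ ?_ ?_ ?_ ?_ ?_ ?_ ?_ ?_ ?_)
    · first | with_reducible rfl | ((try simp only [map_add, map_mul, map_pow, map_zero, H.hs]) <;> ring1)
    · first | with_reducible rfl | ((try simp only [map_add, map_mul, map_pow, map_zero, H.hs]) <;> ring1)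
    · first | with_reducible rfl | ((try simp only [map_add, map_mul, map_pow, map_zero, H.hs]) <;> ring1)
    · first | with_reducible rfl | ((try simp only [map_add, map_mul, map_pow, map_zero, H.hs]) <;> ring1)
    · first | with_reducible rfl | ((try simp only [map_add, map_mul, map_pow, map_zero, H.hs]) <;> ring1)
    · first | with_reducible rfl | ((try simp only [map_add, map_mul, map_pow, map_zero, H.hs]) <;> ring1)
    · first | with_reducible rfl | ((try simp only [map_add, map_mul, map_pow, map_zero, H.hs]) <;> ring1)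
    · first | with_reducible rfl | ((try simp only [map_add, map_mul, map_pow, map_zero, H.hs]) <;> ring1)
    · first | with_reducible rfl | ((try simp only [map_add, map_mul, map_pow, map_zero, H.hs]) <;> ring1)
    · first | with_reducible rfl | ((try simp only [map_add, map_mul, map_pow, map_zero, H.hs]) <;> ring1)
    · first | with_reducible rfl | ((try simp only [map_add, map_mul, map_pow, map_zero, H.hs]) <;> ring1)
    · first | with_reducible rfl | ((try simp only [map_add, map_mul, map_pow, map_zero, H.hs]) <;> ring1)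
    ]
  rw [show F.E ⟨a1, a2, b2, a3, a4, b4, a5, a6 + p, b6 + u + a6 * σ p, a7, a8, b8⟩ *
      F.x7 (p * a8) =
      F.E ⟨a1, a2, b2, a3, a4, b4, a5, a6 + p, b6 + u + a6 * σ p, a7 + a8 * p, a8, b8⟩ by
    rw [H.R7]
    refine congrArg F.E (Cd.ext ?_ ?_ ?_ ?_ ?_ ?_ ?_ ?_ ?_ ?_ ?_ ?_)
    · first | with_reducible rfl | ((try simp only [map_add, map_mul, map_pow, map_zero, H.hs]) <;> ring1)
    · first | with_reducible rfl | ((try simp only [map_add, map_mul, map_pow, map_zero, H.hs]) <;> ring1)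
    · first | with_reducible rfl | ((try simp only [map_add, map_mul, map_pow, map_zero, H.hs]) <;> ring1)
    · first | with_reducible rfl | ((try simp only [map_add, map_mul, map_pow, map_zero, H.hs]) <;> ring1)
    · first | with_reducible rfl | ((try simp only [map_add, map_mul, map_pow, map_zero, H.hs]) <;> ring1)
    · first | with_reducible rfl | ((try simp only [map_add, map_mul, map_pow, map_zero, H.hs]) <;> ring1)
    · first | with_reducible rfl | ((try simp only [map_add, map_mul, map_pow, map_zero, H.hs]) <;> ring1)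
    · first | with_reducible rfl | ((try simp only [map_add, map_mul, map_pow, map_zero, H.hs]) <;> ring1)
    · first | with_reducible rfl | ((try simp only [map_add, map_mul, map_pow, map_zero, H.hs]) <;> ring1)
    · first | with_reducible rfl | ((try simp only [map_add, map_mul, map_pow, map_zero, H.hs]) <;> ring1)
    · first | with_reducible rfl | ((try simp only [map_add, map_mul, map_pow, map_zero, H.hs]) <;> ring1)
    · first | with_reducible rfl | ((try simp only [map_add, map_mul, map_pow, map_zero, H.hs]) <;> ring1)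
    ]
/-- right multiplication by a root element of `X6` -/
theorem R6 (c : Cd K) (p u : K) : F.E c * F.x6 p u =
    F.E ⟨c.a1, c.a2, c.b2, c.a3, c.a4, c.b4, c.a5, c.a6 + p, c.b6 + u + c.a6 * σ p, c.a7 + c.a8 * p, c.a8, c.b8⟩ :=
  H.s6_8 c.a1 c.a2 c.b2 c.a3 c.a4 c.b4 c.a5 c.a6 c.b6 c.a7 c.a8 c.b8 p u

theorem s5_5 (a1 a2 b2 a3 a4 b4 a5 t : K) : F.x1 a1 * F.x2 a2 b2 * F.x3 a3 * F.x4 a4 b4 * F.x5 a5 * F.x5 t =
    F.E ⟨a1, a2, b2, a3, a4, b4, a5 + t, 0, 0, 0, 0, 0⟩ := by
  rw [mul_assoc (F.x1 a1 * F.x2 a2 b2 * F.x3 a3 * F.x4 a4 b4) (F.x5 a5) (F.x5 t), H.rel.m5]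
  simp only [Fam.E, H.z1, H.z2, H.z3, H.z4, H.z5, H.z6, H.z7, H.z8, mul_one]
theorem s5_6 (a1 a2 b2 a3 a4 b4 a5 a6 b6 t : K) : F.x1 a1 * F.x2 a2 b2 * F.x3 a3 * F.x4 a4 b4 * F.x5 a5 * F.x6 a6 b6 * F.x5 t =
    F.E ⟨a1, a2, b2, a3, a4, b4, a5 + t, a6, b6, 0, 0, 0⟩ := by
  rw [mul_assoc (F.x1 a1 * F.x2 a2 b2 * F.x3 a3 * F.x4 a4 b4 * F.x5 a5) (F.x6 a6 b6) (F.x5 t), H.w65]
  simp only [← mul_assoc]
  rw [H.s5_5 a1 a2 b2 a3 a4 b4 a5 t]
  rw [show F.E ⟨a1, a2, b2, a3, a4, b4, a5 + t, 0, 0, 0, 0, 0⟩ *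
      F.x6 a6 b6 =
      F.E ⟨a1, a2, b2, a3, a4, b4, a5 + t, a6, b6, 0, 0, 0⟩ by
    rw [H.R6]
    refine congrArg F.E (Cd.ext ?_ ?_ ?_ ?_ ?_ ?_ ?_ ?_ ?_ ?_ ?_ ?_)
    · first | with_reducible rfl | ((try simp only [map_add, map_mul, map_pow, map_zero, H.hs]) <;> ring1)
    · first | with_reducible rfl | ((try simp only [map_add, map_mul, map_pow, map_zero, H.hs]) <;> ring1)
    · first | with_reducible rfl | ((try simp only [map_add, map_mul, map_pow, map_zero, H.hs]) <;> ring1)
    · first | with_reducible rfl | ((try simp only [map_add, map_mul, map_pow, map_zero, H.hs]) <;> ring1)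
    · first | with_reducible rfl | ((try simp only [map_add, map_mul, map_pow, map_zero, H.hs]) <;> ring1)
    · first | with_reducible rfl | ((try simp only [map_add, map_mul, map_pow, map_zero, H.hs]) <;> ring1)
    · first | with_reducible rfl | ((try simp only [map_add, map_mul, map_pow, map_zero, H.hs]) <;> ring1)
    · first | with_reducible rfl | ((try simp only [map_add, map_mul, map_pow, map_zero, H.hs]) <;> ring1)
    · first | with_reducible rfl | ((try simp only [map_add, map_mul, map_pow, map_zero, H.hs]) <;> ring1)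
    · first | with_reducible rfl | ((try simp only [map_add, map_mul, map_pow, map_zero, H.hs]) <;> ring1)
    · first | with_reducible rfl | ((try simp only [map_add, map_mul, map_pow, map_zero, H.hs]) <;> ring1)
    · first | with_reducible rfl | ((try simp only [map_add, map_mul, map_pow, map_zero, H.hs]) <;> ring1)
    ]
theorem s5_7 (a1 a2 b2 a3 a4 b4 a5 a6 b6 a7 t : K) : F.x1 a1 * F.x2 a2 b2 * F.x3 a3 * F.x4 a4 b4 * F.x5 a5 * F.x6 a6 b6 * F.x7 a7 * F.x5 t =
    F.E ⟨a1, a2, b2, a3, a4, b4, a5 + t, a6, b6, a7, 0, 0⟩ := by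
  rw [mul_assoc (F.x1 a1 * F.x2 a2 b2 * F.x3 a3 * F.x4 a4 b4 * F.x5 a5 * F.x6 a6 b6) (F.x7 a7) (F.x5 t), H.w75]
  simp only [← mul_assoc]
  rw [H.s5_6 a1 a2 b2 a3 a4 b4 a5 a6 b6 t]
  rw [show F.E ⟨a1, a2, b2, a3, a4, b4, a5 + t, a6, b6, 0, 0, 0⟩ *
      F.x7 a7 =
      F.E ⟨a1, a2, b2, a3, a4, b4, a5 + t, a6, b6, a7, 0, 0⟩ by
    rw [H.R7]
    refine congrArg F.E (Cd.ext ?_ ?_ ?_ ?_ ?_ ?_ ?_ ?_ ?_ ?_ ?_ ?_)
    · first | with_reducible rfl | ((try simp only [map_add, map_mul, map_pow, map_zero, H.hs]) <;> ring1)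
    · first | with_reducible rfl | ((try simp only [map_add, map_mul, map_pow, map_zero, H.hs]) <;> ring1)
    · first | with_reducible rfl | ((try simp only [map_add, map_mul, map_pow, map_zero, H.hs]) <;> ring1)
    · first | with_reducible rfl | ((try simp only [map_add, map_mul, map_pow, map_zero, H.hs]) <;> ring1)
    · first | with_reducible rfl | ((try simp only [map_add, map_mul, map_pow, map_zero, H.hs]) <;> ring1)
    · first | with_reducible rfl | ((try simp only [map_add, map_mul, map_pow, map_zero, H.hs]) <;> ring1)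
    · first | with_reducible rfl | ((try simp only [map_add, map_mul, map_pow, map_zero, H.hs]) <;> ring1)
    · first | with_reducible rfl | ((try simp only [map_add, map_mul, map_pow, map_zero, H.hs]) <;> ring1)
    · first | with_reducible rfl | ((try simp only [map_add, map_mul, map_pow, map_zero, H.hs]) <;> ring1)
    · first | with_reducible rfl | ((try simp only [map_add, map_mul, map_pow, map_zero, H.hs]) <;> ring1)
    · first | with_reducible rfl | ((try simp only [map_add, map_mul, map_pow, map_zero, H.hs]) <;> ring1)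
    · first | with_reducible rfl | ((try simp only [map_add, map_mul, map_pow, map_zero, H.hs]) <;> ring1)
    ]
theorem s5_8 (a1 a2 b2 a3 a4 b4 a5 a6 b6 a7 a8 b8 t : K) : F.x1 a1 * F.x2 a2 b2 * F.x3 a3 * F.x4 a4 b4 * F.x5 a5 * F.x6 a6 b6 * F.x7 a7 * F.x8 a8 b8 * F.x5 t =
    F.E ⟨a1, a2, b2, a3, a4, b4, a5 + t, a6, b6 + a8 * t, a7, a8, b8⟩ := by
  rw [mul_assoc (F.x1 a1 * F.x2 a2 b2 * F.x3 a3 * F.x4 a4 b4 * F.x5 a5 * F.x6 a6 b6 * F.x7 a7) (F.x8 a8 b8) (F.x5 t), H.w85]
  simp only [← mul_assoc]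
  rw [H.s5_7 a1 a2 b2 a3 a4 b4 a5 a6 b6 a7 t]
  rw [show F.E ⟨a1, a2, b2, a3, a4, b4, a5 + t, a6, b6, a7, 0, 0⟩ *
      F.x8 a8 b8 =
      F.E ⟨a1, a2, b2, a3, a4, b4, a5 + t, a6, b6, a7, a8, b8⟩ by
    rw [H.R8]
    refine congrArg F.E (Cd.ext ?_ ?_ ?_ ?_ ?_ ?_ ?_ ?_ ?_ ?_ ?_ ?_)
    · first | with_reducible rfl | ((try simp only [map_add, map_mul, map_pow, map_zero, H.hs]) <;> ring1)
    · first | with_reducible rfl | ((try simp only [map_add, map_mul, map_pow, map_zero, H.hs]) <;> ring1)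
    · first | with_reducible rfl | ((try simp only [map_add, map_mul, map_pow, map_zero, H.hs]) <;> ring1)
    · first | with_reducible rfl | ((try simp only [map_add, map_mul, map_pow, map_zero, H.hs]) <;> ring1)
    · first | with_reducible rfl | ((try simp only [map_add, map_mul, map_pow, map_zero, H.hs]) <;> ring1)
    · first | with_reducible rfl | ((try simp only [map_add, map_mul, map_pow, map_zero, H.hs]) <;> ring1)
    · first | with_reducible rfl | ((try simp only [map_add, map_mul, map_pow, map_zero, H.hs]) <;> ring1)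
    · first | with_reducible rfl | ((try simp only [map_add, map_mul, map_pow, map_zero, H.hs]) <;> ring1)
    · first | with_reducible rfl | ((try simp only [map_add, map_mul, map_pow, map_zero, H.hs]) <;> ring1)
    · first | with_reducible rfl | ((try simp only [map_add, map_mul, map_pow, map_zero, H.hs]) <;> ring1)
    · first | with_reducible rfl | ((try simp only [map_add, map_mul, map_pow, map_zero, H.hs]) <;> ring1)
    · first | with_reducible rfl | ((try simp only [map_add, map_mul, map_pow, map_zero, H.hs]) <;> ring1)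
    ]
  rw [show F.E ⟨a1, a2, b2, a3, a4, b4, a5 + t, a6, b6, a7, a8, b8⟩ *
      F.x6 (0) (a8 * t) =
      F.E ⟨a1, a2, b2, a3, a4, b4, a5 + t, a6, b6 + a8 * t, a7, a8, b8⟩ by
    rw [H.R6]
    refine congrArg F.E (Cd.ext ?_ ?_ ?_ ?_ ?_ ?_ ?_ ?_ ?_ ?_ ?_ ?_)
    · first | with_reducible rfl | ((try simp only [map_add, map_mul, map_pow, map_zero, H.hs]) <;> ring1)
    · first | with_reducible rfl | ((try simp only [map_add, map_mul, map_pow, map_zero, H.hs]) <;> ring1)
    · first | with_reducible rfl | ((try simp only [map_add, map_mul, map_pow, map_zero, H.hs]) <;> ring1)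
    · first | with_reducible rfl | ((try simp only [map_add, map_mul, map_pow, map_zero, H.hs]) <;> ring1)
    · first | with_reducible rfl | ((try simp only [map_add, map_mul, map_pow, map_zero, H.hs]) <;> ring1)
    · first | with_reducible rfl | ((try simp only [map_add, map_mul, map_pow, map_zero, H.hs]) <;> ring1)
    · first | with_reducible rfl | ((try simp only [map_add, map_mul, map_pow, map_zero, H.hs]) <;> ring1)
    · first | with_reducible rfl | ((try simp only [map_add, map_mul, map_pow, map_zero, H.hs]) <;> ring1)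
    · first | with_reducible rfl | ((try simp only [map_add, map_mul, map_pow, map_zero, H.hs]) <;> ring1)
    · first | with_reducible rfl | ((try simp only [map_add, map_mul, map_pow, map_zero, H.hs]) <;> ring1)
    · first | with_reducible rfl | ((try simp only [map_add, map_mul, map_pow, map_zero, H.hs]) <;> ring1)
    · first | with_reducible rfl | ((try simp only [map_add, map_mul, map_pow, map_zero, H.hs]) <;> ring1)
    ]
/-- right multiplication by a root element of `X5` -/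
theorem R5 (c : Cd K) (t : K) : F.E c * F.x5 t =
    F.E ⟨c.a1, c.a2, c.b2, c.a3, c.a4, c.b4, c.a5 + t, c.a6, c.b6 + c.a8 * t, c.a7, c.a8, c.b8⟩ :=
  H.s5_8 c.a1 c.a2 c.b2 c.a3 c.a4 c.b4 c.a5 c.a6 c.b6 c.a7 c.a8 c.b8 t

theorem s4_4 (a1 a2 b2 a3 a4 b4 p u : K) : F.x1 a1 * F.x2 a2 b2 * F.x3 a3 * F.x4 a4 b4 * F.x4 p u =
    F.E ⟨a1, a2, b2, a3, a4 + p, b4 + u + a4 * σ p, 0, 0, 0, 0, 0, 0⟩ := by
  rw [mul_assoc (F.x1 a1 * F.x2 a2 b2 * F.x3 a3) (F.x4 a4 b4) (F.x4 p u), H.rel.m4]
  simp only [Fam.E, H.z1, H.z2, H.z3, H.z4, H.z5, H.z6, H.z7, H.z8, mul_one]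
theorem s4_5 (a1 a2 b2 a3 a4 b4 a5 p u : K) : F.x1 a1 * F.x2 a2 b2 * F.x3 a3 * F.x4 a4 b4 * F.x5 a5 * F.x4 p u =
    F.E ⟨a1, a2, b2, a3, a4 + p, b4 + u + a4 * σ p, a5, 0, 0, 0, 0, 0⟩ := by
  rw [mul_assoc (F.x1 a1 * F.x2 a2 b2 * F.x3 a3 * F.x4 a4 b4) (F.x5 a5) (F.x4 p u), H.w54]
  simp only [← mul_assoc]
  rw [H.s4_4 a1 a2 b2 a3 a4 b4 p u]
  rw [show F.E ⟨a1, a2, b2, a3, a4 + p, b4 + u + a4 * σ p, 0, 0, 0, 0, 0, 0⟩ *
      F.x5 a5 =
      F.E ⟨a1, a2, b2, a3, a4 + p, b4 + u + a4 * σ p, a5, 0, 0, 0, 0, 0⟩ by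
    rw [H.R5]
    refine congrArg F.E (Cd.ext ?_ ?_ ?_ ?_ ?_ ?_ ?_ ?_ ?_ ?_ ?_ ?_)
    · first | with_reducible rfl | ((try simp only [map_add, map_mul, map_pow, map_zero, H.hs]) <;> ring1)
    · first | with_reducible rfl | ((try simp only [map_add, map_mul, map_pow, map_zero, H.hs]) <;> ring1)
    · first | with_reducible rfl | ((try simp only [map_add, map_mul, map_pow, map_zero, H.hs]) <;> ring1)
    · first | with_reducible rfl | ((try simp only [map_add, map_mul, map_pow, map_zero, H.hs]) <;> ring1)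
    · first | with_reducible rfl | ((try simp only [map_add, map_mul, map_pow, map_zero, H.hs]) <;> ring1)
    · first | with_reducible rfl | ((try simp only [map_add, map_mul, map_pow, map_zero, H.hs]) <;> ring1)
    · first | with_reducible rfl | ((try simp only [map_add, map_mul, map_pow, map_zero, H.hs]) <;> ring1)
    · first | with_reducible rfl | ((try simp only [map_add, map_mul, map_pow, map_zero, H.hs]) <;> ring1)
    · first | with_reducible rfl | ((try simp only [map_add, map_mul, map_pow, map_zero, H.hs]) <;> ring1)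
    · first | with_reducible rfl | ((try simp only [map_add, map_mul, map_pow, map_zero, H.hs]) <;> ring1)
    · first | with_reducible rfl | ((try simp only [map_add, map_mul, map_pow, map_zero, H.hs]) <;> ring1)
    · first | with_reducible rfl | ((try simp only [map_add, map_mul, map_pow, map_zero, H.hs]) <;> ring1)
    ]
theorem s4_6 (a1 a2 b2 a3 a4 b4 a5 a6 b6 p u : K) : F.x1 a1 * F.x2 a2 b2 * F.x3 a3 * F.x4 a4 b4 * F.x5 a5 * F.x6 a6 b6 * F.x4 p u =
    F.E ⟨a1, a2, b2, a3, a4 + p, b4 + u + a4 * σ p, a5 + a6 * p, a6, b6, 0, 0, 0⟩ := by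
  rw [mul_assoc (F.x1 a1 * F.x2 a2 b2 * F.x3 a3 * F.x4 a4 b4 * F.x5 a5) (F.x6 a6 b6) (F.x4 p u), H.w64]
  simp only [← mul_assoc]
  rw [H.s4_5 a1 a2 b2 a3 a4 b4 a5 p u]
  rw [show F.E ⟨a1, a2, b2, a3, a4 + p, b4 + u + a4 * σ p, a5, 0, 0, 0, 0, 0⟩ *
      F.x6 a6 b6 =
      F.E ⟨a1, a2, b2, a3, a4 + p, b4 + u + a4 * σ p, a5, a6, b6, 0, 0, 0⟩ by
    rw [H.R6]
    refine congrArg F.E (Cd.ext ?_ ?_ ?_ ?_ ?_ ?_ ?_ ?_ ?_ ?_ ?_ ?_)
    · first | with_reducible rfl | ((try simp only [map_add, map_mul, map_pow, map_zero, H.hs]) <;> ring1)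
    · first | with_reducible rfl | ((try simp only [map_add, map_mul, map_pow, map_zero, H.hs]) <;> ring1)
    · first | with_reducible rfl | ((try simp only [map_add, map_mul, map_pow, map_zero, H.hs]) <;> ring1)
    · first | with_reducible rfl | ((try simp only [map_add, map_mul, map_pow, map_zero, H.hs]) <;> ring1)
    · first | with_reducible rfl | ((try simp only [map_add, map_mul, map_pow, map_zero, H.hs]) <;> ring1)
    · first | with_reducible rfl | ((try simp only [map_add, map_mul, map_pow, map_zero, H.hs]) <;> ring1)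
    · first | with_reducible rfl | ((try simp only [map_add, map_mul, map_pow, map_zero, H.hs]) <;> ring1)
    · first | with_reducible rfl | ((try simp only [map_add, map_mul, map_pow, map_zero, H.hs]) <;> ring1)
    · first | with_reducible rfl | ((try simp only [map_add, map_mul, map_pow, map_zero, H.hs]) <;> ring1)
    · first | with_reducible rfl | ((try simp only [map_add, map_mul, map_pow, map_zero, H.hs]) <;> ring1)
    · first | with_reducible rfl | ((try simp only [map_add, map_mul, map_pow, map_zero, H.hs]) <;> ring1)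
    · first | with_reducible rfl | ((try simp only [map_add, map_mul, map_pow, map_zero, H.hs]) <;> ring1)
    ]
  rw [show F.E ⟨a1, a2, b2, a3, a4 + p, b4 + u + a4 * σ p, a5, a6, b6, 0, 0, 0⟩ *
      F.x5 (p * a6) =
      F.E ⟨a1, a2, b2, a3, a4 + p, b4 + u + a4 * σ p, a5 + a6 * p, a6, b6, 0, 0, 0⟩ by
    rw [H.R5]
    refine congrArg F.E (Cd.ext ?_ ?_ ?_ ?_ ?_ ?_ ?_ ?_ ?_ ?_ ?_ ?_)
    · first | with_reducible rfl | ((try simp only [map_add, map_mul, map_pow, map_zero, H.hs]) <;> ring1)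
    · first | with_reducible rfl | ((try simp only [map_add, map_mul, map_pow, map_zero, H.hs]) <;> ring1)
    · first | with_reducible rfl | ((try simp only [map_add, map_mul, map_pow, map_zero, H.hs]) <;> ring1)
    · first | with_reducible rfl | ((try simp only [map_add, map_mul, map_pow, map_zero, H.hs]) <;> ring1)
    · first | with_reducible rfl | ((try simp only [map_add, map_mul, map_pow, map_zero, H.hs]) <;> ring1)
    · first | with_reducible rfl | ((try simp only [map_add, map_mul, map_pow, map_zero, H.hs]) <;> ring1)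
    · first | with_reducible rfl | ((try simp only [map_add, map_mul, map_pow, map_zero, H.hs]) <;> ring1)
    · first | with_reducible rfl | ((try simp only [map_add, map_mul, map_pow, map_zero, H.hs]) <;> ring1)
    · first | with_reducible rfl | ((try simp only [map_add, map_mul, map_pow, map_zero, H.hs]) <;> ring1)
    · first | with_reducible rfl | ((try simp only [map_add, map_mul, map_pow, map_zero, H.hs]) <;> ring1)
    · first | with_reducible rfl | ((try simp only [map_add, map_mul, map_pow, map_zero, H.hs]) <;> ring1)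
    · first | with_reducible rfl | ((try simp only [map_add, map_mul, map_pow, map_zero, H.hs]) <;> ring1)
    ]
theorem s4_7 (a1 a2 b2 a3 a4 b4 a5 a6 b6 a7 p u : K) : F.x1 a1 * F.x2 a2 b2 * F.x3 a3 * F.x4 a4 b4 * F.x5 a5 * F.x6 a6 b6 * F.x7 a7 * F.x4 p u =
    F.E ⟨a1, a2, b2, a3, a4 + p, b4 + u + a4 * σ p, a5 + a6 * p, a6, b6 + a7 * p, a7, 0, 0⟩ := by
  rw [mul_assoc (F.x1 a1 * F.x2 a2 b2 * F.x3 a3 * F.x4 a4 b4 * F.x5 a5 * F.x6 a6 b6) (F.x7 a7) (F.x4 p u), H.w74]
  simp only [← mul_assoc]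
  rw [H.s4_6 a1 a2 b2 a3 a4 b4 a5 a6 b6 p u]
  rw [show F.E ⟨a1, a2, b2, a3, a4 + p, b4 + u + a4 * σ p, a5 + a6 * p, a6, b6, 0, 0, 0⟩ *
      F.x7 a7 =
      F.E ⟨a1, a2, b2, a3, a4 + p, b4 + u + a4 * σ p, a5 + a6 * p, a6, b6, a7, 0, 0⟩ by
    rw [H.R7]
    refine congrArg F.E (Cd.ext ?_ ?_ ?_ ?_ ?_ ?_ ?_ ?_ ?_ ?_ ?_ ?_)
    · first | with_reducible rfl | ((try simp only [map_add, map_mul, map_pow, map_zero, H.hs]) <;> ring1)
    · first | with_reducible rfl | ((try simp only [map_add, map_mul, map_pow, map_zero, H.hs]) <;> ring1)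
    · first | with_reducible rfl | ((try simp only [map_add, map_mul, map_pow, map_zero, H.hs]) <;> ring1)
    · first | with_reducible rfl | ((try simp only [map_add, map_mul, map_pow, map_zero, H.hs]) <;> ring1)
    · first | with_reducible rfl | ((try simp only [map_add, map_mul, map_pow, map_zero, H.hs]) <;> ring1)
    · first | with_reducible rfl | ((try simp only [map_add, map_mul, map_pow, map_zero, H.hs]) <;> ring1)
    · first | with_reducible rfl | ((try simp only [map_add, map_mul, map_pow, map_zero, H.hs]) <;> ring1)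
    · first | with_reducible rfl | ((try simp only [map_add, map_mul, map_pow, map_zero, H.hs]) <;> ring1)
    · first | with_reducible rfl | ((try simp only [map_add, map_mul, map_pow, map_zero, H.hs]) <;> ring1)
    · first | with_reducible rfl | ((try simp only [map_add, map_mul, map_pow, map_zero, H.hs]) <;> ring1)
    · first | with_reducible rfl | ((try simp only [map_add, map_mul, map_pow, map_zero, H.hs]) <;> ring1)
    · first | with_reducible rfl | ((try simp only [map_add, map_mul, map_pow, map_zero, H.hs]) <;> ring1)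
    ]
  rw [show F.E ⟨a1, a2, b2, a3, a4 + p, b4 + u + a4 * σ p, a5 + a6 * p, a6, b6, a7, 0, 0⟩ *
      F.x6 (0) (p * a7) =
      F.E ⟨a1, a2, b2, a3, a4 + p, b4 + u + a4 * σ p, a5 + a6 * p, a6, b6 + a7 * p, a7, 0, 0⟩ by
    rw [H.R6]
    refine congrArg F.E (Cd.ext ?_ ?_ ?_ ?_ ?_ ?_ ?_ ?_ ?_ ?_ ?_ ?_)
    · first | with_reducible rfl | ((try simp only [map_add, map_mul, map_pow, map_zero, H.hs]) <;> ring1)
    · first | with_reducible rfl | ((try simp only [map_add, map_mul, map_pow, map_zero, H.hs]) <;> ring1)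
    · first | with_reducible rfl | ((try simp only [map_add, map_mul, map_pow, map_zero, H.hs]) <;> ring1)
    · first | with_reducible rfl | ((try simp only [map_add, map_mul, map_pow, map_zero, H.hs]) <;> ring1)
    · first | with_reducible rfl | ((try simp only [map_add, map_mul, map_pow, map_zero, H.hs]) <;> ring1)
    · first | with_reducible rfl | ((try simp only [map_add, map_mul, map_pow, map_zero, H.hs]) <;> ring1)
    · first | with_reducible rfl | ((try simp only [map_add, map_mul, map_pow, map_zero, H.hs]) <;> ring1)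
    · first | with_reducible rfl | ((try simp only [map_add, map_mul, map_pow, map_zero, H.hs]) <;> ring1)
    · first | with_reducible rfl | ((try simp only [map_add, map_mul, map_pow, map_zero, H.hs]) <;> ring1)
    · first | with_reducible rfl | ((try simp only [map_add, map_mul, map_pow, map_zero, H.hs]) <;> ring1)
    · first | with_reducible rfl | ((try simp only [map_add, map_mul, map_pow, map_zero, H.hs]) <;> ring1)
    · first | with_reducible rfl | ((try simp only [map_add, map_mul, map_pow, map_zero, H.hs]) <;> ring1)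
    ]
theorem s4_8 (a1 a2 b2 a3 a4 b4 a5 a6 b6 a7 a8 b8 p u : K) : F.x1 a1 * F.x2 a2 b2 * F.x3 a3 * F.x4 a4 b4 * F.x5 a5 * F.x6 a6 b6 * F.x7 a7 * F.x8 a8 b8 * F.x4 p u =
    F.E ⟨a1, a2, b2, a3, a4 + p, b4 + u + a4 * σ p, a5 + a6 * p, a6, b6 + a7 * p, a7, a8, b8⟩ := by
  rw [mul_assoc (F.x1 a1 * F.x2 a2 b2 * F.x3 a3 * F.x4 a4 b4 * F.x5 a5 * F.x6 a6 b6 * F.x7 a7) (F.x8 a8 b8) (F.x4 p u), H.w84]
  simp only [← mul_assoc]
  rw [H.s4_7 a1 a2 b2 a3 a4 b4 a5 a6 b6 a7 p u]
  rw [show F.E ⟨a1, a2, b2, a3, a4 + p, b4 + u + a4 * σ p, a5 + a6 * p, a6, b6 + a7 * p, a7, 0, 0⟩ *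
      F.x8 a8 b8 =
      F.E ⟨a1, a2, b2, a3, a4 + p, b4 + u + a4 * σ p, a5 + a6 * p, a6, b6 + a7 * p, a7, a8, b8⟩ by
    rw [H.R8]
    refine congrArg F.E (Cd.ext ?_ ?_ ?_ ?_ ?_ ?_ ?_ ?_ ?_ ?_ ?_ ?_)
    · first | with_reducible rfl | ((try simp only [map_add, map_mul, map_pow, map_zero, H.hs]) <;> ring1)
    · first | with_reducible rfl | ((try simp only [map_add, map_mul, map_pow, map_zero, H.hs]) <;> ring1)
    · first | with_reducible rfl | ((try simp only [map_add, map_mul, map_pow, map_zero, H.hs]) <;> ring1)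
    · first | with_reducible rfl | ((try simp only [map_add, map_mul, map_pow, map_zero, H.hs]) <;> ring1)
    · first | with_reducible rfl | ((try simp only [map_add, map_mul, map_pow, map_zero, H.hs]) <;> ring1)
    · first | with_reducible rfl | ((try simp only [map_add, map_mul, map_pow, map_zero, H.hs]) <;> ring1)
    · first | with_reducible rfl | ((try simp only [map_add, map_mul, map_pow, map_zero, H.hs]) <;> ring1)
    · first | with_reducible rfl | ((try simp only [map_add, map_mul, map_pow, map_zero, H.hs]) <;> ring1)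
    · first | with_reducible rfl | ((try simp only [map_add, map_mul, map_pow, map_zero, H.hs]) <;> ring1)
    · first | with_reducible rfl | ((try simp only [map_add, map_mul, map_pow, map_zero, H.hs]) <;> ring1)
    · first | with_reducible rfl | ((try simp only [map_add, map_mul, map_pow, map_zero, H.hs]) <;> ring1)
    · first | with_reducible rfl | ((try simp only [map_add, map_mul, map_pow, map_zero, H.hs]) <;> ring1)
    ]
/-- right multiplication by a root element of `X4` -/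
theorem R4 (c : Cd K) (p u : K) : F.E c * F.x4 p u =
    F.E ⟨c.a1, c.a2, c.b2, c.a3, c.a4 + p, c.b4 + u + c.a4 * σ p, c.a5 + c.a6 * p, c.a6, c.b6 + c.a7 * p, c.a7, c.a8,
      c.b8⟩ :=
  H.s4_8 c.a1 c.a2 c.b2 c.a3 c.a4 c.b4 c.a5 c.a6 c.b6 c.a7 c.a8 c.b8 p u

theorem s3_3 (a1 a2 b2 a3 t : K) : F.x1 a1 * F.x2 a2 b2 * F.x3 a3 * F.x3 t =
    F.E ⟨a1, a2, b2, a3 + t, 0, 0, 0, 0, 0, 0, 0, 0⟩ := by
  rw [mul_assoc (F.x1 a1 * F.x2 a2 b2) (F.x3 a3) (F.x3 t), H.rel.m3]
  simp only [Fam.E, H.z1, H.z2, H.z3, H.z4, H.z5, H.z6, H.z7, H.z8, mul_one]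
theorem s3_4 (a1 a2 b2 a3 a4 b4 t : K) : F.x1 a1 * F.x2 a2 b2 * F.x3 a3 * F.x4 a4 b4 * F.x3 t =
    F.E ⟨a1, a2, b2, a3 + t, a4, b4, 0, 0, 0, 0, 0, 0⟩ := by
  rw [mul_assoc (F.x1 a1 * F.x2 a2 b2 * F.x3 a3) (F.x4 a4 b4) (F.x3 t), H.w43]
  simp only [← mul_assoc]
  rw [H.s3_3 a1 a2 b2 a3 t]
  rw [show F.E ⟨a1, a2, b2, a3 + t, 0, 0, 0, 0, 0, 0, 0, 0⟩ *
      F.x4 a4 b4 =
      F.E ⟨a1, a2, b2, a3 + t, a4, b4, 0, 0, 0, 0, 0, 0⟩ by
    rw [H.R4]
    refine congrArg F.E (Cd.ext ?_ ?_ ?_ ?_ ?_ ?_ ?_ ?_ ?_ ?_ ?_ ?_)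
    · first | with_reducible rfl | ((try simp only [map_add, map_mul, map_pow, map_zero, H.hs]) <;> ring1)
    · first | with_reducible rfl | ((try simp only [map_add, map_mul, map_pow, map_zero, H.hs]) <;> ring1)
    · first | with_reducible rfl | ((try simp only [map_add, map_mul, map_pow, map_zero, H.hs]) <;> ring1)
    · first | with_reducible rfl | ((try simp only [map_add, map_mul, map_pow, map_zero, H.hs]) <;> ring1)
    · first | with_reducible rfl | ((try simp only [map_add, map_mul, map_pow, map_zero, H.hs]) <;> ring1)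
    · first | with_reducible rfl | ((try simp only [map_add, map_mul, map_pow, map_zero, H.hs]) <;> ring1)
    · first | with_reducible rfl | ((try simp only [map_add, map_mul, map_pow, map_zero, H.hs]) <;> ring1)
    · first | with_reducible rfl | ((try simp only [map_add, map_mul, map_pow, map_zero, H.hs]) <;> ring1)
    · first | with_reducible rfl | ((try simp only [map_add, map_mul, map_pow, map_zero, H.hs]) <;> ring1)
    · first | with_reducible rfl | ((try simp only [map_add, map_mul, map_pow, map_zero, H.hs]) <;> ring1)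
    · first | with_reducible rfl | ((try simp only [map_add, map_mul, map_pow, map_zero, H.hs]) <;> ring1)
    · first | with_reducible rfl | ((try simp only [map_add, map_mul, map_pow, map_zero, H.hs]) <;> ring1)
    ]
theorem s3_5 (a1 a2 b2 a3 a4 b4 a5 t : K) : F.x1 a1 * F.x2 a2 b2 * F.x3 a3 * F.x4 a4 b4 * F.x5 a5 * F.x3 t =
    F.E ⟨a1, a2, b2, a3 + t, a4, b4, a5, 0, 0, 0, 0, 0⟩ := by
  rw [mul_assoc (F.x1 a1 * F.x2 a2 b2 * F.x3 a3 * F.x4 a4 b4) (F.x5 a5) (F.x3 t), H.w53]
  simp only [← mul_assoc]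
  rw [H.s3_4 a1 a2 b2 a3 a4 b4 t]
  rw [show F.E ⟨a1, a2, b2, a3 + t, a4, b4, 0, 0, 0, 0, 0, 0⟩ *
      F.x5 a5 =
      F.E ⟨a1, a2, b2, a3 + t, a4, b4, a5, 0, 0, 0, 0, 0⟩ by
    rw [H.R5]
    refine congrArg F.E (Cd.ext ?_ ?_ ?_ ?_ ?_ ?_ ?_ ?_ ?_ ?_ ?_ ?_)
    · first | with_reducible rfl | ((try simp only [map_add, map_mul, map_pow, map_zero, H.hs]) <;> ring1)
    · first | with_reducible rfl | ((try simp only [map_add, map_mul, map_pow, map_zero, H.hs]) <;> ring1)
    · first | with_reducible rfl | ((try simp only [map_add, map_mul, map_pow, map_zero, H.hs]) <;> ring1)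
    · first | with_reducible rfl | ((try simp only [map_add, map_mul, map_pow, map_zero, H.hs]) <;> ring1)
    · first | with_reducible rfl | ((try simp only [map_add, map_mul, map_pow, map_zero, H.hs]) <;> ring1)
    · first | with_reducible rfl | ((try simp only [map_add, map_mul, map_pow, map_zero, H.hs]) <;> ring1)
    · first | with_reducible rfl | ((try simp only [map_add, map_mul, map_pow, map_zero, H.hs]) <;> ring1)
    · first | with_reducible rfl | ((try simp only [map_add, map_mul, map_pow, map_zero, H.hs]) <;> ring1)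
    · first | with_reducible rfl | ((try simp only [map_add, map_mul, map_pow, map_zero, H.hs]) <;> ring1)
    · first | with_reducible rfl | ((try simp only [map_add, map_mul, map_pow, map_zero, H.hs]) <;> ring1)
    · first | with_reducible rfl | ((try simp only [map_add, map_mul, map_pow, map_zero, H.hs]) <;> ring1)
    · first | with_reducible rfl | ((try simp only [map_add, map_mul, map_pow, map_zero, H.hs]) <;> ring1)
    ]
theorem s3_6 (a1 a2 b2 a3 a4 b4 a5 a6 b6 t : K) : F.x1 a1 * F.x2 a2 b2 * F.x3 a3 * F.x4 a4 b4 * F.x5 a5 * F.x6 a6 b6 * F.x3 t =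
    F.E ⟨a1, a2, b2, a3 + t, a4, b4 + a6 * t, a5, a6, b6, 0, 0, 0⟩ := by
  rw [mul_assoc (F.x1 a1 * F.x2 a2 b2 * F.x3 a3 * F.x4 a4 b4 * F.x5 a5) (F.x6 a6 b6) (F.x3 t), H.w63]
  simp only [← mul_assoc]
  rw [H.s3_5 a1 a2 b2 a3 a4 b4 a5 t]
  rw [show F.E ⟨a1, a2, b2, a3 + t, a4, b4, a5, 0, 0, 0, 0, 0⟩ *
      F.x6 a6 b6 =
      F.E ⟨a1, a2, b2, a3 + t, a4, b4, a5, a6, b6, 0, 0, 0⟩ by
    rw [H.R6]
    refine congrArg F.E (Cd.ext ?_ ?_ ?_ ?_ ?_ ?_ ?_ ?_ ?_ ?_ ?_ ?_)
    · first | with_reducible rfl | ((try simp only [map_add, map_mul, map_pow, map_zero, H.hs]) <;> ring1)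
    · first | with_reducible rfl | ((try simp only [map_add, map_mul, map_pow, map_zero, H.hs]) <;> ring1)
    · first | with_reducible rfl | ((try simp only [map_add, map_mul, map_pow, map_zero, H.hs]) <;> ring1)
    · first | with_reducible rfl | ((try simp only [map_add, map_mul, map_pow, map_zero, H.hs]) <;> ring1)
    · first | with_reducible rfl | ((try simp only [map_add, map_mul, map_pow, map_zero, H.hs]) <;> ring1)
    · first | with_reducible rfl | ((try simp only [map_add, map_mul, map_pow, map_zero, H.hs]) <;> ring1)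
    · first | with_reducible rfl | ((try simp only [map_add, map_mul, map_pow, map_zero, H.hs]) <;> ring1)
    · first | with_reducible rfl | ((try simp only [map_add, map_mul, map_pow, map_zero, H.hs]) <;> ring1)
    · first | with_reducible rfl | ((try simp only [map_add, map_mul, map_pow, map_zero, H.hs]) <;> ring1)
    · first | with_reducible rfl | ((try simp only [map_add, map_mul, map_pow, map_zero, H.hs]) <;> ring1)
    · first | with_reducible rfl | ((try simp only [map_add, map_mul, map_pow, map_zero, H.hs]) <;> ring1)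
    · first | with_reducible rfl | ((try simp only [map_add, map_mul, map_pow, map_zero, H.hs]) <;> ring1)
    ]
  rw [show F.E ⟨a1, a2, b2, a3 + t, a4, b4, a5, a6, b6, 0, 0, 0⟩ *
      F.x4 (0) (a6 * t) =
      F.E ⟨a1, a2, b2, a3 + t, a4, b4 + a6 * t, a5, a6, b6, 0, 0, 0⟩ by
    rw [H.R4]
    refine congrArg F.E (Cd.ext ?_ ?_ ?_ ?_ ?_ ?_ ?_ ?_ ?_ ?_ ?_ ?_)
    · first | with_reducible rfl | ((try simp only [map_add, map_mul, map_pow, map_zero, H.hs]) <;> ring1)
    · first | with_reducible rfl | ((try simp only [map_add, map_mul, map_pow, map_zero, H.hs]) <;> ring1)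
    · first | with_reducible rfl | ((try simp only [map_add, map_mul, map_pow, map_zero, H.hs]) <;> ring1)
    · first | with_reducible rfl | ((try simp only [map_add, map_mul, map_pow, map_zero, H.hs]) <;> ring1)
    · first | with_reducible rfl | ((try simp only [map_add, map_mul, map_pow, map_zero, H.hs]) <;> ring1)
    · first | with_reducible rfl | ((try simp only [map_add, map_mul, map_pow, map_zero, H.hs]) <;> ring1)
    · first | with_reducible rfl | ((try simp only [map_add, map_mul, map_pow, map_zero, H.hs]) <;> ring1)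
    · first | with_reducible rfl | ((try simp only [map_add, map_mul, map_pow, map_zero, H.hs]) <;> ring1)
    · first | with_reducible rfl | ((try simp only [map_add, map_mul, map_pow, map_zero, H.hs]) <;> ring1)
    · first | with_reducible rfl | ((try simp only [map_add, map_mul, map_pow, map_zero, H.hs]) <;> ring1)
    · first | with_reducible rfl | ((try simp only [map_add, map_mul, map_pow, map_zero, H.hs]) <;> ring1)
    · first | with_reducible rfl | ((try simp only [map_add, map_mul, map_pow, map_zero, H.hs]) <;> ring1)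
    ]
theorem s3_7 (a1 a2 b2 a3 a4 b4 a5 a6 b6 a7 t : K) : F.x1 a1 * F.x2 a2 b2 * F.x3 a3 * F.x4 a4 b4 * F.x5 a5 * F.x6 a6 b6 * F.x7 a7 * F.x3 t =
    F.E ⟨a1, a2, b2, a3 + t, a4, b4 + a6 * t, a5, a6, b6, a7, 0, 0⟩ := by
  rw [mul_assoc (F.x1 a1 * F.x2 a2 b2 * F.x3 a3 * F.x4 a4 b4 * F.x5 a5 * F.x6 a6 b6) (F.x7 a7) (F.x3 t), H.w73]
  simp only [← mul_assoc]
  rw [H.s3_6 a1 a2 b2 a3 a4 b4 a5 a6 b6 t]
  rw [show F.E ⟨a1, a2, b2, a3 + t, a4, b4 + a6 * t, a5, a6, b6, 0, 0, 0⟩ *
      F.x7 a7 =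
      F.E ⟨a1, a2, b2, a3 + t, a4, b4 + a6 * t, a5, a6, b6, a7, 0, 0⟩ by
    rw [H.R7]
    refine congrArg F.E (Cd.ext ?_ ?_ ?_ ?_ ?_ ?_ ?_ ?_ ?_ ?_ ?_ ?_)
    · first | with_reducible rfl | ((try simp only [map_add, map_mul, map_pow, map_zero, H.hs]) <;> ring1)
    · first | with_reducible rfl | ((try simp only [map_add, map_mul, map_pow, map_zero, H.hs]) <;> ring1)
    · first | with_reducible rfl | ((try simp only [map_add, map_mul, map_pow, map_zero, H.hs]) <;> ring1)
    · first | with_reducible rfl | ((try simp only [map_add, map_mul, map_pow, map_zero, H.hs]) <;> ring1)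
    · first | with_reducible rfl | ((try simp only [map_add, map_mul, map_pow, map_zero, H.hs]) <;> ring1)
    · first | with_reducible rfl | ((try simp only [map_add, map_mul, map_pow, map_zero, H.hs]) <;> ring1)
    · first | with_reducible rfl | ((try simp only [map_add, map_mul, map_pow, map_zero, H.hs]) <;> ring1)
    · first | with_reducible rfl | ((try simp only [map_add, map_mul, map_pow, map_zero, H.hs]) <;> ring1)
    · first | with_reducible rfl | ((try simp only [map_add, map_mul, map_pow, map_zero, H.hs]) <;> ring1)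
    · first | with_reducible rfl | ((try simp only [map_add, map_mul, map_pow, map_zero, H.hs]) <;> ring1)
    · first | with_reducible rfl | ((try simp only [map_add, map_mul, map_pow, map_zero, H.hs]) <;> ring1)
    · first | with_reducible rfl | ((try simp only [map_add, map_mul, map_pow, map_zero, H.hs]) <;> ring1)
    ]
theorem s3_8 (a1 a2 b2 a3 a4 b4 a5 a6 b6 a7 a8 b8 t : K) : F.x1 a1 * F.x2 a2 b2 * F.x3 a3 * F.x4 a4 b4 * F.x5 a5 * F.x6 a6 b6 * F.x7 a7 * F.x8 a8 b8 * F.x3 t =
    F.E ⟨a1, a2, b2, a3 + t, a4, b4 + a6 * t + a8 * σ t, a5 + σ a8 * t, a6, b6 + b8 * t, a7, a8, b8⟩ := by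
  rw [mul_assoc (F.x1 a1 * F.x2 a2 b2 * F.x3 a3 * F.x4 a4 b4 * F.x5 a5 * F.x6 a6 b6 * F.x7 a7) (F.x8 a8 b8) (F.x3 t), H.w83]
  simp only [← mul_assoc]
  rw [H.s3_7 a1 a2 b2 a3 a4 b4 a5 a6 b6 a7 t]
  rw [show F.E ⟨a1, a2, b2, a3 + t, a4, b4 + a6 * t, a5, a6, b6, a7, 0, 0⟩ *
      F.x8 a8 b8 =
      F.E ⟨a1, a2, b2, a3 + t, a4, b4 + a6 * t, a5, a6, b6, a7, a8, b8⟩ by
    rw [H.R8]
    refine congrArg F.E (Cd.ext ?_ ?_ ?_ ?_ ?_ ?_ ?_ ?_ ?_ ?_ ?_ ?_)
    · first | with_reducible rfl | ((try simp only [map_add, map_mul, map_pow, map_zero, H.hs]) <;> ring1)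
    · first | with_reducible rfl | ((try simp only [map_add, map_mul, map_pow, map_zero, H.hs]) <;> ring1)
    · first | with_reducible rfl | ((try simp only [map_add, map_mul, map_pow, map_zero, H.hs]) <;> ring1)
    · first | with_reducible rfl | ((try simp only [map_add, map_mul, map_pow, map_zero, H.hs]) <;> ring1)
    · first | with_reducible rfl | ((try simp only [map_add, map_mul, map_pow, map_zero, H.hs]) <;> ring1)
    · first | with_reducible rfl | ((try simp only [map_add, map_mul, map_pow, map_zero, H.hs]) <;> ring1)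
    · first | with_reducible rfl | ((try simp only [map_add, map_mul, map_pow, map_zero, H.hs]) <;> ring1)
    · first | with_reducible rfl | ((try simp only [map_add, map_mul, map_pow, map_zero, H.hs]) <;> ring1)
    · first | with_reducible rfl | ((try simp only [map_add, map_mul, map_pow, map_zero, H.hs]) <;> ring1)
    · first | with_reducible rfl | ((try simp only [map_add, map_mul, map_pow, map_zero, H.hs]) <;> ring1)
    · first | with_reducible rfl | ((try simp only [map_add, map_mul, map_pow, map_zero, H.hs]) <;> ring1)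
    · first | with_reducible rfl | ((try simp only [map_add, map_mul, map_pow, map_zero, H.hs]) <;> ring1)
    ]
  rw [show F.E ⟨a1, a2, b2, a3 + t, a4, b4 + a6 * t, a5, a6, b6, a7, a8, b8⟩ *
      F.x6 (0) (t * b8 + a8 * σ a8 * t) =
      F.E ⟨a1, a2, b2, a3 + t, a4, b4 + a6 * t, a5, a6, b6 + b8 * t + a8 * σ a8 * t, a7, a8, b8⟩ by
    rw [H.R6]
    refine congrArg F.E (Cd.ext ?_ ?_ ?_ ?_ ?_ ?_ ?_ ?_ ?_ ?_ ?_ ?_)
    · first | with_reducible rfl | ((try simp only [map_add, map_mul, map_pow, map_zero, H.hs]) <;> ring1)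
    · first | with_reducible rfl | ((try simp only [map_add, map_mul, map_pow, map_zero, H.hs]) <;> ring1)
    · first | with_reducible rfl | ((try simp only [map_add, map_mul, map_pow, map_zero, H.hs]) <;> ring1)
    · first | with_reducible rfl | ((try simp only [map_add, map_mul, map_pow, map_zero, H.hs]) <;> ring1)
    · first | with_reducible rfl | ((try simp only [map_add, map_mul, map_pow, map_zero, H.hs]) <;> ring1)
    · first | with_reducible rfl | ((try simp only [map_add, map_mul, map_pow, map_zero, H.hs]) <;> ring1)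
    · first | with_reducible rfl | ((try simp only [map_add, map_mul, map_pow, map_zero, H.hs]) <;> ring1)
    · first | with_reducible rfl | ((try simp only [map_add, map_mul, map_pow, map_zero, H.hs]) <;> ring1)
    · first | with_reducible rfl | ((try simp only [map_add, map_mul, map_pow, map_zero, H.hs]) <;> ring1)
    · first | with_reducible rfl | ((try simp only [map_add, map_mul, map_pow, map_zero, H.hs]) <;> ring1)
    · first | with_reducible rfl | ((try simp only [map_add, map_mul, map_pow, map_zero, H.hs]) <;> ring1)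
    · first | with_reducible rfl | ((try simp only [map_add, map_mul, map_pow, map_zero, H.hs]) <;> ring1)
    ]
  rw [show F.E ⟨a1, a2, b2, a3 + t, a4, b4 + a6 * t, a5, a6, b6 + b8 * t + a8 * σ a8 * t, a7, a8, b8⟩ *
      F.x5 (σ a8 * t) =
      F.E ⟨a1, a2, b2, a3 + t, a4, b4 + a6 * t, a5 + σ a8 * t, a6, b6 + b8 * t, a7, a8, b8⟩ by
    rw [H.R5]
    refine congrArg F.E (Cd.ext ?_ ?_ ?_ ?_ ?_ ?_ ?_ ?_ ?_ ?_ ?_ ?_)
    · first | with_reducible rfl | ((try simp only [map_add, map_mul, map_pow, map_zero, H.hs]) <;> ring1)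
    · first | with_reducible rfl | ((try simp only [map_add, map_mul, map_pow, map_zero, H.hs]) <;> ring1)
    · first | with_reducible rfl | ((try simp only [map_add, map_mul, map_pow, map_zero, H.hs]) <;> ring1)
    · first | with_reducible rfl | ((try simp only [map_add, map_mul, map_pow, map_zero, H.hs]) <;> ring1)
    · first | with_reducible rfl | ((try simp only [map_add, map_mul, map_pow, map_zero, H.hs]) <;> ring1)
    · first | with_reducible rfl | ((try simp only [map_add, map_mul, map_pow, map_zero, H.hs]) <;> ring1)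
    · first | with_reducible rfl | ((try simp only [map_add, map_mul, map_pow, map_zero, H.hs]) <;> ring1)
    · first | with_reducible rfl | ((try simp only [map_add, map_mul, map_pow, map_zero, H.hs]) <;> ring1)
    · try simp only [map_add, map_mul, map_pow, map_zero, H.hs]
      linear_combination (a8 * σ a8 * t) * H.h2
    · first | with_reducible rfl | ((try simp only [map_add, map_mul, map_pow, map_zero, H.hs]) <;> ring1)
    · first | with_reducible rfl | ((try simp only [map_add, map_mul, map_pow, map_zero, H.hs]) <;> ring1)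
    · first | with_reducible rfl | ((try simp only [map_add, map_mul, map_pow, map_zero, H.hs]) <;> ring1)
    ]
  rw [show F.E ⟨a1, a2, b2, a3 + t, a4, b4 + a6 * t, a5 + σ a8 * t, a6, b6 + b8 * t, a7, a8, b8⟩ *
      F.x4 (0) (a8 * σ t) =
      F.E ⟨a1, a2, b2, a3 + t, a4, b4 + a6 * t + a8 * σ t, a5 + σ a8 * t, a6, b6 + b8 * t, a7, a8, b8⟩ by
    rw [H.R4]
    refine congrArg F.E (Cd.ext ?_ ?_ ?_ ?_ ?_ ?_ ?_ ?_ ?_ ?_ ?_ ?_)
    · first | with_reducible rfl | ((try simp only [map_add, map_mul, map_pow, map_zero, H.hs]) <;> ring1)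
    · first | with_reducible rfl | ((try simp only [map_add, map_mul, map_pow, map_zero, H.hs]) <;> ring1)
    · first | with_reducible rfl | ((try simp only [map_add, map_mul, map_pow, map_zero, H.hs]) <;> ring1)
    · first | with_reducible rfl | ((try simp only [map_add, map_mul, map_pow, map_zero, H.hs]) <;> ring1)
    · first | with_reducible rfl | ((try simp only [map_add, map_mul, map_pow, map_zero, H.hs]) <;> ring1)
    · first | with_reducible rfl | ((try simp only [map_add, map_mul, map_pow, map_zero, H.hs]) <;> ring1)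
    · first | with_reducible rfl | ((try simp only [map_add, map_mul, map_pow, map_zero, H.hs]) <;> ring1)
    · first | with_reducible rfl | ((try simp only [map_add, map_mul, map_pow, map_zero, H.hs]) <;> ring1)
    · first | with_reducible rfl | ((try simp only [map_add, map_mul, map_pow, map_zero, H.hs]) <;> ring1)
    · first | with_reducible rfl | ((try simp only [map_add, map_mul, map_pow, map_zero, H.hs]) <;> ring1)
    · first | with_reducible rfl | ((try simp only [map_add, map_mul, map_pow, map_zero, H.hs]) <;> ring1)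
    · first | with_reducible rfl | ((try simp only [map_add, map_mul, map_pow, map_zero, H.hs]) <;> ring1)
    ]
/-- right multiplication by a root element of `X3` -/
theorem R3 (c : Cd K) (t : K) : F.E c * F.x3 t =
    F.E ⟨c.a1, c.a2, c.b2, c.a3 + t, c.a4, c.b4 + c.a6 * t + c.a8 * σ t, c.a5 + σ c.a8 * t, c.a6, c.b6 + c.b8 * t,
      c.a7, c.a8, c.b8⟩ :=
  H.s3_8 c.a1 c.a2 c.b2 c.a3 c.a4 c.b4 c.a5 c.a6 c.b6 c.a7 c.a8 c.b8 t

theorem s2_2 (a1 a2 b2 p u : K) : F.x1 a1 * F.x2 a2 b2 * F.x2 p u =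
    F.E ⟨a1, a2 + p, b2 + u + a2 * σ p, 0, 0, 0, 0, 0, 0, 0, 0, 0⟩ := by
  rw [mul_assoc (F.x1 a1) (F.x2 a2 b2) (F.x2 p u), H.rel.m2]
  simp only [Fam.E, H.z1, H.z2, H.z3, H.z4, H.z5, H.z6, H.z7, H.z8, mul_one]
theorem s2_3 (a1 a2 b2 a3 p u : K) : F.x1 a1 * F.x2 a2 b2 * F.x3 a3 * F.x2 p u =
    F.E ⟨a1, a2 + p, b2 + u + a2 * σ p, a3, 0, 0, 0, 0, 0, 0, 0, 0⟩ := by
  rw [mul_assoc (F.x1 a1 * F.x2 a2 b2) (F.x3 a3) (F.x2 p u), H.w32]
  simp only [← mul_assoc]
  rw [H.s2_2 a1 a2 b2 p u]
  rw [show F.E ⟨a1, a2 + p, b2 + u + a2 * σ p, 0, 0, 0, 0, 0, 0, 0, 0, 0⟩ *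
      F.x3 a3 =
      F.E ⟨a1, a2 + p, b2 + u + a2 * σ p, a3, 0, 0, 0, 0, 0, 0, 0, 0⟩ by
    rw [H.R3]
    refine congrArg F.E (Cd.ext ?_ ?_ ?_ ?_ ?_ ?_ ?_ ?_ ?_ ?_ ?_ ?_)
    · first | with_reducible rfl | ((try simp only [map_add, map_mul, map_pow, map_zero, H.hs]) <;> ring1)
    · first | with_reducible rfl | ((try simp only [map_add, map_mul, map_pow, map_zero, H.hs]) <;> ring1)
    · first | with_reducible rfl | ((try simp only [map_add, map_mul, map_pow, map_zero, H.hs]) <;> ring1)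
    · first | with_reducible rfl | ((try simp only [map_add, map_mul, map_pow, map_zero, H.hs]) <;> ring1)
    · first | with_reducible rfl | ((try simp only [map_add, map_mul, map_pow, map_zero, H.hs]) <;> ring1)
    · first | with_reducible rfl | ((try simp only [map_add, map_mul, map_pow, map_zero, H.hs]) <;> ring1)
    · first | with_reducible rfl | ((try simp only [map_add, map_mul, map_pow, map_zero, H.hs]) <;> ring1)
    · first | with_reducible rfl | ((try simp only [map_add, map_mul, map_pow, map_zero, H.hs]) <;> ring1)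
    · first | with_reducible rfl | ((try simp only [map_add, map_mul, map_pow, map_zero, H.hs]) <;> ring1)
    · first | with_reducible rfl | ((try simp only [map_add, map_mul, map_pow, map_zero, H.hs]) <;> ring1)
    · first | with_reducible rfl | ((try simp only [map_add, map_mul, map_pow, map_zero, H.hs]) <;> ring1)
    · first | with_reducible rfl | ((try simp only [map_add, map_mul, map_pow, map_zero, H.hs]) <;> ring1)
    ]
theorem s2_4 (a1 a2 b2 a3 a4 b4 p u : K) : F.x1 a1 * F.x2 a2 b2 * F.x3 a3 * F.x4 a4 b4 * F.x2 p u =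
    F.E ⟨a1, a2 + p, b2 + u + a2 * σ p, a3 + a4 * p, a4, b4, 0, 0, 0, 0, 0, 0⟩ := by
  rw [mul_assoc (F.x1 a1 * F.x2 a2 b2 * F.x3 a3) (F.x4 a4 b4) (F.x2 p u), H.w42]
  simp only [← mul_assoc]
  rw [H.s2_3 a1 a2 b2 a3 p u]
  rw [show F.E ⟨a1, a2 + p, b2 + u + a2 * σ p, a3, 0, 0, 0, 0, 0, 0, 0, 0⟩ *
      F.x4 a4 b4 =
      F.E ⟨a1, a2 + p, b2 + u + a2 * σ p, a3, a4, b4, 0, 0, 0, 0, 0, 0⟩ by
    rw [H.R4]
    refine congrArg F.E (Cd.ext ?_ ?_ ?_ ?_ ?_ ?_ ?_ ?_ ?_ ?_ ?_ ?_)
    · first | with_reducible rfl | ((try simp only [map_add, map_mul, map_pow, map_zero, H.hs]) <;> ring1)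
    · first | with_reducible rfl | ((try simp only [map_add, map_mul, map_pow, map_zero, H.hs]) <;> ring1)
    · first | with_reducible rfl | ((try simp only [map_add, map_mul, map_pow, map_zero, H.hs]) <;> ring1)
    · first | with_reducible rfl | ((try simp only [map_add, map_mul, map_pow, map_zero, H.hs]) <;> ring1)
    · first | with_reducible rfl | ((try simp only [map_add, map_mul, map_pow, map_zero, H.hs]) <;> ring1)
    · first | with_reducible rfl | ((try simp only [map_add, map_mul, map_pow, map_zero, H.hs]) <;> ring1)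
    · first | with_reducible rfl | ((try simp only [map_add, map_mul, map_pow, map_zero, H.hs]) <;> ring1)
    · first | with_reducible rfl | ((try simp only [map_add, map_mul, map_pow, map_zero, H.hs]) <;> ring1)
    · first | with_reducible rfl | ((try simp only [map_add, map_mul, map_pow, map_zero, H.hs]) <;> ring1)
    · first | with_reducible rfl | ((try simp only [map_add, map_mul, map_pow, map_zero, H.hs]) <;> ring1)
    · first | with_reducible rfl | ((try simp only [map_add, map_mul, map_pow, map_zero, H.hs]) <;> ring1)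
    · first | with_reducible rfl | ((try simp only [map_add, map_mul, map_pow, map_zero, H.hs]) <;> ring1)
    ]
  rw [show F.E ⟨a1, a2 + p, b2 + u + a2 * σ p, a3, a4, b4, 0, 0, 0, 0, 0, 0⟩ *
      F.x3 (p * a4) =
      F.E ⟨a1, a2 + p, b2 + u + a2 * σ p, a3 + a4 * p, a4, b4, 0, 0, 0, 0, 0, 0⟩ by
    rw [H.R3]
    refine congrArg F.E (Cd.ext ?_ ?_ ?_ ?_ ?_ ?_ ?_ ?_ ?_ ?_ ?_ ?_)
    · first | with_reducible rfl | ((try simp only [map_add, map_mul, map_pow, map_zero, H.hs]) <;> ring1)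
    · first | with_reducible rfl | ((try simp only [map_add, map_mul, map_pow, map_zero, H.hs]) <;> ring1)
    · first | with_reducible rfl | ((try simp only [map_add, map_mul, map_pow, map_zero, H.hs]) <;> ring1)
    · first | with_reducible rfl | ((try simp only [map_add, map_mul, map_pow, map_zero, H.hs]) <;> ring1)
    · first | with_reducible rfl | ((try simp only [map_add, map_mul, map_pow, map_zero, H.hs]) <;> ring1)
    · first | with_reducible rfl | ((try simp only [map_add, map_mul, map_pow, map_zero, H.hs]) <;> ring1)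
    · first | with_reducible rfl | ((try simp only [map_add, map_mul, map_pow, map_zero, H.hs]) <;> ring1)
    · first | with_reducible rfl | ((try simp only [map_add, map_mul, map_pow, map_zero, H.hs]) <;> ring1)
    · first | with_reducible rfl | ((try simp only [map_add, map_mul, map_pow, map_zero, H.hs]) <;> ring1)
    · first | with_reducible rfl | ((try simp only [map_add, map_mul, map_pow, map_zero, H.hs]) <;> ring1)
    · first | with_reducible rfl | ((try simp only [map_add, map_mul, map_pow, map_zero, H.hs]) <;> ring1)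
    · first | with_reducible rfl | ((try simp only [map_add, map_mul, map_pow, map_zero, H.hs]) <;> ring1)
    ]
theorem s2_5 (a1 a2 b2 a3 a4 b4 a5 p u : K) : F.x1 a1 * F.x2 a2 b2 * F.x3 a3 * F.x4 a4 b4 * F.x5 a5 * F.x2 p u =
    F.E ⟨a1, a2 + p, b2 + u + a2 * σ p, a3 + a4 * p, a4, b4 + a5 * p, a5, 0, 0, 0, 0, 0⟩ := by
  rw [mul_assoc (F.x1 a1 * F.x2 a2 b2 * F.x3 a3 * F.x4 a4 b4) (F.x5 a5) (F.x2 p u), H.w52]
  simp only [← mul_assoc]
  rw [H.s2_4 a1 a2 b2 a3 a4 b4 p u]
  rw [show F.E ⟨a1, a2 + p, b2 + u + a2 * σ p, a3 + a4 * p, a4, b4, 0, 0, 0, 0, 0, 0⟩ *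
      F.x5 a5 =
      F.E ⟨a1, a2 + p, b2 + u + a2 * σ p, a3 + a4 * p, a4, b4, a5, 0, 0, 0, 0, 0⟩ by
    rw [H.R5]
    refine congrArg F.E (Cd.ext ?_ ?_ ?_ ?_ ?_ ?_ ?_ ?_ ?_ ?_ ?_ ?_)
    · first | with_reducible rfl | ((try simp only [map_add, map_mul, map_pow, map_zero, H.hs]) <;> ring1)
    · first | with_reducible rfl | ((try simp only [map_add, map_mul, map_pow, map_zero, H.hs]) <;> ring1)
    · first | with_reducible rfl | ((try simp only [map_add, map_mul, map_pow, map_zero, H.hs]) <;> ring1)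
    · first | with_reducible rfl | ((try simp only [map_add, map_mul, map_pow, map_zero, H.hs]) <;> ring1)
    · first | with_reducible rfl | ((try simp only [map_add, map_mul, map_pow, map_zero, H.hs]) <;> ring1)
    · first | with_reducible rfl | ((try simp only [map_add, map_mul, map_pow, map_zero, H.hs]) <;> ring1)
    · first | with_reducible rfl | ((try simp only [map_add, map_mul, map_pow, map_zero, H.hs]) <;> ring1)
    · first | with_reducible rfl | ((try simp only [map_add, map_mul, map_pow, map_zero, H.hs]) <;> ring1)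
    · first | with_reducible rfl | ((try simp only [map_add, map_mul, map_pow, map_zero, H.hs]) <;> ring1)
    · first | with_reducible rfl | ((try simp only [map_add, map_mul, map_pow, map_zero, H.hs]) <;> ring1)
    · first | with_reducible rfl | ((try simp only [map_add, map_mul, map_pow, map_zero, H.hs]) <;> ring1)
    · first | with_reducible rfl | ((try simp only [map_add, map_mul, map_pow, map_zero, H.hs]) <;> ring1)
    ]
  rw [show F.E ⟨a1, a2 + p, b2 + u + a2 * σ p, a3 + a4 * p, a4, b4, a5, 0, 0, 0, 0, 0⟩ *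
      F.x4 (0) (p * a5) =
      F.E ⟨a1, a2 + p, b2 + u + a2 * σ p, a3 + a4 * p, a4, b4 + a5 * p, a5, 0, 0, 0, 0, 0⟩ by
    rw [H.R4]
    refine congrArg F.E (Cd.ext ?_ ?_ ?_ ?_ ?_ ?_ ?_ ?_ ?_ ?_ ?_ ?_)
    · first | with_reducible rfl | ((try simp only [map_add, map_mul, map_pow, map_zero, H.hs]) <;> ring1)
    · first | with_reducible rfl | ((try simp only [map_add, map_mul, map_pow, map_zero, H.hs]) <;> ring1)
    · first | with_reducible rfl | ((try simp only [map_add, map_mul, map_pow, map_zero, H.hs]) <;> ring1)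
    · first | with_reducible rfl | ((try simp only [map_add, map_mul, map_pow, map_zero, H.hs]) <;> ring1)
    · first | with_reducible rfl | ((try simp only [map_add, map_mul, map_pow, map_zero, H.hs]) <;> ring1)
    · first | with_reducible rfl | ((try simp only [map_add, map_mul, map_pow, map_zero, H.hs]) <;> ring1)
    · first | with_reducible rfl | ((try simp only [map_add, map_mul, map_pow, map_zero, H.hs]) <;> ring1)
    · first | with_reducible rfl | ((try simp only [map_add, map_mul, map_pow, map_zero, H.hs]) <;> ring1)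
    · first | with_reducible rfl | ((try simp only [map_add, map_mul, map_pow, map_zero, H.hs]) <;> ring1)
    · first | with_reducible rfl | ((try simp only [map_add, map_mul, map_pow, map_zero, H.hs]) <;> ring1)
    · first | with_reducible rfl | ((try simp only [map_add, map_mul, map_pow, map_zero, H.hs]) <;> ring1)
    · first | with_reducible rfl | ((try simp only [map_add, map_mul, map_pow, map_zero, H.hs]) <;> ring1)
    ]
theorem s2_6 (a1 a2 b2 a3 a4 b4 a5 a6 b6 p u : K) : F.x1 a1 * F.x2 a2 b2 * F.x3 a3 * F.x4 a4 b4 * F.x5 a5 * F.x6 a6 b6 * F.x2 p u =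
    F.E ⟨a1, a2 + p, b2 + u + a2 * σ p, a3 + a4 * p, a4, b4 + a5 * p, a5, a6, b6, 0, 0, 0⟩ := by
  rw [mul_assoc (F.x1 a1 * F.x2 a2 b2 * F.x3 a3 * F.x4 a4 b4 * F.x5 a5) (F.x6 a6 b6) (F.x2 p u), H.w62]
  simp only [← mul_assoc]
  rw [H.s2_5 a1 a2 b2 a3 a4 b4 a5 p u]
  rw [show F.E ⟨a1, a2 + p, b2 + u + a2 * σ p, a3 + a4 * p, a4, b4 + a5 * p, a5, 0, 0, 0, 0, 0⟩ *
      F.x6 a6 b6 =
      F.E ⟨a1, a2 + p, b2 + u + a2 * σ p, a3 + a4 * p, a4, b4 + a5 * p, a5, a6, b6, 0, 0, 0⟩ by
    rw [H.R6]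
    refine congrArg F.E (Cd.ext ?_ ?_ ?_ ?_ ?_ ?_ ?_ ?_ ?_ ?_ ?_ ?_)
    · first | with_reducible rfl | ((try simp only [map_add, map_mul, map_pow, map_zero, H.hs]) <;> ring1)
    · first | with_reducible rfl | ((try simp only [map_add, map_mul, map_pow, map_zero, H.hs]) <;> ring1)
    · first | with_reducible rfl | ((try simp only [map_add, map_mul, map_pow, map_zero, H.hs]) <;> ring1)
    · first | with_reducible rfl | ((try simp only [map_add, map_mul, map_pow, map_zero, H.hs]) <;> ring1)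
    · first | with_reducible rfl | ((try simp only [map_add, map_mul, map_pow, map_zero, H.hs]) <;> ring1)
    · first | with_reducible rfl | ((try simp only [map_add, map_mul, map_pow, map_zero, H.hs]) <;> ring1)
    · first | with_reducible rfl | ((try simp only [map_add, map_mul, map_pow, map_zero, H.hs]) <;> ring1)
    · first | with_reducible rfl | ((try simp only [map_add, map_mul, map_pow, map_zero, H.hs]) <;> ring1)
    · first | with_reducible rfl | ((try simp only [map_add, map_mul, map_pow, map_zero, H.hs]) <;> ring1)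
    · first | with_reducible rfl | ((try simp only [map_add, map_mul, map_pow, map_zero, H.hs]) <;> ring1)
    · first | with_reducible rfl | ((try simp only [map_add, map_mul, map_pow, map_zero, H.hs]) <;> ring1)
    · first | with_reducible rfl | ((try simp only [map_add, map_mul, map_pow, map_zero, H.hs]) <;> ring1)
    ]
theorem s2_7 (a1 a2 b2 a3 a4 b4 a5 a6 b6 a7 p u : K) : F.x1 a1 * F.x2 a2 b2 * F.x3 a3 * F.x4 a4 b4 * F.x5 a5 * F.x6 a6 b6 * F.x7 a7 * F.x2 p u =
    F.E ⟨a1, a2 + p, b2 + u + a2 * σ p, a3 + a4 * p, a4, b4 + a5 * p + a7 * u + a7 * p * σ p, a5 + a7 * σ p, a6, b6 +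
      σ a7 * p, a7, 0, 0⟩ := by
  rw [mul_assoc (F.x1 a1 * F.x2 a2 b2 * F.x3 a3 * F.x4 a4 b4 * F.x5 a5 * F.x6 a6 b6) (F.x7 a7) (F.x2 p u), H.w72]
  simp only [← mul_assoc]
  rw [H.s2_6 a1 a2 b2 a3 a4 b4 a5 a6 b6 p u]
  rw [show F.E ⟨a1, a2 + p, b2 + u + a2 * σ p, a3 + a4 * p, a4, b4 + a5 * p, a5, a6, b6, 0, 0, 0⟩ *
      F.x7 a7 =
      F.E ⟨a1, a2 + p, b2 + u + a2 * σ p, a3 + a4 * p, a4, b4 + a5 * p, a5, a6, b6, a7, 0, 0⟩ by
    rw [H.R7]
    refine congrArg F.E (Cd.ext ?_ ?_ ?_ ?_ ?_ ?_ ?_ ?_ ?_ ?_ ?_ ?_)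
    · first | with_reducible rfl | ((try simp only [map_add, map_mul, map_pow, map_zero, H.hs]) <;> ring1)
    · first | with_reducible rfl | ((try simp only [map_add, map_mul, map_pow, map_zero, H.hs]) <;> ring1)
    · first | with_reducible rfl | ((try simp only [map_add, map_mul, map_pow, map_zero, H.hs]) <;> ring1)
    · first | with_reducible rfl | ((try simp only [map_add, map_mul, map_pow, map_zero, H.hs]) <;> ring1)
    · first | with_reducible rfl | ((try simp only [map_add, map_mul, map_pow, map_zero, H.hs]) <;> ring1)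
    · first | with_reducible rfl | ((try simp only [map_add, map_mul, map_pow, map_zero, H.hs]) <;> ring1)
    · first | with_reducible rfl | ((try simp only [map_add, map_mul, map_pow, map_zero, H.hs]) <;> ring1)
    · first | with_reducible rfl | ((try simp only [map_add, map_mul, map_pow, map_zero, H.hs]) <;> ring1)
    · first | with_reducible rfl | ((try simp only [map_add, map_mul, map_pow, map_zero, H.hs]) <;> ring1)
    · first | with_reducible rfl | ((try simp only [map_add, map_mul, map_pow, map_zero, H.hs]) <;> ring1)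
    · first | with_reducible rfl | ((try simp only [map_add, map_mul, map_pow, map_zero, H.hs]) <;> ring1)
    · first | with_reducible rfl | ((try simp only [map_add, map_mul, map_pow, map_zero, H.hs]) <;> ring1)
    ]
  rw [show F.E ⟨a1, a2 + p, b2 + u + a2 * σ p, a3 + a4 * p, a4, b4 + a5 * p, a5, a6, b6, a7, 0, 0⟩ *
      F.x6 (0) (p * σ a7) =
      F.E ⟨a1, a2 + p, b2 + u + a2 * σ p, a3 + a4 * p, a4, b4 + a5 * p, a5, a6, b6 + σ a7 * p, a7, 0, 0⟩ by
    rw [H.R6]
    refine congrArg F.E (Cd.ext ?_ ?_ ?_ ?_ ?_ ?_ ?_ ?_ ?_ ?_ ?_ ?_)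
    · first | with_reducible rfl | ((try simp only [map_add, map_mul, map_pow, map_zero, H.hs]) <;> ring1)
    · first | with_reducible rfl | ((try simp only [map_add, map_mul, map_pow, map_zero, H.hs]) <;> ring1)
    · first | with_reducible rfl | ((try simp only [map_add, map_mul, map_pow, map_zero, H.hs]) <;> ring1)
    · first | with_reducible rfl | ((try simp only [map_add, map_mul, map_pow, map_zero, H.hs]) <;> ring1)
    · first | with_reducible rfl | ((try simp only [map_add, map_mul, map_pow, map_zero, H.hs]) <;> ring1)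
    · first | with_reducible rfl | ((try simp only [map_add, map_mul, map_pow, map_zero, H.hs]) <;> ring1)
    · first | with_reducible rfl | ((try simp only [map_add, map_mul, map_pow, map_zero, H.hs]) <;> ring1)
    · first | with_reducible rfl | ((try simp only [map_add, map_mul, map_pow, map_zero, H.hs]) <;> ring1)
    · first | with_reducible rfl | ((try simp only [map_add, map_mul, map_pow, map_zero, H.hs]) <;> ring1)
    · first | with_reducible rfl | ((try simp only [map_add, map_mul, map_pow, map_zero, H.hs]) <;> ring1)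
    · first | with_reducible rfl | ((try simp only [map_add, map_mul, map_pow, map_zero, H.hs]) <;> ring1)
    · first | with_reducible rfl | ((try simp only [map_add, map_mul, map_pow, map_zero, H.hs]) <;> ring1)
    ]
  rw [show F.E ⟨a1, a2 + p, b2 + u + a2 * σ p, a3 + a4 * p, a4, b4 + a5 * p, a5, a6, b6 + σ a7 * p, a7, 0, 0⟩ *
      F.x5 (σ p * a7) =
      F.E ⟨a1, a2 + p, b2 + u + a2 * σ p, a3 + a4 * p, a4, b4 + a5 * p, a5 + a7 * σ p, a6, b6 + σ a7 * p, a7, 0, 0⟩ by
    rw [H.R5]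
    refine congrArg F.E (Cd.ext ?_ ?_ ?_ ?_ ?_ ?_ ?_ ?_ ?_ ?_ ?_ ?_)
    · first | with_reducible rfl | ((try simp only [map_add, map_mul, map_pow, map_zero, H.hs]) <;> ring1)
    · first | with_reducible rfl | ((try simp only [map_add, map_mul, map_pow, map_zero, H.hs]) <;> ring1)
    · first | with_reducible rfl | ((try simp only [map_add, map_mul, map_pow, map_zero, H.hs]) <;> ring1)
    · first | with_reducible rfl | ((try simp only [map_add, map_mul, map_pow, map_zero, H.hs]) <;> ring1)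
    · first | with_reducible rfl | ((try simp only [map_add, map_mul, map_pow, map_zero, H.hs]) <;> ring1)
    · first | with_reducible rfl | ((try simp only [map_add, map_mul, map_pow, map_zero, H.hs]) <;> ring1)
    · first | with_reducible rfl | ((try simp only [map_add, map_mul, map_pow, map_zero, H.hs]) <;> ring1)
    · first | with_reducible rfl | ((try simp only [map_add, map_mul, map_pow, map_zero, H.hs]) <;> ring1)
    · first | with_reducible rfl | ((try simp only [map_add, map_mul, map_pow, map_zero, H.hs]) <;> ring1)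
    · first | with_reducible rfl | ((try simp only [map_add, map_mul, map_pow, map_zero, H.hs]) <;> ring1)
    · first | with_reducible rfl | ((try simp only [map_add, map_mul, map_pow, map_zero, H.hs]) <;> ring1)
    · first | with_reducible rfl | ((try simp only [map_add, map_mul, map_pow, map_zero, H.hs]) <;> ring1)
    ]
  rw [show F.E ⟨a1, a2 + p, b2 + u + a2 * σ p, a3 + a4 * p, a4, b4 + a5 * p, a5 + a7 * σ p, a6, b6 + σ a7 * p, a7, 0, 0⟩ *
      F.x4 (0) (a7 * u + p * σ p * a7) =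
      F.E ⟨a1, a2 + p, b2 + u + a2 * σ p, a3 + a4 * p, a4, b4 + a5 * p + a7 * u + a7 * p * σ p, a5 + a7 * σ p, a6, b6 +
      σ a7 * p, a7, 0, 0⟩ by
    rw [H.R4]
    refine congrArg F.E (Cd.ext ?_ ?_ ?_ ?_ ?_ ?_ ?_ ?_ ?_ ?_ ?_ ?_)
    · first | with_reducible rfl | ((try simp only [map_add, map_mul, map_pow, map_zero, H.hs]) <;> ring1)
    · first | with_reducible rfl | ((try simp only [map_add, map_mul, map_pow, map_zero, H.hs]) <;> ring1)
    · first | with_reducible rfl | ((try simp only [map_add, map_mul, map_pow, map_zero, H.hs]) <;> ring1)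
    · first | with_reducible rfl | ((try simp only [map_add, map_mul, map_pow, map_zero, H.hs]) <;> ring1)
    · first | with_reducible rfl | ((try simp only [map_add, map_mul, map_pow, map_zero, H.hs]) <;> ring1)
    · first | with_reducible rfl | ((try simp only [map_add, map_mul, map_pow, map_zero, H.hs]) <;> ring1)
    · first | with_reducible rfl | ((try simp only [map_add, map_mul, map_pow, map_zero, H.hs]) <;> ring1)
    · first | with_reducible rfl | ((try simp only [map_add, map_mul, map_pow, map_zero, H.hs]) <;> ring1)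
    · first | with_reducible rfl | ((try simp only [map_add, map_mul, map_pow, map_zero, H.hs]) <;> ring1)
    · first | with_reducible rfl | ((try simp only [map_add, map_mul, map_pow, map_zero, H.hs]) <;> ring1)
    · first | with_reducible rfl | ((try simp only [map_add, map_mul, map_pow, map_zero, H.hs]) <;> ring1)
    · first | with_reducible rfl | ((try simp only [map_add, map_mul, map_pow, map_zero, H.hs]) <;> ring1)
    ]
theorem s2_8 (a1 a2 b2 a3 a4 b4 a5 a6 b6 a7 a8 b8 p u : K) : F.x1 a1 * F.x2 a2 b2 * F.x3 a3 * F.x4 a4 b4 * F.x5 a5 * F.x6 a6 b6 * F.x7 a7 * F.x8 a8 b8 * F.x2 p u =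
    F.E ⟨a1, a2 + p, b2 + u + a2 * σ p, a3 + a4 * p + a8 * u + a8 * p * σ p, a4 + a8 * σ p, b4 + a5 * p + a7 * u + b8
      * σ u + a6 * a8 * u + a7 * p * σ p + b8 * p * u + a4 * σ a8 * p ^ 2 + a6 * a8 * p * σ p + a8 * σ a8 * p * u +
      b8 * p ^ 2 * σ p + a8 * σ a8 * p ^ 2 * σ p, a5 + a7 * σ p + b8 * u + a6 * a8 * σ p + a8 * σ a8 * u, a6 + σ a8
      * p, b6 + σ a7 * p + σ b8 * u + a7 * a8 * σ p + a8 * b8 * u + σ b8 * p * σ p + a6 * a8 ^ 2 * σ p + a8 ^ 2 * σ
      a8 * u, a7 + b8 * p, a8, b8⟩ := by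
  rw [mul_assoc (F.x1 a1 * F.x2 a2 b2 * F.x3 a3 * F.x4 a4 b4 * F.x5 a5 * F.x6 a6 b6 * F.x7 a7) (F.x8 a8 b8) (F.x2 p u), H.w82]
  simp only [← mul_assoc]
  rw [H.s2_7 a1 a2 b2 a3 a4 b4 a5 a6 b6 a7 p u]
  rw [show F.E ⟨a1, a2 + p, b2 + u + a2 * σ p, a3 + a4 * p, a4, b4 + a5 * p + a7 * u + a7 * p * σ p, a5 + a7 * σ p, a6, b6 +
      σ a7 * p, a7, 0, 0⟩ *
      F.x8 a8 b8 =
      F.E ⟨a1, a2 + p, b2 + u + a2 * σ p, a3 + a4 * p, a4, b4 + a5 * p + a7 * u + a7 * p * σ p, a5 + a7 * σ p, a6, b6 +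
      σ a7 * p, a7, a8, b8⟩ by
    rw [H.R8]
    refine congrArg F.E (Cd.ext ?_ ?_ ?_ ?_ ?_ ?_ ?_ ?_ ?_ ?_ ?_ ?_)
    · first | with_reducible rfl | ((try simp only [map_add, map_mul, map_pow, map_zero, H.hs]) <;> ring1)
    · first | with_reducible rfl | ((try simp only [map_add, map_mul, map_pow, map_zero, H.hs]) <;> ring1)
    · first | with_reducible rfl | ((try simp only [map_add, map_mul, map_pow, map_zero, H.hs]) <;> ring1)
    · first | with_reducible rfl | ((try simp only [map_add, map_mul, map_pow, map_zero, H.hs]) <;> ring1)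
    · first | with_reducible rfl | ((try simp only [map_add, map_mul, map_pow, map_zero, H.hs]) <;> ring1)
    · first | with_reducible rfl | ((try simp only [map_add, map_mul, map_pow, map_zero, H.hs]) <;> ring1)
    · first | with_reducible rfl | ((try simp only [map_add, map_mul, map_pow, map_zero, H.hs]) <;> ring1)
    · first | with_reducible rfl | ((try simp only [map_add, map_mul, map_pow, map_zero, H.hs]) <;> ring1)
    · first | with_reducible rfl | ((try simp only [map_add, map_mul, map_pow, map_zero, H.hs]) <;> ring1)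
    · first | with_reducible rfl | ((try simp only [map_add, map_mul, map_pow, map_zero, H.hs]) <;> ring1)
    · first | with_reducible rfl | ((try simp only [map_add, map_mul, map_pow, map_zero, H.hs]) <;> ring1)
    · first | with_reducible rfl | ((try simp only [map_add, map_mul, map_pow, map_zero, H.hs]) <;> ring1)
    ]
  rw [show F.E ⟨a1, a2 + p, b2 + u + a2 * σ p, a3 + a4 * p, a4, b4 + a5 * p + a7 * u + a7 * p * σ p, a5 + a7 * σ p, a6, b6 +
      σ a7 * p, a7, a8, b8⟩ *
      F.x7 (p * b8 + p * a8 * σ a8) =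
      F.E ⟨a1, a2 + p, b2 + u + a2 * σ p, a3 + a4 * p, a4, b4 + a5 * p + a7 * u + a7 * p * σ p, a5 + a7 * σ p, a6, b6 +
      σ a7 * p, a7 + b8 * p + a8 * σ a8 * p, a8, b8⟩ by
    rw [H.R7]
    refine congrArg F.E (Cd.ext ?_ ?_ ?_ ?_ ?_ ?_ ?_ ?_ ?_ ?_ ?_ ?_)
    · first | with_reducible rfl | ((try simp only [map_add, map_mul, map_pow, map_zero, H.hs]) <;> ring1)
    · first | with_reducible rfl | ((try simp only [map_add, map_mul, map_pow, map_zero, H.hs]) <;> ring1)
    · first | with_reducible rfl | ((try simp only [map_add, map_mul, map_pow, map_zero, H.hs]) <;> ring1)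
    · first | with_reducible rfl | ((try simp only [map_add, map_mul, map_pow, map_zero, H.hs]) <;> ring1)
    · first | with_reducible rfl | ((try simp only [map_add, map_mul, map_pow, map_zero, H.hs]) <;> ring1)
    · first | with_reducible rfl | ((try simp only [map_add, map_mul, map_pow, map_zero, H.hs]) <;> ring1)
    · first | with_reducible rfl | ((try simp only [map_add, map_mul, map_pow, map_zero, H.hs]) <;> ring1)
    · first | with_reducible rfl | ((try simp only [map_add, map_mul, map_pow, map_zero, H.hs]) <;> ring1)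
    · first | with_reducible rfl | ((try simp only [map_add, map_mul, map_pow, map_zero, H.hs]) <;> ring1)
    · first | with_reducible rfl | ((try simp only [map_add, map_mul, map_pow, map_zero, H.hs]) <;> ring1)
    · first | with_reducible rfl | ((try simp only [map_add, map_mul, map_pow, map_zero, H.hs]) <;> ring1)
    · first | with_reducible rfl | ((try simp only [map_add, map_mul, map_pow, map_zero, H.hs]) <;> ring1)
    ]
  rw [show F.E ⟨a1, a2 + p, b2 + u + a2 * σ p, a3 + a4 * p, a4, b4 + a5 * p + a7 * u + a7 * p * σ p, a5 + a7 * σ p, a6, b6 +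
      σ a7 * p, a7 + b8 * p + a8 * σ a8 * p, a8, b8⟩ *
      F.x6 (p * σ a8) (u * σ b8 + p * σ p * σ b8 + a8 * u * b8 + a8 ^ 2 * σ a8 * u) =
      F.E ⟨a1, a2 + p, b2 + u + a2 * σ p, a3 + a4 * p, a4, b4 + a5 * p + a7 * u + a7 * p * σ p, a5 + a7 * σ p, a6 + σ a8
      * p, b6 + σ a7 * p + σ b8 * u + a8 * b8 * u + σ b8 * p * σ p + a6 * a8 ^ 2 * σ p + a8 ^ 2 * σ a8 * u, a7 + b8
      * p, a8, b8⟩ by
    rw [H.R6]
    refine congrArg F.E (Cd.ext ?_ ?_ ?_ ?_ ?_ ?_ ?_ ?_ ?_ ?_ ?_ ?_)
    · first | with_reducible rfl | ((try simp only [map_add, map_mul, map_pow, map_zero, H.hs]) <;> ring1)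
    · first | with_reducible rfl | ((try simp only [map_add, map_mul, map_pow, map_zero, H.hs]) <;> ring1)
    · first | with_reducible rfl | ((try simp only [map_add, map_mul, map_pow, map_zero, H.hs]) <;> ring1)
    · first | with_reducible rfl | ((try simp only [map_add, map_mul, map_pow, map_zero, H.hs]) <;> ring1)
    · first | with_reducible rfl | ((try simp only [map_add, map_mul, map_pow, map_zero, H.hs]) <;> ring1)
    · first | with_reducible rfl | ((try simp only [map_add, map_mul, map_pow, map_zero, H.hs]) <;> ring1)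
    · first | with_reducible rfl | ((try simp only [map_add, map_mul, map_pow, map_zero, H.hs]) <;> ring1)
    · first | with_reducible rfl | ((try simp only [map_add, map_mul, map_pow, map_zero, H.hs]) <;> ring1)
    · first | with_reducible rfl | ((try simp only [map_add, map_mul, map_pow, map_zero, H.hs]) <;> ring1)
    · try simp only [map_add, map_mul, map_pow, map_zero, H.hs]
      linear_combination (a8 * σ a8 * p) * H.h2
    · first | with_reducible rfl | ((try simp only [map_add, map_mul, map_pow, map_zero, H.hs]) <;> ring1)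
    · first | with_reducible rfl | ((try simp only [map_add, map_mul, map_pow, map_zero, H.hs]) <;> ring1)
    ]
  rw [show F.E ⟨a1, a2 + p, b2 + u + a2 * σ p, a3 + a4 * p, a4, b4 + a5 * p + a7 * u + a7 * p * σ p, a5 + a7 * σ p, a6 + σ a8
      * p, b6 + σ a7 * p + σ b8 * u + a8 * b8 * u + σ b8 * p * σ p + a6 * a8 ^ 2 * σ p + a8 ^ 2 * σ a8 * u, a7 + b8
      * p, a8, b8⟩ *
      F.x5 (u * b8) =
      F.E ⟨a1, a2 + p, b2 + u + a2 * σ p, a3 + a4 * p, a4, b4 + a5 * p + a7 * u + a7 * p * σ p, a5 + a7 * σ p + b8 * u,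
      a6 + σ a8 * p, b6 + σ a7 * p + σ b8 * u + σ b8 * p * σ p + a6 * a8 ^ 2 * σ p + a8 ^ 2 * σ a8 * u, a7 + b8 * p,
      a8, b8⟩ by
    rw [H.R5]
    refine congrArg F.E (Cd.ext ?_ ?_ ?_ ?_ ?_ ?_ ?_ ?_ ?_ ?_ ?_ ?_)
    · first | with_reducible rfl | ((try simp only [map_add, map_mul, map_pow, map_zero, H.hs]) <;> ring1)
    · first | with_reducible rfl | ((try simp only [map_add, map_mul, map_pow, map_zero, H.hs]) <;> ring1)
    · first | with_reducible rfl | ((try simp only [map_add, map_mul, map_pow, map_zero, H.hs]) <;> ring1)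
    · first | with_reducible rfl | ((try simp only [map_add, map_mul, map_pow, map_zero, H.hs]) <;> ring1)
    · first | with_reducible rfl | ((try simp only [map_add, map_mul, map_pow, map_zero, H.hs]) <;> ring1)
    · first | with_reducible rfl | ((try simp only [map_add, map_mul, map_pow, map_zero, H.hs]) <;> ring1)
    · first | with_reducible rfl | ((try simp only [map_add, map_mul, map_pow, map_zero, H.hs]) <;> ring1)
    · first | with_reducible rfl | ((try simp only [map_add, map_mul, map_pow, map_zero, H.hs]) <;> ring1)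
    · try simp only [map_add, map_mul, map_pow, map_zero, H.hs]
      linear_combination (a8 * b8 * u) * H.h2
    · first | with_reducible rfl | ((try simp only [map_add, map_mul, map_pow, map_zero, H.hs]) <;> ring1)
    · first | with_reducible rfl | ((try simp only [map_add, map_mul, map_pow, map_zero, H.hs]) <;> ring1)
    · first | with_reducible rfl | ((try simp only [map_add, map_mul, map_pow, map_zero, H.hs]) <;> ring1)
    ]
  rw [show F.E ⟨a1, a2 + p, b2 + u + a2 * σ p, a3 + a4 * p, a4, b4 + a5 * p + a7 * u + a7 * p * σ p, a5 + a7 * σ p + b8 * u,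
      a6 + σ a8 * p, b6 + σ a7 * p + σ b8 * u + σ b8 * p * σ p + a6 * a8 ^ 2 * σ p + a8 ^ 2 * σ a8 * u, a7 + b8 * p,
      a8, b8⟩ *
      F.x4 (σ p * a8) (σ u * b8 + p * u * b8 + a8 * σ a8 * σ u + p ^ 2 * σ p * b8 + p ^ 2 * σ p * a8 * σ a8) =
      F.E ⟨a1, a2 + p, b2 + u + a2 * σ p, a3 + a4 * p, a4 + a8 * σ p, b4 + a5 * p + a7 * u + b8 * σ u + a7 * p * σ p +
      a8 * σ a8 * σ u + b8 * p * u + a4 * σ a8 * p ^ 2 + b8 * p ^ 2 * σ p + a8 * σ a8 * p ^ 2 * σ p, a5 + a7 * σ p +
      b8 * u + a6 * a8 * σ p + a8 * σ a8 * p * σ p, a6 + σ a8 * p, b6 + σ a7 * p + σ b8 * u + a7 * a8 * σ p + σ b8 *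
      p * σ p + a6 * a8 ^ 2 * σ p + a8 * b8 * p * σ p + a8 ^ 2 * σ a8 * u, a7 + b8 * p, a8, b8⟩ by
    rw [H.R4]
    refine congrArg F.E (Cd.ext ?_ ?_ ?_ ?_ ?_ ?_ ?_ ?_ ?_ ?_ ?_ ?_)
    · first | with_reducible rfl | ((try simp only [map_add, map_mul, map_pow, map_zero, H.hs]) <;> ring1)
    · first | with_reducible rfl | ((try simp only [map_add, map_mul, map_pow, map_zero, H.hs]) <;> ring1)
    · first | with_reducible rfl | ((try simp only [map_add, map_mul, map_pow, map_zero, H.hs]) <;> ring1)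
    · first | with_reducible rfl | ((try simp only [map_add, map_mul, map_pow, map_zero, H.hs]) <;> ring1)
    · first | with_reducible rfl | ((try simp only [map_add, map_mul, map_pow, map_zero, H.hs]) <;> ring1)
    · first | with_reducible rfl | ((try simp only [map_add, map_mul, map_pow, map_zero, H.hs]) <;> ring1)
    · first | with_reducible rfl | ((try simp only [map_add, map_mul, map_pow, map_zero, H.hs]) <;> ring1)
    · first | with_reducible rfl | ((try simp only [map_add, map_mul, map_pow, map_zero, H.hs]) <;> ring1)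
    · first | with_reducible rfl | ((try simp only [map_add, map_mul, map_pow, map_zero, H.hs]) <;> ring1)
    · first | with_reducible rfl | ((try simp only [map_add, map_mul, map_pow, map_zero, H.hs]) <;> ring1)
    · first | with_reducible rfl | ((try simp only [map_add, map_mul, map_pow, map_zero, H.hs]) <;> ring1)
    · first | with_reducible rfl | ((try simp only [map_add, map_mul, map_pow, map_zero, H.hs]) <;> ring1)
    ]
  rw [show F.E ⟨a1, a2 + p, b2 + u + a2 * σ p, a3 + a4 * p, a4 + a8 * σ p, b4 + a5 * p + a7 * u + b8 * σ u + a7 * p * σ p +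
      a8 * σ a8 * σ u + b8 * p * u + a4 * σ a8 * p ^ 2 + b8 * p ^ 2 * σ p + a8 * σ a8 * p ^ 2 * σ p, a5 + a7 * σ p +
      b8 * u + a6 * a8 * σ p + a8 * σ a8 * p * σ p, a6 + σ a8 * p, b6 + σ a7 * p + σ b8 * u + a7 * a8 * σ p + σ b8 *
      p * σ p + a6 * a8 ^ 2 * σ p + a8 * b8 * p * σ p + a8 ^ 2 * σ a8 * u, a7 + b8 * p, a8, b8⟩ *
      F.x3 (a8 * u + p * σ p * a8) =
      F.E ⟨a1, a2 + p, b2 + u + a2 * σ p, a3 + a4 * p + a8 * u + a8 * p * σ p, a4 + a8 * σ p, b4 + a5 * p + a7 * u + b8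
      * σ u + a6 * a8 * u + a7 * p * σ p + b8 * p * u + a4 * σ a8 * p ^ 2 + a6 * a8 * p * σ p + a8 * σ a8 * p * u +
      b8 * p ^ 2 * σ p + a8 * σ a8 * p ^ 2 * σ p, a5 + a7 * σ p + b8 * u + a6 * a8 * σ p + a8 * σ a8 * u, a6 + σ a8
      * p, b6 + σ a7 * p + σ b8 * u + a7 * a8 * σ p + a8 * b8 * u + σ b8 * p * σ p + a6 * a8 ^ 2 * σ p + a8 ^ 2 * σ
      a8 * u, a7 + b8 * p, a8, b8⟩ by
    rw [H.R3]
    refine congrArg F.E (Cd.ext ?_ ?_ ?_ ?_ ?_ ?_ ?_ ?_ ?_ ?_ ?_ ?_)
    · first | with_reducible rfl | ((try simp only [map_add, map_mul, map_pow, map_zero, H.hs]) <;> ring1)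
    · first | with_reducible rfl | ((try simp only [map_add, map_mul, map_pow, map_zero, H.hs]) <;> ring1)
    · first | with_reducible rfl | ((try simp only [map_add, map_mul, map_pow, map_zero, H.hs]) <;> ring1)
    · first | with_reducible rfl | ((try simp only [map_add, map_mul, map_pow, map_zero, H.hs]) <;> ring1)
    · first | with_reducible rfl | ((try simp only [map_add, map_mul, map_pow, map_zero, H.hs]) <;> ring1)
    · try simp only [map_add, map_mul, map_pow, map_zero, H.hs]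
      linear_combination (a8 * σ a8 * p ^ 2 * σ p + a8 * σ a8 * σ u) * H.h2
    · try simp only [map_add, map_mul, map_pow, map_zero, H.hs]
      linear_combination (a8 * σ a8 * p * σ p) * H.h2
    · first | with_reducible rfl | ((try simp only [map_add, map_mul, map_pow, map_zero, H.hs]) <;> ring1)
    · try simp only [map_add, map_mul, map_pow, map_zero, H.hs]
      linear_combination (a8 * b8 * p * σ p) * H.h2
    · first | with_reducible rfl | ((try simp only [map_add, map_mul, map_pow, map_zero, H.hs]) <;> ring1)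
    · first | with_reducible rfl | ((try simp only [map_add, map_mul, map_pow, map_zero, H.hs]) <;> ring1)
    · first | with_reducible rfl | ((try simp only [map_add, map_mul, map_pow, map_zero, H.hs]) <;> ring1)
    ]
/-- right multiplication by a root element of `X2` -/
theorem R2 (c : Cd K) (p u : K) : F.E c * F.x2 p u =
    F.E ⟨c.a1, c.a2 + p, c.b2 + u + c.a2 * σ p, c.a3 + c.a4 * p + c.a8 * u + c.a8 * p * σ p, c.a4 + c.a8 * σ p, c.b4 +
      c.a5 * p + c.a7 * u + c.b8 * σ u + c.a6 * c.a8 * u + c.a7 * p * σ p + c.b8 * p * u + c.a4 * σ c.a8 * p ^ 2 +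
      c.a6 * c.a8 * p * σ p + c.a8 * σ c.a8 * p * u + c.b8 * p ^ 2 * σ p + c.a8 * σ c.a8 * p ^ 2 * σ p, c.a5 + c.a7
      * σ p + c.b8 * u + c.a6 * c.a8 * σ p + c.a8 * σ c.a8 * u, c.a6 + σ c.a8 * p, c.b6 + σ c.a7 * p + σ c.b8 * u +
      c.a7 * c.a8 * σ p + c.a8 * c.b8 * u + σ c.b8 * p * σ p + c.a6 * c.a8 ^ 2 * σ p + c.a8 ^ 2 * σ c.a8 * u, c.a7 +
      c.b8 * p, c.a8, c.b8⟩ :=
  H.s2_8 c.a1 c.a2 c.b2 c.a3 c.a4 c.b4 c.a5 c.a6 c.b6 c.a7 c.a8 c.b8 p u

theorem s1_1 (a1 t : K) : F.x1 a1 * F.x1 t =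
    F.E ⟨a1 + t, 0, 0, 0, 0, 0, 0, 0, 0, 0, 0, 0⟩ := by
  rw [H.rel.m1]
  simp only [Fam.E, H.z1, H.z2, H.z3, H.z4, H.z5, H.z6, H.z7, H.z8, mul_one]
theorem s1_2 (a1 a2 b2 t : K) : F.x1 a1 * F.x2 a2 b2 * F.x1 t =
    F.E ⟨a1 + t, a2, b2, 0, 0, 0, 0, 0, 0, 0, 0, 0⟩ := by
  rw [mul_assoc (F.x1 a1) (F.x2 a2 b2) (F.x1 t), H.w21]
  simp only [← mul_assoc]
  rw [H.s1_1 a1 t]
  rw [show F.E ⟨a1 + t, 0, 0, 0, 0, 0, 0, 0, 0, 0, 0, 0⟩ *
      F.x2 a2 b2 =
      F.E ⟨a1 + t, a2, b2, 0, 0, 0, 0, 0, 0, 0, 0, 0⟩ by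
    rw [H.R2]
    refine congrArg F.E (Cd.ext ?_ ?_ ?_ ?_ ?_ ?_ ?_ ?_ ?_ ?_ ?_ ?_)
    · first | with_reducible rfl | ((try simp only [map_add, map_mul, map_pow, map_zero, H.hs]) <;> ring1)
    · first | with_reducible rfl | ((try simp only [map_add, map_mul, map_pow, map_zero, H.hs]) <;> ring1)
    · first | with_reducible rfl | ((try simp only [map_add, map_mul, map_pow, map_zero, H.hs]) <;> ring1)
    · first | with_reducible rfl | ((try simp only [map_add, map_mul, map_pow, map_zero, H.hs]) <;> ring1)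
    · first | with_reducible rfl | ((try simp only [map_add, map_mul, map_pow, map_zero, H.hs]) <;> ring1)
    · first | with_reducible rfl | ((try simp only [map_add, map_mul, map_pow, map_zero, H.hs]) <;> ring1)
    · first | with_reducible rfl | ((try simp only [map_add, map_mul, map_pow, map_zero, H.hs]) <;> ring1)
    · first | with_reducible rfl | ((try simp only [map_add, map_mul, map_pow, map_zero, H.hs]) <;> ring1)
    · first | with_reducible rfl | ((try simp only [map_add, map_mul, map_pow, map_zero, H.hs]) <;> ring1)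
    · first | with_reducible rfl | ((try simp only [map_add, map_mul, map_pow, map_zero, H.hs]) <;> ring1)
    · first | with_reducible rfl | ((try simp only [map_add, map_mul, map_pow, map_zero, H.hs]) <;> ring1)
    · first | with_reducible rfl | ((try simp only [map_add, map_mul, map_pow, map_zero, H.hs]) <;> ring1)
    ]
theorem s1_3 (a1 a2 b2 a3 t : K) : F.x1 a1 * F.x2 a2 b2 * F.x3 a3 * F.x1 t =
    F.E ⟨a1 + t, a2, b2, a3, 0, 0, 0, 0, 0, 0, 0, 0⟩ := by
  rw [mul_assoc (F.x1 a1 * F.x2 a2 b2) (F.x3 a3) (F.x1 t), H.w31]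
  simp only [← mul_assoc]
  rw [H.s1_2 a1 a2 b2 t]
  rw [show F.E ⟨a1 + t, a2, b2, 0, 0, 0, 0, 0, 0, 0, 0, 0⟩ *
      F.x3 a3 =
      F.E ⟨a1 + t, a2, b2, a3, 0, 0, 0, 0, 0, 0, 0, 0⟩ by
    rw [H.R3]
    refine congrArg F.E (Cd.ext ?_ ?_ ?_ ?_ ?_ ?_ ?_ ?_ ?_ ?_ ?_ ?_)
    · first | with_reducible rfl | ((try simp only [map_add, map_mul, map_pow, map_zero, H.hs]) <;> ring1)
    · first | with_reducible rfl | ((try simp only [map_add, map_mul, map_pow, map_zero, H.hs]) <;> ring1)
    · first | with_reducible rfl | ((try simp only [map_add, map_mul, map_pow, map_zero, H.hs]) <;> ring1)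
    · first | with_reducible rfl | ((try simp only [map_add, map_mul, map_pow, map_zero, H.hs]) <;> ring1)
    · first | with_reducible rfl | ((try simp only [map_add, map_mul, map_pow, map_zero, H.hs]) <;> ring1)
    · first | with_reducible rfl | ((try simp only [map_add, map_mul, map_pow, map_zero, H.hs]) <;> ring1)
    · first | with_reducible rfl | ((try simp only [map_add, map_mul, map_pow, map_zero, H.hs]) <;> ring1)
    · first | with_reducible rfl | ((try simp only [map_add, map_mul, map_pow, map_zero, H.hs]) <;> ring1)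
    · first | with_reducible rfl | ((try simp only [map_add, map_mul, map_pow, map_zero, H.hs]) <;> ring1)
    · first | with_reducible rfl | ((try simp only [map_add, map_mul, map_pow, map_zero, H.hs]) <;> ring1)
    · first | with_reducible rfl | ((try simp only [map_add, map_mul, map_pow, map_zero, H.hs]) <;> ring1)
    · first | with_reducible rfl | ((try simp only [map_add, map_mul, map_pow, map_zero, H.hs]) <;> ring1)
    ]
theorem s1_4 (a1 a2 b2 a3 a4 b4 t : K) : F.x1 a1 * F.x2 a2 b2 * F.x3 a3 * F.x4 a4 b4 * F.x1 t =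
    F.E ⟨a1 + t, a2, b2 + a4 * t, a3, a4, b4, 0, 0, 0, 0, 0, 0⟩ := by
  rw [mul_assoc (F.x1 a1 * F.x2 a2 b2 * F.x3 a3) (F.x4 a4 b4) (F.x1 t), H.w41]
  simp only [← mul_assoc]
  rw [H.s1_3 a1 a2 b2 a3 t]
  rw [show F.E ⟨a1 + t, a2, b2, a3, 0, 0, 0, 0, 0, 0, 0, 0⟩ *
      F.x4 a4 b4 =
      F.E ⟨a1 + t, a2, b2, a3, a4, b4, 0, 0, 0, 0, 0, 0⟩ by
    rw [H.R4]
    refine congrArg F.E (Cd.ext ?_ ?_ ?_ ?_ ?_ ?_ ?_ ?_ ?_ ?_ ?_ ?_)
    · first | with_reducible rfl | ((try simp only [map_add, map_mul, map_pow, map_zero, H.hs]) <;> ring1)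
    · first | with_reducible rfl | ((try simp only [map_add, map_mul, map_pow, map_zero, H.hs]) <;> ring1)
    · first | with_reducible rfl | ((try simp only [map_add, map_mul, map_pow, map_zero, H.hs]) <;> ring1)
    · first | with_reducible rfl | ((try simp only [map_add, map_mul, map_pow, map_zero, H.hs]) <;> ring1)
    · first | with_reducible rfl | ((try simp only [map_add, map_mul, map_pow, map_zero, H.hs]) <;> ring1)
    · first | with_reducible rfl | ((try simp only [map_add, map_mul, map_pow, map_zero, H.hs]) <;> ring1)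
    · first | with_reducible rfl | ((try simp only [map_add, map_mul, map_pow, map_zero, H.hs]) <;> ring1)
    · first | with_reducible rfl | ((try simp only [map_add, map_mul, map_pow, map_zero, H.hs]) <;> ring1)
    · first | with_reducible rfl | ((try simp only [map_add, map_mul, map_pow, map_zero, H.hs]) <;> ring1)
    · first | with_reducible rfl | ((try simp only [map_add, map_mul, map_pow, map_zero, H.hs]) <;> ring1)
    · first | with_reducible rfl | ((try simp only [map_add, map_mul, map_pow, map_zero, H.hs]) <;> ring1)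
    · first | with_reducible rfl | ((try simp only [map_add, map_mul, map_pow, map_zero, H.hs]) <;> ring1)
    ]
  rw [show F.E ⟨a1 + t, a2, b2, a3, a4, b4, 0, 0, 0, 0, 0, 0⟩ *
      F.x2 (0) (a4 * t) =
      F.E ⟨a1 + t, a2, b2 + a4 * t, a3, a4, b4, 0, 0, 0, 0, 0, 0⟩ by
    rw [H.R2]
    refine congrArg F.E (Cd.ext ?_ ?_ ?_ ?_ ?_ ?_ ?_ ?_ ?_ ?_ ?_ ?_)
    · first | with_reducible rfl | ((try simp only [map_add, map_mul, map_pow, map_zero, H.hs]) <;> ring1)
    · first | with_reducible rfl | ((try simp only [map_add, map_mul, map_pow, map_zero, H.hs]) <;> ring1)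
    · first | with_reducible rfl | ((try simp only [map_add, map_mul, map_pow, map_zero, H.hs]) <;> ring1)
    · first | with_reducible rfl | ((try simp only [map_add, map_mul, map_pow, map_zero, H.hs]) <;> ring1)
    · first | with_reducible rfl | ((try simp only [map_add, map_mul, map_pow, map_zero, H.hs]) <;> ring1)
    · first | with_reducible rfl | ((try simp only [map_add, map_mul, map_pow, map_zero, H.hs]) <;> ring1)
    · first | with_reducible rfl | ((try simp only [map_add, map_mul, map_pow, map_zero, H.hs]) <;> ring1)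
    · first | with_reducible rfl | ((try simp only [map_add, map_mul, map_pow, map_zero, H.hs]) <;> ring1)
    · first | with_reducible rfl | ((try simp only [map_add, map_mul, map_pow, map_zero, H.hs]) <;> ring1)
    · first | with_reducible rfl | ((try simp only [map_add, map_mul, map_pow, map_zero, H.hs]) <;> ring1)
    · first | with_reducible rfl | ((try simp only [map_add, map_mul, map_pow, map_zero, H.hs]) <;> ring1)
    · first | with_reducible rfl | ((try simp only [map_add, map_mul, map_pow, map_zero, H.hs]) <;> ring1)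
    ]
theorem s1_5 (a1 a2 b2 a3 a4 b4 a5 t : K) : F.x1 a1 * F.x2 a2 b2 * F.x3 a3 * F.x4 a4 b4 * F.x5 a5 * F.x1 t =
    F.E ⟨a1 + t, a2, b2 + a4 * t, a3, a4, b4, a5, 0, 0, 0, 0, 0⟩ := by
  rw [mul_assoc (F.x1 a1 * F.x2 a2 b2 * F.x3 a3 * F.x4 a4 b4) (F.x5 a5) (F.x1 t), H.w51]
  simp only [← mul_assoc]
  rw [H.s1_4 a1 a2 b2 a3 a4 b4 t]
  rw [show F.E ⟨a1 + t, a2, b2 + a4 * t, a3, a4, b4, 0, 0, 0, 0, 0, 0⟩ *
      F.x5 a5 =
      F.E ⟨a1 + t, a2, b2 + a4 * t, a3, a4, b4, a5, 0, 0, 0, 0, 0⟩ by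
    rw [H.R5]
    refine congrArg F.E (Cd.ext ?_ ?_ ?_ ?_ ?_ ?_ ?_ ?_ ?_ ?_ ?_ ?_)
    · first | with_reducible rfl | ((try simp only [map_add, map_mul, map_pow, map_zero, H.hs]) <;> ring1)
    · first | with_reducible rfl | ((try simp only [map_add, map_mul, map_pow, map_zero, H.hs]) <;> ring1)
    · first | with_reducible rfl | ((try simp only [map_add, map_mul, map_pow, map_zero, H.hs]) <;> ring1)
    · first | with_reducible rfl | ((try simp only [map_add, map_mul, map_pow, map_zero, H.hs]) <;> ring1)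
    · first | with_reducible rfl | ((try simp only [map_add, map_mul, map_pow, map_zero, H.hs]) <;> ring1)
    · first | with_reducible rfl | ((try simp only [map_add, map_mul, map_pow, map_zero, H.hs]) <;> ring1)
    · first | with_reducible rfl | ((try simp only [map_add, map_mul, map_pow, map_zero, H.hs]) <;> ring1)
    · first | with_reducible rfl | ((try simp only [map_add, map_mul, map_pow, map_zero, H.hs]) <;> ring1)
    · first | with_reducible rfl | ((try simp only [map_add, map_mul, map_pow, map_zero, H.hs]) <;> ring1)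
    · first | with_reducible rfl | ((try simp only [map_add, map_mul, map_pow, map_zero, H.hs]) <;> ring1)
    · first | with_reducible rfl | ((try simp only [map_add, map_mul, map_pow, map_zero, H.hs]) <;> ring1)
    · first | with_reducible rfl | ((try simp only [map_add, map_mul, map_pow, map_zero, H.hs]) <;> ring1)
    ]
theorem s1_6 (a1 a2 b2 a3 a4 b4 a5 a6 b6 t : K) : F.x1 a1 * F.x2 a2 b2 * F.x3 a3 * F.x4 a4 b4 * F.x5 a5 * F.x6 a6 b6 * F.x1 t =
    F.E ⟨a1 + t, a2, b2 + a4 * t + a6 * σ t, a3 + σ a6 * t, a4, b4 + b6 * t, a5, a6, b6, 0, 0, 0⟩ := by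
  rw [mul_assoc (F.x1 a1 * F.x2 a2 b2 * F.x3 a3 * F.x4 a4 b4 * F.x5 a5) (F.x6 a6 b6) (F.x1 t), H.w61]
  simp only [← mul_assoc]
  rw [H.s1_5 a1 a2 b2 a3 a4 b4 a5 t]
  rw [show F.E ⟨a1 + t, a2, b2 + a4 * t, a3, a4, b4, a5, 0, 0, 0, 0, 0⟩ *
      F.x6 a6 b6 =
      F.E ⟨a1 + t, a2, b2 + a4 * t, a3, a4, b4, a5, a6, b6, 0, 0, 0⟩ by
    rw [H.R6]
    refine congrArg F.E (Cd.ext ?_ ?_ ?_ ?_ ?_ ?_ ?_ ?_ ?_ ?_ ?_ ?_)
    · first | with_reducible rfl | ((try simp only [map_add, map_mul, map_pow, map_zero, H.hs]) <;> ring1)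
    · first | with_reducible rfl | ((try simp only [map_add, map_mul, map_pow, map_zero, H.hs]) <;> ring1)
    · first | with_reducible rfl | ((try simp only [map_add, map_mul, map_pow, map_zero, H.hs]) <;> ring1)
    · first | with_reducible rfl | ((try simp only [map_add, map_mul, map_pow, map_zero, H.hs]) <;> ring1)
    · first | with_reducible rfl | ((try simp only [map_add, map_mul, map_pow, map_zero, H.hs]) <;> ring1)
    · first | with_reducible rfl | ((try simp only [map_add, map_mul, map_pow, map_zero, H.hs]) <;> ring1)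
    · first | with_reducible rfl | ((try simp only [map_add, map_mul, map_pow, map_zero, H.hs]) <;> ring1)
    · first | with_reducible rfl | ((try simp only [map_add, map_mul, map_pow, map_zero, H.hs]) <;> ring1)
    · first | with_reducible rfl | ((try simp only [map_add, map_mul, map_pow, map_zero, H.hs]) <;> ring1)
    · first | with_reducible rfl | ((try simp only [map_add, map_mul, map_pow, map_zero, H.hs]) <;> ring1)
    · first | with_reducible rfl | ((try simp only [map_add, map_mul, map_pow, map_zero, H.hs]) <;> ring1)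
    · first | with_reducible rfl | ((try simp only [map_add, map_mul, map_pow, map_zero, H.hs]) <;> ring1)
    ]
  rw [show F.E ⟨a1 + t, a2, b2 + a4 * t, a3, a4, b4, a5, a6, b6, 0, 0, 0⟩ *
      F.x4 (0) (t * b6 + a6 * σ a6 * t) =
      F.E ⟨a1 + t, a2, b2 + a4 * t, a3, a4, b4 + b6 * t + a6 * σ a6 * t, a5, a6, b6, 0, 0, 0⟩ by
    rw [H.R4]
    refine congrArg F.E (Cd.ext ?_ ?_ ?_ ?_ ?_ ?_ ?_ ?_ ?_ ?_ ?_ ?_)
    · first | with_reducible rfl | ((try simp only [map_add, map_mul, map_pow, map_zero, H.hs]) <;> ring1)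
    · first | with_reducible rfl | ((try simp only [map_add, map_mul, map_pow, map_zero, H.hs]) <;> ring1)
    · first | with_reducible rfl | ((try simp only [map_add, map_mul, map_pow, map_zero, H.hs]) <;> ring1)
    · first | with_reducible rfl | ((try simp only [map_add, map_mul, map_pow, map_zero, H.hs]) <;> ring1)
    · first | with_reducible rfl | ((try simp only [map_add, map_mul, map_pow, map_zero, H.hs]) <;> ring1)
    · first | with_reducible rfl | ((try simp only [map_add, map_mul, map_pow, map_zero, H.hs]) <;> ring1)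
    · first | with_reducible rfl | ((try simp only [map_add, map_mul, map_pow, map_zero, H.hs]) <;> ring1)
    · first | with_reducible rfl | ((try simp only [map_add, map_mul, map_pow, map_zero, H.hs]) <;> ring1)
    · first | with_reducible rfl | ((try simp only [map_add, map_mul, map_pow, map_zero, H.hs]) <;> ring1)
    · first | with_reducible rfl | ((try simp only [map_add, map_mul, map_pow, map_zero, H.hs]) <;> ring1)
    · first | with_reducible rfl | ((try simp only [map_add, map_mul, map_pow, map_zero, H.hs]) <;> ring1)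
    · first | with_reducible rfl | ((try simp only [map_add, map_mul, map_pow, map_zero, H.hs]) <;> ring1)
    ]
  rw [show F.E ⟨a1 + t, a2, b2 + a4 * t, a3, a4, b4 + b6 * t + a6 * σ a6 * t, a5, a6, b6, 0, 0, 0⟩ *
      F.x3 (σ a6 * t) =
      F.E ⟨a1 + t, a2, b2 + a4 * t, a3 + σ a6 * t, a4, b4 + b6 * t, a5, a6, b6, 0, 0, 0⟩ by
    rw [H.R3]
    refine congrArg F.E (Cd.ext ?_ ?_ ?_ ?_ ?_ ?_ ?_ ?_ ?_ ?_ ?_ ?_)
    · first | with_reducible rfl | ((try simp only [map_add, map_mul, map_pow, map_zero, H.hs]) <;> ring1)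
    · first | with_reducible rfl | ((try simp only [map_add, map_mul, map_pow, map_zero, H.hs]) <;> ring1)
    · first | with_reducible rfl | ((try simp only [map_add, map_mul, map_pow, map_zero, H.hs]) <;> ring1)
    · first | with_reducible rfl | ((try simp only [map_add, map_mul, map_pow, map_zero, H.hs]) <;> ring1)
    · first | with_reducible rfl | ((try simp only [map_add, map_mul, map_pow, map_zero, H.hs]) <;> ring1)
    · try simp only [map_add, map_mul, map_pow, map_zero, H.hs]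
      linear_combination (a6 * σ a6 * t) * H.h2
    · first | with_reducible rfl | ((try simp only [map_add, map_mul, map_pow, map_zero, H.hs]) <;> ring1)
    · first | with_reducible rfl | ((try simp only [map_add, map_mul, map_pow, map_zero, H.hs]) <;> ring1)
    · first | with_reducible rfl | ((try simp only [map_add, map_mul, map_pow, map_zero, H.hs]) <;> ring1)
    · first | with_reducible rfl | ((try simp only [map_add, map_mul, map_pow, map_zero, H.hs]) <;> ring1)
    · first | with_reducible rfl | ((try simp only [map_add, map_mul, map_pow, map_zero, H.hs]) <;> ring1)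
    · first | with_reducible rfl | ((try simp only [map_add, map_mul, map_pow, map_zero, H.hs]) <;> ring1)
    ]
  rw [show F.E ⟨a1 + t, a2, b2 + a4 * t, a3 + σ a6 * t, a4, b4 + b6 * t, a5, a6, b6, 0, 0, 0⟩ *
      F.x2 (0) (a6 * σ t) =
      F.E ⟨a1 + t, a2, b2 + a4 * t + a6 * σ t, a3 + σ a6 * t, a4, b4 + b6 * t, a5, a6, b6, 0, 0, 0⟩ by
    rw [H.R2]
    refine congrArg F.E (Cd.ext ?_ ?_ ?_ ?_ ?_ ?_ ?_ ?_ ?_ ?_ ?_ ?_)
    · first | with_reducible rfl | ((try simp only [map_add, map_mul, map_pow, map_zero, H.hs]) <;> ring1)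
    · first | with_reducible rfl | ((try simp only [map_add, map_mul, map_pow, map_zero, H.hs]) <;> ring1)
    · first | with_reducible rfl | ((try simp only [map_add, map_mul, map_pow, map_zero, H.hs]) <;> ring1)
    · first | with_reducible rfl | ((try simp only [map_add, map_mul, map_pow, map_zero, H.hs]) <;> ring1)
    · first | with_reducible rfl | ((try simp only [map_add, map_mul, map_pow, map_zero, H.hs]) <;> ring1)
    · first | with_reducible rfl | ((try simp only [map_add, map_mul, map_pow, map_zero, H.hs]) <;> ring1)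
    · first | with_reducible rfl | ((try simp only [map_add, map_mul, map_pow, map_zero, H.hs]) <;> ring1)
    · first | with_reducible rfl | ((try simp only [map_add, map_mul, map_pow, map_zero, H.hs]) <;> ring1)
    · first | with_reducible rfl | ((try simp only [map_add, map_mul, map_pow, map_zero, H.hs]) <;> ring1)
    · first | with_reducible rfl | ((try simp only [map_add, map_mul, map_pow, map_zero, H.hs]) <;> ring1)
    · first | with_reducible rfl | ((try simp only [map_add, map_mul, map_pow, map_zero, H.hs]) <;> ring1)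
    · first | with_reducible rfl | ((try simp only [map_add, map_mul, map_pow, map_zero, H.hs]) <;> ring1)
    ]
theorem s1_7 (a1 a2 b2 a3 a4 b4 a5 a6 b6 a7 t : K) : F.x1 a1 * F.x2 a2 b2 * F.x3 a3 * F.x4 a4 b4 * F.x5 a5 * F.x6 a6 b6 * F.x7 a7 * F.x1 t =
    F.E ⟨a1 + t, a2, b2 + a4 * t + a6 * σ t, a3 + σ a6 * t + a7 * σ t, a4, b4 + b6 * t + a6 * a7 * σ t, a5 + σ a7 * t,
      a6, b6, a7, 0, 0⟩ := by
  rw [mul_assoc (F.x1 a1 * F.x2 a2 b2 * F.x3 a3 * F.x4 a4 b4 * F.x5 a5 * F.x6 a6 b6) (F.x7 a7) (F.x1 t), H.w71]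
  simp only [← mul_assoc]
  rw [H.s1_6 a1 a2 b2 a3 a4 b4 a5 a6 b6 t]
  rw [show F.E ⟨a1 + t, a2, b2 + a4 * t + a6 * σ t, a3 + σ a6 * t, a4, b4 + b6 * t, a5, a6, b6, 0, 0, 0⟩ *
      F.x7 a7 =
      F.E ⟨a1 + t, a2, b2 + a4 * t + a6 * σ t, a3 + σ a6 * t, a4, b4 + b6 * t, a5, a6, b6, a7, 0, 0⟩ by
    rw [H.R7]
    refine congrArg F.E (Cd.ext ?_ ?_ ?_ ?_ ?_ ?_ ?_ ?_ ?_ ?_ ?_ ?_)
    · first | with_reducible rfl | ((try simp only [map_add, map_mul, map_pow, map_zero, H.hs]) <;> ring1)
    · first | with_reducible rfl | ((try simp only [map_add, map_mul, map_pow, map_zero, H.hs]) <;> ring1)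
    · first | with_reducible rfl | ((try simp only [map_add, map_mul, map_pow, map_zero, H.hs]) <;> ring1)
    · first | with_reducible rfl | ((try simp only [map_add, map_mul, map_pow, map_zero, H.hs]) <;> ring1)
    · first | with_reducible rfl | ((try simp only [map_add, map_mul, map_pow, map_zero, H.hs]) <;> ring1)
    · first | with_reducible rfl | ((try simp only [map_add, map_mul, map_pow, map_zero, H.hs]) <;> ring1)
    · first | with_reducible rfl | ((try simp only [map_add, map_mul, map_pow, map_zero, H.hs]) <;> ring1)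
    · first | with_reducible rfl | ((try simp only [map_add, map_mul, map_pow, map_zero, H.hs]) <;> ring1)
    · first | with_reducible rfl | ((try simp only [map_add, map_mul, map_pow, map_zero, H.hs]) <;> ring1)
    · first | with_reducible rfl | ((try simp only [map_add, map_mul, map_pow, map_zero, H.hs]) <;> ring1)
    · first | with_reducible rfl | ((try simp only [map_add, map_mul, map_pow, map_zero, H.hs]) <;> ring1)
    · first | with_reducible rfl | ((try simp only [map_add, map_mul, map_pow, map_zero, H.hs]) <;> ring1)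
    ]
  rw [show F.E ⟨a1 + t, a2, b2 + a4 * t + a6 * σ t, a3 + σ a6 * t, a4, b4 + b6 * t, a5, a6, b6, a7, 0, 0⟩ *
      F.x5 (σ a7 * t) =
      F.E ⟨a1 + t, a2, b2 + a4 * t + a6 * σ t, a3 + σ a6 * t, a4, b4 + b6 * t, a5 + σ a7 * t, a6, b6, a7, 0, 0⟩ by
    rw [H.R5]
    refine congrArg F.E (Cd.ext ?_ ?_ ?_ ?_ ?_ ?_ ?_ ?_ ?_ ?_ ?_ ?_)
    · first | with_reducible rfl | ((try simp only [map_add, map_mul, map_pow, map_zero, H.hs]) <;> ring1)
    · first | with_reducible rfl | ((try simp only [map_add, map_mul, map_pow, map_zero, H.hs]) <;> ring1)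
    · first | with_reducible rfl | ((try simp only [map_add, map_mul, map_pow, map_zero, H.hs]) <;> ring1)
    · first | with_reducible rfl | ((try simp only [map_add, map_mul, map_pow, map_zero, H.hs]) <;> ring1)
    · first | with_reducible rfl | ((try simp only [map_add, map_mul, map_pow, map_zero, H.hs]) <;> ring1)
    · first | with_reducible rfl | ((try simp only [map_add, map_mul, map_pow, map_zero, H.hs]) <;> ring1)
    · first | with_reducible rfl | ((try simp only [map_add, map_mul, map_pow, map_zero, H.hs]) <;> ring1)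
    · first | with_reducible rfl | ((try simp only [map_add, map_mul, map_pow, map_zero, H.hs]) <;> ring1)
    · first | with_reducible rfl | ((try simp only [map_add, map_mul, map_pow, map_zero, H.hs]) <;> ring1)
    · first | with_reducible rfl | ((try simp only [map_add, map_mul, map_pow, map_zero, H.hs]) <;> ring1)
    · first | with_reducible rfl | ((try simp only [map_add, map_mul, map_pow, map_zero, H.hs]) <;> ring1)
    · first | with_reducible rfl | ((try simp only [map_add, map_mul, map_pow, map_zero, H.hs]) <;> ring1)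
    ]
  rw [show F.E ⟨a1 + t, a2, b2 + a4 * t + a6 * σ t, a3 + σ a6 * t, a4, b4 + b6 * t, a5 + σ a7 * t, a6, b6, a7, 0, 0⟩ *
      F.x3 (a7 * σ t) =
      F.E ⟨a1 + t, a2, b2 + a4 * t + a6 * σ t, a3 + σ a6 * t + a7 * σ t, a4, b4 + b6 * t + a6 * a7 * σ t, a5 + σ a7 * t,
      a6, b6, a7, 0, 0⟩ by
    rw [H.R3]
    refine congrArg F.E (Cd.ext ?_ ?_ ?_ ?_ ?_ ?_ ?_ ?_ ?_ ?_ ?_ ?_)
    · first | with_reducible rfl | ((try simp only [map_add, map_mul, map_pow, map_zero, H.hs]) <;> ring1)
    · first | with_reducible rfl | ((try simp only [map_add, map_mul, map_pow, map_zero, H.hs]) <;> ring1)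
    · first | with_reducible rfl | ((try simp only [map_add, map_mul, map_pow, map_zero, H.hs]) <;> ring1)
    · first | with_reducible rfl | ((try simp only [map_add, map_mul, map_pow, map_zero, H.hs]) <;> ring1)
    · first | with_reducible rfl | ((try simp only [map_add, map_mul, map_pow, map_zero, H.hs]) <;> ring1)
    · first | with_reducible rfl | ((try simp only [map_add, map_mul, map_pow, map_zero, H.hs]) <;> ring1)
    · first | with_reducible rfl | ((try simp only [map_add, map_mul, map_pow, map_zero, H.hs]) <;> ring1)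
    · first | with_reducible rfl | ((try simp only [map_add, map_mul, map_pow, map_zero, H.hs]) <;> ring1)
    · first | with_reducible rfl | ((try simp only [map_add, map_mul, map_pow, map_zero, H.hs]) <;> ring1)
    · first | with_reducible rfl | ((try simp only [map_add, map_mul, map_pow, map_zero, H.hs]) <;> ring1)
    · first | with_reducible rfl | ((try simp only [map_add, map_mul, map_pow, map_zero, H.hs]) <;> ring1)
    · first | with_reducible rfl | ((try simp only [map_add, map_mul, map_pow, map_zero, H.hs]) <;> ring1)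
    ]
theorem s1_8 (a1 a2 b2 a3 a4 b4 a5 a6 b6 a7 a8 b8 t : K) : F.x1 a1 * F.x2 a2 b2 * F.x3 a3 * F.x4 a4 b4 * F.x5 a5 * F.x6 a6 b6 * F.x7 a7 * F.x8 a8 b8 * F.x1 t =
    F.E ⟨a1 + t, a2 + a8 * t, b2 + a4 * t + a6 * σ t + a2 * σ a8 * σ t + b8 * t * σ t, a3 + σ a6 * t + a7 * σ t + a4 *
      a8 * t + σ b8 * t * σ t + a8 * b8 * t * σ t + a8 ^ 2 * σ a8 * t * σ t, a4 + b8 * σ t, b4 + b6 * t + a5 * a8 *
      t + a6 * a7 * σ t + a4 * σ b8 * t ^ 2 + a6 * σ b8 * t * σ t + σ a7 * a8 * t ^ 2 + a7 * b8 * t * σ t + a6 * a8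
      * b8 * t * σ t + a7 * a8 * σ a8 * t * σ t + b8 * σ b8 * t ^ 2 * σ t + a6 * a8 ^ 2 * σ a8 * t * σ t + a8 * b8 ^
      2 * t ^ 2 * σ t + a8 * σ a8 * σ b8 * t ^ 2 * σ t + a8 ^ 3 * (σ a8) ^ 2 * t ^ 2 * σ t, a5 + σ a7 * t + a6 * b8
      * σ t + a7 * σ a8 * σ t + σ a8 * σ b8 * t * σ t + b8 ^ 2 * t * σ t + a8 ^ 2 * (σ a8) ^ 2 * t * σ t, a6 + b8 *
      t + a8 * σ a8 * t, b6 + a6 * σ b8 * σ t + σ a7 * a8 * t + a7 * b8 * σ t + a6 * a8 ^ 2 * σ a8 * σ t + a8 * b8 ^
      2 * t * σ t + a8 * σ a8 * σ b8 * t * σ t + a8 ^ 3 * (σ a8) ^ 2 * t * σ t, a7 + σ b8 * t + a8 * b8 * t + a8 ^ 2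
      * σ a8 * t, a8, b8⟩ := by
  rw [mul_assoc (F.x1 a1 * F.x2 a2 b2 * F.x3 a3 * F.x4 a4 b4 * F.x5 a5 * F.x6 a6 b6 * F.x7 a7) (F.x8 a8 b8) (F.x1 t), H.w81]
  simp only [← mul_assoc]
  rw [H.s1_7 a1 a2 b2 a3 a4 b4 a5 a6 b6 a7 t]
  rw [show F.E ⟨a1 + t, a2, b2 + a4 * t + a6 * σ t, a3 + σ a6 * t + a7 * σ t, a4, b4 + b6 * t + a6 * a7 * σ t, a5 + σ a7 * t,
      a6, b6, a7, 0, 0⟩ *
      F.x8 a8 b8 =
      F.E ⟨a1 + t, a2, b2 + a4 * t + a6 * σ t, a3 + σ a6 * t + a7 * σ t, a4, b4 + b6 * t + a6 * a7 * σ t, a5 + σ a7 * t,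
      a6, b6, a7, a8, b8⟩ by
    rw [H.R8]
    refine congrArg F.E (Cd.ext ?_ ?_ ?_ ?_ ?_ ?_ ?_ ?_ ?_ ?_ ?_ ?_)
    · first | with_reducible rfl | ((try simp only [map_add, map_mul, map_pow, map_zero, H.hs]) <;> ring1)
    · first | with_reducible rfl | ((try simp only [map_add, map_mul, map_pow, map_zero, H.hs]) <;> ring1)
    · first | with_reducible rfl | ((try simp only [map_add, map_mul, map_pow, map_zero, H.hs]) <;> ring1)
    · first | with_reducible rfl | ((try simp only [map_add, map_mul, map_pow, map_zero, H.hs]) <;> ring1)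
    · first | with_reducible rfl | ((try simp only [map_add, map_mul, map_pow, map_zero, H.hs]) <;> ring1)
    · first | with_reducible rfl | ((try simp only [map_add, map_mul, map_pow, map_zero, H.hs]) <;> ring1)
    · first | with_reducible rfl | ((try simp only [map_add, map_mul, map_pow, map_zero, H.hs]) <;> ring1)
    · first | with_reducible rfl | ((try simp only [map_add, map_mul, map_pow, map_zero, H.hs]) <;> ring1)
    · first | with_reducible rfl | ((try simp only [map_add, map_mul, map_pow, map_zero, H.hs]) <;> ring1)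
    · first | with_reducible rfl | ((try simp only [map_add, map_mul, map_pow, map_zero, H.hs]) <;> ring1)
    · first | with_reducible rfl | ((try simp only [map_add, map_mul, map_pow, map_zero, H.hs]) <;> ring1)
    · first | with_reducible rfl | ((try simp only [map_add, map_mul, map_pow, map_zero, H.hs]) <;> ring1)
    ]
  rw [show F.E ⟨a1 + t, a2, b2 + a4 * t + a6 * σ t, a3 + σ a6 * t + a7 * σ t, a4, b4 + b6 * t + a6 * a7 * σ t, a5 + σ a7 * t,
      a6, b6, a7, a8, b8⟩ *
      F.x7 (t * σ b8 + a8 * t * b8 + a8 ^ 2 * σ a8 * t) =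
      F.E ⟨a1 + t, a2, b2 + a4 * t + a6 * σ t, a3 + σ a6 * t + a7 * σ t, a4, b4 + b6 * t + a6 * a7 * σ t, a5 + σ a7 * t,
      a6, b6, a7 + σ b8 * t + a8 * b8 * t + a8 ^ 2 * σ a8 * t, a8, b8⟩ by
    rw [H.R7]
    refine congrArg F.E (Cd.ext ?_ ?_ ?_ ?_ ?_ ?_ ?_ ?_ ?_ ?_ ?_ ?_)
    · first | with_reducible rfl | ((try simp only [map_add, map_mul, map_pow, map_zero, H.hs]) <;> ring1)
    · first | with_reducible rfl | ((try simp only [map_add, map_mul, map_pow, map_zero, H.hs]) <;> ring1)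
    · first | with_reducible rfl | ((try simp only [map_add, map_mul, map_pow, map_zero, H.hs]) <;> ring1)
    · first | with_reducible rfl | ((try simp only [map_add, map_mul, map_pow, map_zero, H.hs]) <;> ring1)
    · first | with_reducible rfl | ((try simp only [map_add, map_mul, map_pow, map_zero, H.hs]) <;> ring1)
    · first | with_reducible rfl | ((try simp only [map_add, map_mul, map_pow, map_zero, H.hs]) <;> ring1)
    · first | with_reducible rfl | ((try simp only [map_add, map_mul, map_pow, map_zero, H.hs]) <;> ring1)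
    · first | with_reducible rfl | ((try simp only [map_add, map_mul, map_pow, map_zero, H.hs]) <;> ring1)
    · first | with_reducible rfl | ((try simp only [map_add, map_mul, map_pow, map_zero, H.hs]) <;> ring1)
    · first | with_reducible rfl | ((try simp only [map_add, map_mul, map_pow, map_zero, H.hs]) <;> ring1)
    · first | with_reducible rfl | ((try simp only [map_add, map_mul, map_pow, map_zero, H.hs]) <;> ring1)
    · first | with_reducible rfl | ((try simp only [map_add, map_mul, map_pow, map_zero, H.hs]) <;> ring1)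
    ]
  rw [show F.E ⟨a1 + t, a2, b2 + a4 * t + a6 * σ t, a3 + σ a6 * t + a7 * σ t, a4, b4 + b6 * t + a6 * a7 * σ t, a5 + σ a7 * t,
      a6, b6, a7 + σ b8 * t + a8 * b8 * t + a8 ^ 2 * σ a8 * t, a8, b8⟩ *
      F.x6 (t * b8) (t * σ t * b8 * σ b8 + a8 * t * σ t * b8 ^ 2 + a8 * σ a8 * t * σ t * σ b8 + a8 ^ 3 * (σ a8) ^ 2
      * t * σ t) =
      F.E ⟨a1 + t, a2, b2 + a4 * t + a6 * σ t, a3 + σ a6 * t + a7 * σ t, a4, b4 + b6 * t + a6 * a7 * σ t, a5 + σ a7 * t,
      a6 + b8 * t, b6 + a6 * σ b8 * σ t + b8 * σ b8 * t * σ t + a8 * b8 ^ 2 * t * σ t + a8 * σ a8 * σ b8 * t * σ t +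
      a8 ^ 3 * (σ a8) ^ 2 * t * σ t, a7 + σ b8 * t + a8 ^ 2 * σ a8 * t, a8, b8⟩ by
    rw [H.R6]
    refine congrArg F.E (Cd.ext ?_ ?_ ?_ ?_ ?_ ?_ ?_ ?_ ?_ ?_ ?_ ?_)
    · first | with_reducible rfl | ((try simp only [map_add, map_mul, map_pow, map_zero, H.hs]) <;> ring1)
    · first | with_reducible rfl | ((try simp only [map_add, map_mul, map_pow, map_zero, H.hs]) <;> ring1)
    · first | with_reducible rfl | ((try simp only [map_add, map_mul, map_pow, map_zero, H.hs]) <;> ring1)
    · first | with_reducible rfl | ((try simp only [map_add, map_mul, map_pow, map_zero, H.hs]) <;> ring1)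
    · first | with_reducible rfl | ((try simp only [map_add, map_mul, map_pow, map_zero, H.hs]) <;> ring1)
    · first | with_reducible rfl | ((try simp only [map_add, map_mul, map_pow, map_zero, H.hs]) <;> ring1)
    · first | with_reducible rfl | ((try simp only [map_add, map_mul, map_pow, map_zero, H.hs]) <;> ring1)
    · first | with_reducible rfl | ((try simp only [map_add, map_mul, map_pow, map_zero, H.hs]) <;> ring1)
    · first | with_reducible rfl | ((try simp only [map_add, map_mul, map_pow, map_zero, H.hs]) <;> ring1)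
    · try simp only [map_add, map_mul, map_pow, map_zero, H.hs]
      linear_combination (a8 * b8 * t) * H.h2
    · first | with_reducible rfl | ((try simp only [map_add, map_mul, map_pow, map_zero, H.hs]) <;> ring1)
    · first | with_reducible rfl | ((try simp only [map_add, map_mul, map_pow, map_zero, H.hs]) <;> ring1)
    ]
  rw [show F.E ⟨a1 + t, a2, b2 + a4 * t + a6 * σ t, a3 + σ a6 * t + a7 * σ t, a4, b4 + b6 * t + a6 * a7 * σ t, a5 + σ a7 * t,
      a6 + b8 * t, b6 + a6 * σ b8 * σ t + b8 * σ b8 * t * σ t + a8 * b8 ^ 2 * t * σ t + a8 * σ a8 * σ b8 * t * σ t +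
      a8 ^ 3 * (σ a8) ^ 2 * t * σ t, a7 + σ b8 * t + a8 ^ 2 * σ a8 * t, a8, b8⟩ *
      F.x5 (σ a8 * t * σ t * σ b8 + t * σ t * b8 ^ 2 + a8 ^ 2 * (σ a8) ^ 2 * t * σ t) =
      F.E ⟨a1 + t, a2, b2 + a4 * t + a6 * σ t, a3 + σ a6 * t + a7 * σ t, a4, b4 + b6 * t + a6 * a7 * σ t, a5 + σ a7 * t
      + σ a8 * σ b8 * t * σ t + b8 ^ 2 * t * σ t + a8 ^ 2 * (σ a8) ^ 2 * t * σ t, a6 + b8 * t, b6 + a6 * σ b8 * σ t
      + b8 * σ b8 * t * σ t, a7 + σ b8 * t + a8 ^ 2 * σ a8 * t, a8, b8⟩ by
    rw [H.R5]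
    refine congrArg F.E (Cd.ext ?_ ?_ ?_ ?_ ?_ ?_ ?_ ?_ ?_ ?_ ?_ ?_)
    · first | with_reducible rfl | ((try simp only [map_add, map_mul, map_pow, map_zero, H.hs]) <;> ring1)
    · first | with_reducible rfl | ((try simp only [map_add, map_mul, map_pow, map_zero, H.hs]) <;> ring1)
    · first | with_reducible rfl | ((try simp only [map_add, map_mul, map_pow, map_zero, H.hs]) <;> ring1)
    · first | with_reducible rfl | ((try simp only [map_add, map_mul, map_pow, map_zero, H.hs]) <;> ring1)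
    · first | with_reducible rfl | ((try simp only [map_add, map_mul, map_pow, map_zero, H.hs]) <;> ring1)
    · first | with_reducible rfl | ((try simp only [map_add, map_mul, map_pow, map_zero, H.hs]) <;> ring1)
    · first | with_reducible rfl | ((try simp only [map_add, map_mul, map_pow, map_zero, H.hs]) <;> ring1)
    · first | with_reducible rfl | ((try simp only [map_add, map_mul, map_pow, map_zero, H.hs]) <;> ring1)
    · try simp only [map_add, map_mul, map_pow, map_zero, H.hs]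
      linear_combination (a8 * b8 ^ 2 * t * σ t + a8 * σ a8 * σ b8 * t * σ t + a8 ^ 3 * (σ a8) ^ 2 * t * σ t) * H.h2
    · first | with_reducible rfl | ((try simp only [map_add, map_mul, map_pow, map_zero, H.hs]) <;> ring1)
    · first | with_reducible rfl | ((try simp only [map_add, map_mul, map_pow, map_zero, H.hs]) <;> ring1)
    · first | with_reducible rfl | ((try simp only [map_add, map_mul, map_pow, map_zero, H.hs]) <;> ring1)
    ]
  rw [show F.E ⟨a1 + t, a2, b2 + a4 * t + a6 * σ t, a3 + σ a6 * t + a7 * σ t, a4, b4 + b6 * t + a6 * a7 * σ t, a5 + σ a7 * t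
      + σ a8 * σ b8 * t * σ t + b8 ^ 2 * t * σ t + a8 ^ 2 * (σ a8) ^ 2 * t * σ t, a6 + b8 * t, b6 + a6 * σ b8 * σ t
      + b8 * σ b8 * t * σ t, a7 + σ b8 * t + a8 ^ 2 * σ a8 * t, a8, b8⟩ *
      F.x4 (σ t * b8 + a8 * σ a8 * σ t) (a8 * t ^ 2 * σ t * b8 ^ 2 + a8 * σ a8 * t ^ 2 * σ t * σ b8 + a8 ^ 3 * (σ
      a8) ^ 2 * t ^ 2 * σ t) =
      F.E ⟨a1 + t, a2, b2 + a4 * t + a6 * σ t, a3 + σ a6 * t + a7 * σ t, a4 + b8 * σ t + a8 * σ a8 * σ t, b4 + b6 * t +
      a6 * a7 * σ t + a4 * σ b8 * t ^ 2 + a4 * a8 ^ 2 * σ a8 * t ^ 2 + a8 * b8 ^ 2 * t ^ 2 * σ t + a8 * σ a8 * σ b8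
      * t ^ 2 * σ t + a8 ^ 3 * (σ a8) ^ 2 * t ^ 2 * σ t, a5 + σ a7 * t + a6 * b8 * σ t + a6 * a8 * σ a8 * σ t + σ a8
      * σ b8 * t * σ t + a8 * σ a8 * b8 * t * σ t + a8 ^ 2 * (σ a8) ^ 2 * t * σ t, a6 + b8 * t, b6 + a6 * σ b8 * σ t
      + a7 * b8 * σ t + a7 * a8 * σ a8 * σ t + a8 * σ a8 * σ b8 * t * σ t + a8 ^ 2 * σ a8 * b8 * t * σ t + a8 ^ 3 *
      (σ a8) ^ 2 * t * σ t, a7 + σ b8 * t + a8 ^ 2 * σ a8 * t, a8, b8⟩ by
    rw [H.R4]
    refine congrArg F.E (Cd.ext ?_ ?_ ?_ ?_ ?_ ?_ ?_ ?_ ?_ ?_ ?_ ?_)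
    · first | with_reducible rfl | ((try simp only [map_add, map_mul, map_pow, map_zero, H.hs]) <;> ring1)
    · first | with_reducible rfl | ((try simp only [map_add, map_mul, map_pow, map_zero, H.hs]) <;> ring1)
    · first | with_reducible rfl | ((try simp only [map_add, map_mul, map_pow, map_zero, H.hs]) <;> ring1)
    · first | with_reducible rfl | ((try simp only [map_add, map_mul, map_pow, map_zero, H.hs]) <;> ring1)
    · first | with_reducible rfl | ((try simp only [map_add, map_mul, map_pow, map_zero, H.hs]) <;> ring1)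
    · first | with_reducible rfl | ((try simp only [map_add, map_mul, map_pow, map_zero, H.hs]) <;> ring1)
    · try simp only [map_add, map_mul, map_pow, map_zero, H.hs]
      linear_combination (b8 ^ 2 * t * σ t) * H.h2
    · first | with_reducible rfl | ((try simp only [map_add, map_mul, map_pow, map_zero, H.hs]) <;> ring1)
    · try simp only [map_add, map_mul, map_pow, map_zero, H.hs]
      linear_combination (b8 * σ b8 * t * σ t) * H.h2
    · first | with_reducible rfl | ((try simp only [map_add, map_mul, map_pow, map_zero, H.hs]) <;> ring1)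
    · first | with_reducible rfl | ((try simp only [map_add, map_mul, map_pow, map_zero, H.hs]) <;> ring1)
    · first | with_reducible rfl | ((try simp only [map_add, map_mul, map_pow, map_zero, H.hs]) <;> ring1)
    ]
  rw [show F.E ⟨a1 + t, a2, b2 + a4 * t + a6 * σ t, a3 + σ a6 * t + a7 * σ t, a4 + b8 * σ t + a8 * σ a8 * σ t, b4 + b6 * t +
      a6 * a7 * σ t + a4 * σ b8 * t ^ 2 + a4 * a8 ^ 2 * σ a8 * t ^ 2 + a8 * b8 ^ 2 * t ^ 2 * σ t + a8 * σ a8 * σ b8
      * t ^ 2 * σ t + a8 ^ 3 * (σ a8) ^ 2 * t ^ 2 * σ t, a5 + σ a7 * t + a6 * b8 * σ t + a6 * a8 * σ a8 * σ t + σ a8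
      * σ b8 * t * σ t + a8 * σ a8 * b8 * t * σ t + a8 ^ 2 * (σ a8) ^ 2 * t * σ t, a6 + b8 * t, b6 + a6 * σ b8 * σ t
      + a7 * b8 * σ t + a7 * a8 * σ a8 * σ t + a8 * σ a8 * σ b8 * t * σ t + a8 ^ 2 * σ a8 * b8 * t * σ t + a8 ^ 3 *
      (σ a8) ^ 2 * t * σ t, a7 + σ b8 * t + a8 ^ 2 * σ a8 * t, a8, b8⟩ *
      F.x3 (t * σ t * σ b8 + a8 * t * σ t * b8 + a8 ^ 2 * σ a8 * t * σ t) =
      F.E ⟨a1 + t, a2, b2 + a4 * t + a6 * σ t, a3 + σ a6 * t + a7 * σ t + σ b8 * t * σ t + a8 * b8 * t * σ t + a8 ^ 2 *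
      σ a8 * t * σ t, a4 + b8 * σ t + a8 * σ a8 * σ t, b4 + b6 * t + a6 * a7 * σ t + a4 * σ b8 * t ^ 2 + a6 * σ b8 *
      t * σ t + a6 * a8 * b8 * t * σ t + b8 * σ b8 * t ^ 2 * σ t + a4 * a8 ^ 2 * σ a8 * t ^ 2 + a6 * a8 ^ 2 * σ a8 *
      t * σ t + a8 * b8 ^ 2 * t ^ 2 * σ t + a8 ^ 2 * σ a8 * b8 * t ^ 2 * σ t, a5 + σ a7 * t + a6 * b8 * σ t + a6 *
      a8 * σ a8 * σ t, a6 + b8 * t, b6 + a6 * σ b8 * σ t + a7 * b8 * σ t + a7 * a8 * σ a8 * σ t + b8 * σ b8 * t * σ
      t + a8 * b8 ^ 2 * t * σ t + a8 * σ a8 * σ b8 * t * σ t + a8 ^ 3 * (σ a8) ^ 2 * t * σ t, a7 + σ b8 * t + a8 ^ 2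
      * σ a8 * t, a8, b8⟩ by
    rw [H.R3]
    refine congrArg F.E (Cd.ext ?_ ?_ ?_ ?_ ?_ ?_ ?_ ?_ ?_ ?_ ?_ ?_)
    · first | with_reducible rfl | ((try simp only [map_add, map_mul, map_pow, map_zero, H.hs]) <;> ring1)
    · first | with_reducible rfl | ((try simp only [map_add, map_mul, map_pow, map_zero, H.hs]) <;> ring1)
    · first | with_reducible rfl | ((try simp only [map_add, map_mul, map_pow, map_zero, H.hs]) <;> ring1)
    · first | with_reducible rfl | ((try simp only [map_add, map_mul, map_pow, map_zero, H.hs]) <;> ring1)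
    · first | with_reducible rfl | ((try simp only [map_add, map_mul, map_pow, map_zero, H.hs]) <;> ring1)
    · try simp only [map_add, map_mul, map_pow, map_zero, H.hs]
      linear_combination (a8 * b8 ^ 2 * t ^ 2 * σ t + a8 * σ a8 * σ b8 * t ^ 2 * σ t + a8 ^ 3 * (σ a8) ^ 2 * t ^ 2 * σ t) * H.h2
    · try simp only [map_add, map_mul, map_pow, map_zero, H.hs]
      linear_combination (σ a8 * σ b8 * t * σ t + a8 * σ a8 * b8 * t * σ t + a8 ^ 2 * (σ a8) ^ 2 * t * σ t) * H.h2
    · first | with_reducible rfl | ((try simp only [map_add, map_mul, map_pow, map_zero, H.hs]) <;> ring1)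
    · try simp only [map_add, map_mul, map_pow, map_zero, H.hs]
      linear_combination (a8 ^ 2 * σ a8 * b8 * t * σ t) * H.h2
    · first | with_reducible rfl | ((try simp only [map_add, map_mul, map_pow, map_zero, H.hs]) <;> ring1)
    · first | with_reducible rfl | ((try simp only [map_add, map_mul, map_pow, map_zero, H.hs]) <;> ring1)
    · first | with_reducible rfl | ((try simp only [map_add, map_mul, map_pow, map_zero, H.hs]) <;> ring1)
    ]
  rw [show F.E ⟨a1 + t, a2, b2 + a4 * t + a6 * σ t, a3 + σ a6 * t + a7 * σ t + σ b8 * t * σ t + a8 * b8 * t * σ t + a8 ^ 2 *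
      σ a8 * t * σ t, a4 + b8 * σ t + a8 * σ a8 * σ t, b4 + b6 * t + a6 * a7 * σ t + a4 * σ b8 * t ^ 2 + a6 * σ b8 *
      t * σ t + a6 * a8 * b8 * t * σ t + b8 * σ b8 * t ^ 2 * σ t + a4 * a8 ^ 2 * σ a8 * t ^ 2 + a6 * a8 ^ 2 * σ a8 *
      t * σ t + a8 * b8 ^ 2 * t ^ 2 * σ t + a8 ^ 2 * σ a8 * b8 * t ^ 2 * σ t, a5 + σ a7 * t + a6 * b8 * σ t + a6 *
      a8 * σ a8 * σ t, a6 + b8 * t, b6 + a6 * σ b8 * σ t + a7 * b8 * σ t + a7 * a8 * σ a8 * σ t + b8 * σ b8 * t * σ
      t + a8 * b8 ^ 2 * t * σ t + a8 * σ a8 * σ b8 * t * σ t + a8 ^ 3 * (σ a8) ^ 2 * t * σ t, a7 + σ b8 * t + a8 ^ 2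
      * σ a8 * t, a8, b8⟩ *
      F.x2 (a8 * t) (t * σ t * b8) =
      F.E ⟨a1 + t, a2 + a8 * t, b2 + a4 * t + a6 * σ t + a2 * σ a8 * σ t + b8 * t * σ t, a3 + σ a6 * t + a7 * σ t + a4 *
      a8 * t + σ b8 * t * σ t + a8 * b8 * t * σ t + a8 ^ 2 * σ a8 * t * σ t, a4 + b8 * σ t, b4 + b6 * t + a5 * a8 *
      t + a6 * a7 * σ t + a4 * σ b8 * t ^ 2 + a6 * σ b8 * t * σ t + σ a7 * a8 * t ^ 2 + a7 * b8 * t * σ t + a6 * a8
      * b8 * t * σ t + a7 * a8 * σ a8 * t * σ t + b8 * σ b8 * t ^ 2 * σ t + a6 * a8 ^ 2 * σ a8 * t * σ t + a8 * b8 ^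
      2 * t ^ 2 * σ t + a8 * σ a8 * σ b8 * t ^ 2 * σ t + a8 ^ 3 * (σ a8) ^ 2 * t ^ 2 * σ t, a5 + σ a7 * t + a6 * b8
      * σ t + a7 * σ a8 * σ t + σ a8 * σ b8 * t * σ t + b8 ^ 2 * t * σ t + a8 ^ 2 * (σ a8) ^ 2 * t * σ t, a6 + b8 *
      t + a8 * σ a8 * t, b6 + a6 * σ b8 * σ t + σ a7 * a8 * t + a7 * b8 * σ t + a6 * a8 ^ 2 * σ a8 * σ t + a8 * b8 ^
      2 * t * σ t + a8 * σ a8 * σ b8 * t * σ t + a8 ^ 3 * (σ a8) ^ 2 * t * σ t, a7 + σ b8 * t + a8 * b8 * t + a8 ^ 2
      * σ a8 * t, a8, b8⟩ by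
    rw [H.R2]
    refine congrArg F.E (Cd.ext ?_ ?_ ?_ ?_ ?_ ?_ ?_ ?_ ?_ ?_ ?_ ?_)
    · first | with_reducible rfl | ((try simp only [map_add, map_mul, map_pow, map_zero, H.hs]) <;> ring1)
    · first | with_reducible rfl | ((try simp only [map_add, map_mul, map_pow, map_zero, H.hs]) <;> ring1)
    · first | with_reducible rfl | ((try simp only [map_add, map_mul, map_pow, map_zero, H.hs]) <;> ring1)
    · try simp only [map_add, map_mul, map_pow, map_zero, H.hs]
      linear_combination (a8 * b8 * t * σ t + a8 ^ 2 * σ a8 * t * σ t) * H.h2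
    · try simp only [map_add, map_mul, map_pow, map_zero, H.hs]
      linear_combination (a8 * σ a8 * σ t) * H.h2
    · try simp only [map_add, map_mul, map_pow, map_zero, H.hs]
      linear_combination (a4 * a8 ^ 2 * σ a8 * t ^ 2 + a6 * a8 * b8 * t * σ t + a6 * a8 ^ 2 * σ a8 * t * σ t + a8 * b8 ^ 2 * t ^ 2 * σ t
      + 3 * a8 ^ 2 * σ a8 * b8 * t ^ 2 * σ t + a8 ^ 3 * (σ a8) ^ 2 * t ^ 2 * σ t + b8 * σ b8 * t ^ 2 * σ t) * H.h2
    · try simp only [map_add, map_mul, map_pow, map_zero, H.hs]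
      linear_combination (a6 * a8 * σ a8 * σ t + a8 * σ a8 * b8 * t * σ t) * H.h2
    · first | with_reducible rfl | ((try simp only [map_add, map_mul, map_pow, map_zero, H.hs]) <;> ring1)
    · try simp only [map_add, map_mul, map_pow, map_zero, H.hs]
      linear_combination (a7 * a8 * σ a8 * σ t + a8 * b8 ^ 2 * t * σ t + a8 * σ a8 * σ b8 * t * σ t + a8 ^ 2 * σ a8 * b8 * t * σ t + a8
      ^ 3 * (σ a8) ^ 2 * t * σ t + b8 * σ b8 * t * σ t) * H.h2
    · first | with_reducible rfl | ((try simp only [map_add, map_mul, map_pow, map_zero, H.hs]) <;> ring1)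
    · first | with_reducible rfl | ((try simp only [map_add, map_mul, map_pow, map_zero, H.hs]) <;> ring1)
    · first | with_reducible rfl | ((try simp only [map_add, map_mul, map_pow, map_zero, H.hs]) <;> ring1)
    ]
/-- right multiplication by a root element of `X1` -/
theorem R1 (c : Cd K) (t : K) : F.E c * F.x1 t =
    F.E ⟨c.a1 + t, c.a2 + c.a8 * t, c.b2 + c.a4 * t + c.a6 * σ t + c.a2 * σ c.a8 * σ t + c.b8 * t * σ t, c.a3 + σ c.a6
      * t + c.a7 * σ t + c.a4 * c.a8 * t + σ c.b8 * t * σ t + c.a8 * c.b8 * t * σ t + c.a8 ^ 2 * σ c.a8 * t * σ t,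
      c.a4 + c.b8 * σ t, c.b4 + c.b6 * t + c.a5 * c.a8 * t + c.a6 * c.a7 * σ t + c.a4 * σ c.b8 * t ^ 2 + c.a6 * σ
      c.b8 * t * σ t + σ c.a7 * c.a8 * t ^ 2 + c.a7 * c.b8 * t * σ t + c.a6 * c.a8 * c.b8 * t * σ t + c.a7 * c.a8 *
      σ c.a8 * t * σ t + c.b8 * σ c.b8 * t ^ 2 * σ t + c.a6 * c.a8 ^ 2 * σ c.a8 * t * σ t + c.a8 * c.b8 ^ 2 * t ^ 2
      * σ t + c.a8 * σ c.a8 * σ c.b8 * t ^ 2 * σ t + c.a8 ^ 3 * (σ c.a8) ^ 2 * t ^ 2 * σ t, c.a5 + σ c.a7 * t + c.a6
      * c.b8 * σ t + c.a7 * σ c.a8 * σ t + σ c.a8 * σ c.b8 * t * σ t + c.b8 ^ 2 * t * σ t + c.a8 ^ 2 * (σ c.a8) ^ 2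
      * t * σ t, c.a6 + c.b8 * t + c.a8 * σ c.a8 * t, c.b6 + c.a6 * σ c.b8 * σ t + σ c.a7 * c.a8 * t + c.a7 * c.b8 *
      σ t + c.a6 * c.a8 ^ 2 * σ c.a8 * σ t + c.a8 * c.b8 ^ 2 * t * σ t + c.a8 * σ c.a8 * σ c.b8 * t * σ t + c.a8 ^ 3
      * (σ c.a8) ^ 2 * t * σ t, c.a7 + σ c.b8 * t + c.a8 * c.b8 * t + c.a8 ^ 2 * σ c.a8 * t, c.a8, c.b8⟩ :=
  H.s1_8 c.a1 c.a2 c.b2 c.a3 c.a4 c.b4 c.a5 c.a6 c.b6 c.a7 c.a8 c.b8 t

end Ok

end Cfsg.Agent.H181.TF
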