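import Cfsg.Agent.H181.TF.Mul
import Cfsg.Agent.H181.TF.Chain

/-!
# S5262: subgroups given by coordinates (helper181)

`Cong σ pr` : the value of `pr` on a product only depends on the values of `pr` on the factors; then
`CS hK T h = {g | pr (cd T g) = pr zc}` is a normal subgroup and `[x, y] ∈ CS` iff `pr (xy) = pr (yx)`.
-/

set_option autoImplicit false

namespace Cfsg.Agent.H181.TF

open Cfsg.Agent.H745.TF

universe u v w

variable {K : Type u} [Field K] {σ : K →+* K} {U : Type v} [Group U] {m : ℕ}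

/-- zero coordinates -/
def zc : Cd K := ⟨0, 0, 0, 0, 0, 0, 0, 0, 0, 0, 0, 0⟩

/-- the coordinates of an element -/
noncomputable def cd (T : TF σ U) (g : U) : Cd K := (el_surjective T g).choose

theorem el_cd (T : TF σ U) (g : U) : T.el (cd T g) = g := (el_surjective T g).choose_spec

theorem cd_el (T : TF σ U) (c : Cd K) : cd T (T.el c) = c := el_injective T (el_cd T _)

theorem cd_inj (T : TF σ U) {g h : U} : cd T g = cd T h ↔ g = h :=
  ⟨fun e => by rw [← el_cd T g, e, el_cd], fun e => by rw [e]⟩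

theorem cd_mul (hK : HypK σ m) (T : TF σ U) (g h : U) : cd T (g * h) = mul σ (cd T g) (cd T h) := by
  apply el_injective T
  rw [el_cd, ← el_mul T hK.two hK.sq, el_cd, el_cd]

theorem cd_one (hK : HypK σ m) (T : TF σ U) : cd T 1 = zc := by
  rw [← el_one T hK.two hK.sq, cd_el]; rfl

theorem mul_zc (c : Cd K) : mul σ c zc = c := by
  ext <;> simp [mul, zc]

theorem zc_mul (c : Cd K) : mul σ zc c = c := by
  ext <;> simp [mul, zc]

/-- `pr` is compatible with the product -/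
def Cong (σ : K →+* K) {α : Type w} (pr : Cd K → α) : Prop :=
  ∀ c c' d d' : Cd K, pr c = pr c' → pr d = pr d' → pr (mul σ c d) = pr (mul σ c' d')

section
variable {α : Type w} {pr : Cd K → α}

/-- the subgroup of the elements with `pr = pr 0` -/
def CS (hK : HypK σ m) (T : TF σ U) (h : Cong σ pr) : Subgroup U where
  carrier := {g | pr (cd T g) = pr zc}
  one_mem' := by rw [Set.mem_ofPred_eq, cd_one hK]
  mul_mem' := by
    intro a b ha hb
    rw [Set.mem_ofPred_eq] at ha hb ⊢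
    rw [cd_mul hK, h _ _ _ _ ha hb, mul_zc]
  inv_mem' := by
    intro a ha
    rw [Set.mem_ofPred_eq] at ha ⊢
    have h1 := h (cd T a⁻¹) (cd T a⁻¹) (cd T a) zc rfl ha
    rw [← cd_mul hK, mul_zc, inv_mul_cancel, cd_one hK] at h1
    exact h1.symm

theorem mem_CS {hK : HypK σ m} {T : TF σ U} {h : Cong σ pr} {g : U} : g ∈ CS hK T h ↔ pr (cd T g) = pr zc := Iff.rfl

theorem el_mem_CS {hK : HypK σ m} {T : TF σ U} {h : Cong σ pr} {c : Cd K} : T.el c ∈ CS hK T h ↔ pr c = pr zc := by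
  rw [mem_CS, cd_el]

theorem crit {hK : HypK σ m} {T : TF σ U} {h : Cong σ pr} {g g' : U} :
    g * g'⁻¹ ∈ CS hK T h ↔ pr (cd T g) = pr (cd T g') := by
  rw [mem_CS]
  constructor
  · intro e
    have h1 := h _ _ (cd T g') (cd T g') e rfl
    rwa [← cd_mul hK, zc_mul, inv_mul_cancel_right] at h1
  · intro e
    have h1 := h _ _ (cd T g'⁻¹) (cd T g'⁻¹) e rfl
    rwa [← cd_mul hK, ← cd_mul hK, mul_inv_cancel, cd_one hK] at h1

theorem crit' {hK : HypK σ m} {T : TF σ U} {h : Cong σ pr} {g g' : U} :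
    g⁻¹ * g' ∈ CS hK T h ↔ pr (cd T g) = pr (cd T g') := by
  rw [mem_CS]
  constructor
  · intro e
    have h1 := h (cd T g) (cd T g) _ _ rfl e
    rw [← cd_mul hK, mul_zc, mul_inv_cancel_left] at h1
    exact h1.symm
  · intro e
    have h1 := h (cd T g⁻¹) (cd T g⁻¹) _ _ rfl e
    rw [← cd_mul hK, ← cd_mul hK, inv_mul_cancel, cd_one hK] at h1
    exact h1.symm

theorem comm_crit {hK : HypK σ m} {T : TF σ U} {h : Cong σ pr} {x y : U} :
    x * y * x⁻¹ * y⁻¹ ∈ CS hK T h ↔ pr (mul σ (cd T x) (cd T y)) = pr (mul σ (cd T y) (cd T x)) := by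
  rw [← cd_mul hK, ← cd_mul hK, ← crit (hK := hK) (h := h), mul_inv_rev, mul_assoc (x * y)]

theorem comm_crit' {hK : HypK σ m} {T : TF σ U} {h : Cong σ pr} {x y : U} :
    y⁻¹ * (x * y * x⁻¹) ∈ CS hK T h ↔ pr (mul σ (cd T x) (cd T y)) = pr (mul σ (cd T y) (cd T x)) := by
  rw [crit']
  rw [← cd_mul hK, ← cd_mul hK]
  constructor
  · intro e
    have h1 := h _ _ (cd T x) (cd T x) e rfl
    rw [← cd_mul hK, ← cd_mul hK, inv_mul_cancel_right] at h1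
    exact h1.symm
  · intro e
    have h1 := h _ _ (cd T x⁻¹) (cd T x⁻¹) e rfl
    rw [← cd_mul hK, ← cd_mul hK, mul_inv_cancel_right] at h1
    exact h1.symm

theorem CS_le_CS {β : Type w} {pr' : Cd K → β} {hK : HypK σ m} {T : TF σ U} {h : Cong σ pr} {h' : Cong σ pr'}
    (hh : ∀ c : Cd K, pr c = pr zc → pr' c = pr' zc) : CS hK T h ≤ CS hK T h' := fun _ hg => hh _ hg

end

theorem cong_id : Cong σ (fun c : Cd K => c) := fun _ _ _ _ h1 h2 => by
  simp only at h1 h2 ⊢; rw [h1, h2]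

theorem CS_id (hK : HypK σ m) (T : TF σ U) : CS hK T cong_id = ⊥ := by
  ext g
  rw [mem_CS, Subgroup.mem_bot, ← cd_one hK T, cd_inj]

/-! ### the projections (coordinates outside the subgroup) -/

section
variable (K)

def pZ (c : Cd K) := (c.a1, c.a2, c.b2, c.a3, c.a4, c.a5, c.a6, c.b6, c.a7, c.a8, c.b8)
def pV (c : Cd K) := (c.a1, c.a2, c.b2, c.a3, c.a4, c.a5, c.a6, c.a7, c.a8, c.b8)
def pY (c : Cd K) := (c.a1, c.a2, c.b2, c.a3, c.a4, c.a6, c.a7, c.a8, c.b8)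
def pE4 (c : Cd K) := (c.a1, c.a2, c.b2, c.a4, c.a6, c.a7, c.a8, c.b8)
def pA (c : Cd K) := (c.a1, c.a2, c.b2, c.a4, c.a6, c.a8, c.b8)
def pF0 (c : Cd K) := (c.a1, c.a2, c.a4, c.a6, c.a8, c.b8)
def pF1 (c : Cd K) := (c.a1, c.a2, c.a4, c.a8, c.b8)
def pF (c : Cd K) := (c.a1, c.a2, c.a8, c.b8)
def pN (c : Cd K) := (c.a1, c.a2, c.a8)
def pW (c : Cd K) := (c.a1, c.a8)
def pB (c : Cd K) := c.a1
def pE (c : Cd K) := (c.a1, c.a2, c.a4, c.a6, c.a7, c.a8, c.b8)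
def pD (c : Cd K) := (c.a1, c.a2, c.a6, c.a7, c.a8, c.b8)
def p7 (c : Cd K) := (c.a1, c.a2, c.a6, c.a8, c.b8)
def p2 (c : Cd K) := (c.a1, c.a8, c.b8)
def pQ (c : Cd K) := (c.a8, c.b8)
def pQ8 (c : Cd K) := c.a8

end

variable (σ)

theorem cZ : Cong σ (pZ K) := by
  intro c c' d d' h1 h2
  simp only [pZ, Prod.mk.injEq] at h1 h2
  obtain ⟨c1, c2, c3, c4, c5, c6, c7, c8, c9, c10, c11⟩ := h1
  obtain ⟨d1, d2, d3, d4, d5, d6, d7, d8, d9, d10, d11⟩ := h2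
  simp only [pZ, mul, c1, c2, c3, c4, c5, c6, c7, c8, c9, c10, c11, d1, d2, d3, d4, d5, d6, d7, d8, d9, d10, d11]

theorem cV : Cong σ (pV K) := by
  intro c c' d d' h1 h2
  simp only [pV, Prod.mk.injEq] at h1 h2
  obtain ⟨c1, c2, c3, c4, c5, c6, c7, c8, c9, c10⟩ := h1
  obtain ⟨d1, d2, d3, d4, d5, d6, d7, d8, d9, d10⟩ := h2
  simp only [pV, mul, c1, c2, c3, c4, c5, c6, c7, c8, c9, c10, d1, d2, d3, d4, d5, d6, d7, d8, d9, d10]

theorem cY : Cong σ (pY K) := by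
  intro c c' d d' h1 h2
  simp only [pY, Prod.mk.injEq] at h1 h2
  obtain ⟨c1, c2, c3, c4, c5, c6, c7, c8, c9⟩ := h1
  obtain ⟨d1, d2, d3, d4, d5, d6, d7, d8, d9⟩ := h2
  simp only [pY, mul, c1, c2, c3, c4, c5, c6, c7, c8, c9, d1, d2, d3, d4, d5, d6, d7, d8, d9]

theorem cE4 : Cong σ (pE4 K) := by
  intro c c' d d' h1 h2
  simp only [pE4, Prod.mk.injEq] at h1 h2
  obtain ⟨c1, c2, c3, c4, c5, c6, c7, c8⟩ := h1
  obtain ⟨d1, d2, d3, d4, d5, d6, d7, d8⟩ := h2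
  simp only [pE4, mul, c1, c2, c3, c4, c5, c6, c7, c8, d1, d2, d3, d4, d5, d6, d7, d8]

theorem cA : Cong σ (pA K) := by
  intro c c' d d' h1 h2
  simp only [pA, Prod.mk.injEq] at h1 h2
  obtain ⟨c1, c2, c3, c4, c5, c6, c7⟩ := h1
  obtain ⟨d1, d2, d3, d4, d5, d6, d7⟩ := h2
  simp only [pA, mul, c1, c2, c3, c4, c5, c6, c7, d1, d2, d3, d4, d5, d6, d7]

theorem cF0 : Cong σ (pF0 K) := by
  intro c c' d d' h1 h2
  simp only [pF0, Prod.mk.injEq] at h1 h2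
  obtain ⟨c1, c2, c3, c4, c5, c6⟩ := h1
  obtain ⟨d1, d2, d3, d4, d5, d6⟩ := h2
  simp only [pF0, mul, c1, c2, c3, c4, c5, c6, d1, d2, d3, d4, d5, d6]

theorem cF1 : Cong σ (pF1 K) := by
  intro c c' d d' h1 h2
  simp only [pF1, Prod.mk.injEq] at h1 h2
  obtain ⟨c1, c2, c3, c4, c5⟩ := h1
  obtain ⟨d1, d2, d3, d4, d5⟩ := h2
  simp only [pF1, mul, c1, c2, c3, c4, c5, d1, d2, d3, d4, d5]

theorem cF : Cong σ (pF K) := by
  intro c c' d d' h1 h2
  simp only [pF, Prod.mk.injEq] at h1 h2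
  obtain ⟨c1, c2, c3, c4⟩ := h1
  obtain ⟨d1, d2, d3, d4⟩ := h2
  simp only [pF, mul, c1, c2, c3, c4, d1, d2, d3, d4]

theorem cN : Cong σ (pN K) := by
  intro c c' d d' h1 h2
  simp only [pN, Prod.mk.injEq] at h1 h2
  obtain ⟨c1, c2, c3⟩ := h1
  obtain ⟨d1, d2, d3⟩ := h2
  simp only [pN, mul, c1, c2, c3, d1, d2, d3]

theorem cW : Cong σ (pW K) := by
  intro c c' d d' h1 h2
  simp only [pW, Prod.mk.injEq] at h1 h2
  obtain ⟨c1, c2⟩ := h1
  obtain ⟨d1, d2⟩ := h2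
  simp only [pW, mul, c1, c2, d1, d2]

theorem cB : Cong σ (pB K) := by
  intro c c' d d' h1 h2
  simp only [pB] at h1 h2
  simp only [pB, mul, h1, h2]

theorem cE : Cong σ (pE K) := by
  intro c c' d d' h1 h2
  simp only [pE, Prod.mk.injEq] at h1 h2
  obtain ⟨c1, c2, c3, c4, c5, c6, c7⟩ := h1
  obtain ⟨d1, d2, d3, d4, d5, d6, d7⟩ := h2
  simp only [pE, mul, c1, c2, c3, c4, c5, c6, c7, d1, d2, d3, d4, d5, d6, d7]

theorem cD : Cong σ (pD K) := by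
  intro c c' d d' h1 h2
  simp only [pD, Prod.mk.injEq] at h1 h2
  obtain ⟨c1, c2, c3, c4, c5, c6⟩ := h1
  obtain ⟨d1, d2, d3, d4, d5, d6⟩ := h2
  simp only [pD, mul, c1, c2, c3, c4, c5, c6, d1, d2, d3, d4, d5, d6]

theorem c7 : Cong σ (p7 K) := by
  intro c c' d d' h1 h2
  simp only [p7, Prod.mk.injEq] at h1 h2
  obtain ⟨c1, c2, c3, c4, c5⟩ := h1
  obtain ⟨d1, d2, d3, d4, d5⟩ := h2
  simp only [p7, mul, c1, c2, c3, c4, c5, d1, d2, d3, d4, d5]

theorem c2 : Cong σ (p2 K) := by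
  intro c c' d d' h1 h2
  simp only [p2, Prod.mk.injEq] at h1 h2
  obtain ⟨c1, c2, c3⟩ := h1
  obtain ⟨d1, d2, d3⟩ := h2
  simp only [p2, mul, c1, c2, c3, d1, d2, d3]

theorem cQ : Cong σ (pQ K) := by
  intro c c' d d' h1 h2
  simp only [pQ, Prod.mk.injEq] at h1 h2
  obtain ⟨c1, c2⟩ := h1
  obtain ⟨d1, d2⟩ := h2
  simp only [pQ, mul, c1, c2, d1, d2]

theorem cQ8 : Cong σ (pQ8 K) := by
  intro c c' d d' h1 h2
  simp only [pQ8] at h1 h2
  simp only [pQ8, mul, h1, h2]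

end Cfsg.Agent.H181.TF
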