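import Cfsg.Agent.H181.TF.Cong

/-!
# S5262: subgroups described by commutators, in coordinates (helper181, generated)

`name : p_M c = p_M 0 ↔ p_A c = p_A 0 ∧ ∀ d, p_B d = p_B 0 → p_N (d c) = p_N (c d)`, i.e. `M = {x ∈ A | [B, x] ≤ N}`.
-/

set_option autoImplicit false
set_option linter.all false
set_option maxHeartbeats 1000000

namespace Cfsg.Agent.H181.TF

open Cfsg.Agent.H745.TF

universe u v w

variable {K : Type u} [Field K]

/-- no condition -/
def pU (K : Type u) [Field K] (_ : Cd K) : Unit := ()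

theorem cU (σ : K →+* K) : Cong σ (pU K) := fun _ _ _ _ _ _ => rfl

theorem pZ_iff {c d : Cd K} : pZ K c = pZ K d ↔ c.a1 = d.a1 ∧ c.a2 = d.a2 ∧ c.b2 = d.b2 ∧ c.a3 = d.a3 ∧ c.a4 = d.a4 ∧ c.a5 = d.a5 ∧ c.a6 = d.a6 ∧ c.b6 = d.b6 ∧ c.a7 = d.a7 ∧ c.a8 = d.a8 ∧ c.b8 = d.b8 := by
  simp only [pZ, Prod.mk.injEq]
theorem pV_iff {c d : Cd K} : pV K c = pV K d ↔ c.a1 = d.a1 ∧ c.a2 = d.a2 ∧ c.b2 = d.b2 ∧ c.a3 = d.a3 ∧ c.a4 = d.a4 ∧ c.a5 = d.a5 ∧ c.a6 = d.a6 ∧ c.a7 = d.a7 ∧ c.a8 = d.a8 ∧ c.b8 = d.b8 := by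
  simp only [pV, Prod.mk.injEq]
theorem pY_iff {c d : Cd K} : pY K c = pY K d ↔ c.a1 = d.a1 ∧ c.a2 = d.a2 ∧ c.b2 = d.b2 ∧ c.a3 = d.a3 ∧ c.a4 = d.a4 ∧ c.a6 = d.a6 ∧ c.a7 = d.a7 ∧ c.a8 = d.a8 ∧ c.b8 = d.b8 := by
  simp only [pY, Prod.mk.injEq]
theorem pE4_iff {c d : Cd K} : pE4 K c = pE4 K d ↔ c.a1 = d.a1 ∧ c.a2 = d.a2 ∧ c.b2 = d.b2 ∧ c.a4 = d.a4 ∧ c.a6 = d.a6 ∧ c.a7 = d.a7 ∧ c.a8 = d.a8 ∧ c.b8 = d.b8 := by
  simp only [pE4, Prod.mk.injEq]
theorem pA_iff {c d : Cd K} : pA K c = pA K d ↔ c.a1 = d.a1 ∧ c.a2 = d.a2 ∧ c.b2 = d.b2 ∧ c.a4 = d.a4 ∧ c.a6 = d.a6 ∧ c.a8 = d.a8 ∧ c.b8 = d.b8 := by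
  simp only [pA, Prod.mk.injEq]
theorem pF0_iff {c d : Cd K} : pF0 K c = pF0 K d ↔ c.a1 = d.a1 ∧ c.a2 = d.a2 ∧ c.a4 = d.a4 ∧ c.a6 = d.a6 ∧ c.a8 = d.a8 ∧ c.b8 = d.b8 := by
  simp only [pF0, Prod.mk.injEq]
theorem pF1_iff {c d : Cd K} : pF1 K c = pF1 K d ↔ c.a1 = d.a1 ∧ c.a2 = d.a2 ∧ c.a4 = d.a4 ∧ c.a8 = d.a8 ∧ c.b8 = d.b8 := by
  simp only [pF1, Prod.mk.injEq]
theorem pF_iff {c d : Cd K} : pF K c = pF K d ↔ c.a1 = d.a1 ∧ c.a2 = d.a2 ∧ c.a8 = d.a8 ∧ c.b8 = d.b8 := by
  simp only [pF, Prod.mk.injEq]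
theorem pN_iff {c d : Cd K} : pN K c = pN K d ↔ c.a1 = d.a1 ∧ c.a2 = d.a2 ∧ c.a8 = d.a8 := by
  simp only [pN, Prod.mk.injEq]
theorem pW_iff {c d : Cd K} : pW K c = pW K d ↔ c.a1 = d.a1 ∧ c.a8 = d.a8 := by
  simp only [pW, Prod.mk.injEq]
theorem pB_iff {c d : Cd K} : pB K c = pB K d ↔ c.a1 = d.a1 := by
  simp only [pB]
theorem pE_iff {c d : Cd K} : pE K c = pE K d ↔ c.a1 = d.a1 ∧ c.a2 = d.a2 ∧ c.a4 = d.a4 ∧ c.a6 = d.a6 ∧ c.a7 = d.a7 ∧ c.a8 = d.a8 ∧ c.b8 = d.b8 := by
  simp only [pE, Prod.mk.injEq]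
theorem pD_iff {c d : Cd K} : pD K c = pD K d ↔ c.a1 = d.a1 ∧ c.a2 = d.a2 ∧ c.a6 = d.a6 ∧ c.a7 = d.a7 ∧ c.a8 = d.a8 ∧ c.b8 = d.b8 := by
  simp only [pD, Prod.mk.injEq]
theorem p7_iff {c d : Cd K} : p7 K c = p7 K d ↔ c.a1 = d.a1 ∧ c.a2 = d.a2 ∧ c.a6 = d.a6 ∧ c.a8 = d.a8 ∧ c.b8 = d.b8 := by
  simp only [p7, Prod.mk.injEq]
theorem p2_iff {c d : Cd K} : p2 K c = p2 K d ↔ c.a1 = d.a1 ∧ c.a8 = d.a8 ∧ c.b8 = d.b8 := by
  simp only [p2, Prod.mk.injEq]
theorem pQ_iff {c d : Cd K} : pQ K c = pQ K d ↔ c.a8 = d.a8 ∧ c.b8 = d.b8 := by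
  simp only [pQ, Prod.mk.injEq]
theorem p1_iff {c d : Cd K} : c = d ↔ c.a1 = d.a1 ∧ c.a2 = d.a2 ∧ c.b2 = d.b2 ∧ c.a3 = d.a3 ∧ c.a4 = d.a4 ∧ c.b4 = d.b4 ∧
    c.a5 = d.a5 ∧ c.a6 = d.a6 ∧ c.b6 = d.b6 ∧ c.a7 = d.a7 ∧ c.a8 = d.a8 ∧ c.b8 = d.b8 := Cd.ext_iff

variable (σ : K →+* K)

/-- `V = {x ∈ B | [B, x] ≤ 1}` -/
theorem qb_V (c : Cd K) : (pV K) c = (pV K) zc ↔ (pB K) c = (pB K) zc ∧ ∀ d, (pB K) d = (pB K) zc →
    (fun c : Cd K => c) (mul σ d c) = (fun c : Cd K => c) (mul σ c d) := by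
  constructor
  · intro h
    obtain ⟨ma1, ma2, mb2, ma3, ma4, ma5, ma6, ma7, ma8, mb8⟩ := pV_iff.1 h
    simp only [zc] at ma1 ma2 mb2 ma3 ma4 ma5 ma6 ma7 ma8 mb8
    refine ⟨?_, fun d hd => ?_⟩
    · exact pB_iff.2 ma1
    · have na1 := pB_iff.1 hd
      simp only [zc] at na1
      exact p1_iff.2 ⟨(by (try simp only [mul, ma1, ma2, mb2, ma3, ma4, ma5, ma6, ma7, ma8, mb8, na1, map_zero, map_one, mul_zero, zero_mul, mul_one, one_mul, add_zero, zero_add, one_pow, zero_pow two_ne_zero, zero_pow three_ne_zero]) <;> ring1),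
        (by (try simp only [mul, ma1, ma2, mb2, ma3, ma4, ma5, ma6, ma7, ma8, mb8, na1, map_zero, map_one, mul_zero, zero_mul, mul_one, one_mul, add_zero, zero_add, one_pow, zero_pow two_ne_zero, zero_pow three_ne_zero]) <;> ring1),
        (by (try simp only [mul, ma1, ma2, mb2, ma3, ma4, ma5, ma6, ma7, ma8, mb8, na1, map_zero, map_one, mul_zero, zero_mul, mul_one, one_mul, add_zero, zero_add, one_pow, zero_pow two_ne_zero, zero_pow three_ne_zero]) <;> ring1),
        (by (try simp only [mul, ma1, ma2, mb2, ma3, ma4, ma5, ma6, ma7, ma8, mb8, na1, map_zero, map_one, mul_zero, zero_mul, mul_one, one_mul, add_zero, zero_add, one_pow, zero_pow two_ne_zero, zero_pow three_ne_zero]) <;> ring1),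
        (by (try simp only [mul, ma1, ma2, mb2, ma3, ma4, ma5, ma6, ma7, ma8, mb8, na1, map_zero, map_one, mul_zero, zero_mul, mul_one, one_mul, add_zero, zero_add, one_pow, zero_pow two_ne_zero, zero_pow three_ne_zero]) <;> ring1),
        (by (try simp only [mul, ma1, ma2, mb2, ma3, ma4, ma5, ma6, ma7, ma8, mb8, na1, map_zero, map_one, mul_zero, zero_mul, mul_one, one_mul, add_zero, zero_add, one_pow, zero_pow two_ne_zero, zero_pow three_ne_zero]) <;> ring1),
        (by (try simp only [mul, ma1, ma2, mb2, ma3, ma4, ma5, ma6, ma7, ma8, mb8, na1, map_zero, map_one, mul_zero, zero_mul, mul_one, one_mul, add_zero, zero_add, one_pow, zero_pow two_ne_zero, zero_pow three_ne_zero]) <;> ring1),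
        (by (try simp only [mul, ma1, ma2, mb2, ma3, ma4, ma5, ma6, ma7, ma8, mb8, na1, map_zero, map_one, mul_zero, zero_mul, mul_one, one_mul, add_zero, zero_add, one_pow, zero_pow two_ne_zero, zero_pow three_ne_zero]) <;> ring1),
        (by (try simp only [mul, ma1, ma2, mb2, ma3, ma4, ma5, ma6, ma7, ma8, mb8, na1, map_zero, map_one, mul_zero, zero_mul, mul_one, one_mul, add_zero, zero_add, one_pow, zero_pow two_ne_zero, zero_pow three_ne_zero]) <;> ring1),
        (by (try simp only [mul, ma1, ma2, mb2, ma3, ma4, ma5, ma6, ma7, ma8, mb8, na1, map_zero, map_one, mul_zero, zero_mul, mul_one, one_mul, add_zero, zero_add, one_pow, zero_pow two_ne_zero, zero_pow three_ne_zero]) <;> ring1),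
        (by (try simp only [mul, ma1, ma2, mb2, ma3, ma4, ma5, ma6, ma7, ma8, mb8, na1, map_zero, map_one, mul_zero, zero_mul, mul_one, one_mul, add_zero, zero_add, one_pow, zero_pow two_ne_zero, zero_pow three_ne_zero]) <;> ring1),
        (by (try simp only [mul, ma1, ma2, mb2, ma3, ma4, ma5, ma6, ma7, ma8, mb8, na1, map_zero, map_one, mul_zero, zero_mul, mul_one, one_mul, add_zero, zero_add, one_pow, zero_pow two_ne_zero, zero_pow three_ne_zero]) <;> ring1)⟩
  · rintro ⟨h0, h⟩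
    have ma1 := pB_iff.1 h0
    simp only [zc] at ma1
    have ma8 : c.a8 = 0 := by
      obtain ⟨-, -, -, -, e, -, -, -, -, -, -, -⟩ := p1_iff.1 (h ⟨0, 1, 0, 0, 0, 0, 0, 0, 0, 0, 0, 0⟩ rfl)
      simp only [mul, ma1, map_zero, map_one, mul_zero, zero_mul, mul_one, one_mul, add_zero, zero_add, one_pow, zero_pow two_ne_zero, zero_pow three_ne_zero] at e
      linear_combination -e
    have ma4 : c.a4 = 0 := by
      obtain ⟨-, -, -, e, -, -, -, -, -, -, -, -⟩ := p1_iff.1 (h ⟨0, 1, 0, 0, 0, 0, 0, 0, 0, 0, 0, 0⟩ rfl)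
      simp only [mul, ma1, ma8, map_zero, map_one, mul_zero, zero_mul, mul_one, one_mul, add_zero, zero_add, one_pow, zero_pow two_ne_zero, zero_pow three_ne_zero] at e
      linear_combination -e
    have ma7 : c.a7 = 0 := by
      obtain ⟨-, -, -, -, -, -, e, -, -, -, -, -⟩ := p1_iff.1 (h ⟨0, 1, 0, 0, 0, 0, 0, 0, 0, 0, 0, 0⟩ rfl)
      simp only [mul, ma1, ma8, ma4, map_zero, map_one, mul_zero, zero_mul, mul_one, one_mul, add_zero, zero_add, one_pow, zero_pow two_ne_zero, zero_pow three_ne_zero] at e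
      linear_combination -e
    have mb8 : c.b8 = 0 := by
      obtain ⟨-, -, -, -, -, -, -, -, e, -, -, -⟩ := p1_iff.1 (h ⟨0, 1, 0, 0, 0, 0, 0, 0, 0, 0, 0, 0⟩ rfl)
      simp only [mul, ma1, ma8, ma4, ma7, map_zero, map_one, mul_zero, zero_mul, mul_one, one_mul, add_zero, zero_add, one_pow, zero_pow two_ne_zero, zero_pow three_ne_zero] at e
      exact (map_eq_zero σ).1 (by linear_combination -e)
    have ma5 : c.a5 = 0 := by
      obtain ⟨-, -, -, -, -, e, -, -, -, -, -, -⟩ := p1_iff.1 (h ⟨0, 1, 0, 0, 0, 0, 0, 0, 0, 0, 0, 0⟩ rfl)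
      simp only [mul, ma1, ma8, ma4, ma7, mb8, map_zero, map_one, mul_zero, zero_mul, mul_one, one_mul, add_zero, zero_add, one_pow, zero_pow two_ne_zero, zero_pow three_ne_zero] at e
      linear_combination -e
    have ma6 : c.a6 = 0 := by
      obtain ⟨-, -, -, -, -, e, -, -, -, -, -, -⟩ := p1_iff.1 (h ⟨0, 0, 0, 1, 0, 0, 0, 0, 0, 0, 0, 0⟩ rfl)
      simp only [mul, ma1, ma8, ma4, ma7, mb8, ma5, map_zero, map_one, mul_zero, zero_mul, mul_one, one_mul, add_zero, zero_add, one_pow, zero_pow two_ne_zero, zero_pow three_ne_zero] at e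
      linear_combination -e
    have ma2 : c.a2 = 0 := by
      obtain ⟨-, -, -, e, -, -, -, -, -, -, -, -⟩ := p1_iff.1 (h ⟨0, 0, 0, 0, 1, 0, 0, 0, 0, 0, 0, 0⟩ rfl)
      simp only [mul, ma1, ma8, ma4, ma7, mb8, ma5, ma6, map_zero, map_one, mul_zero, zero_mul, mul_one, one_mul, add_zero, zero_add, one_pow, zero_pow two_ne_zero, zero_pow three_ne_zero] at e
      linear_combination e
    have ma3 : c.a3 = 0 := by
      obtain ⟨-, -, -, -, -, e, -, -, -, -, -, -⟩ := p1_iff.1 (h ⟨0, 0, 0, 0, 0, 0, 0, 1, 0, 0, 0, 0⟩ rfl)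
      simp only [mul, ma1, ma8, ma4, ma7, mb8, ma5, ma6, ma2, map_zero, map_one, mul_zero, zero_mul, mul_one, one_mul, add_zero, zero_add, one_pow, zero_pow two_ne_zero, zero_pow three_ne_zero] at e
      linear_combination e
    have mb2 : c.b2 = 0 := by
      obtain ⟨-, -, -, -, -, e, -, -, -, -, -, -⟩ := p1_iff.1 (h ⟨0, 0, 0, 0, 0, 0, 0, 0, 0, 1, 0, 0⟩ rfl)
      simp only [mul, ma1, ma8, ma4, ma7, mb8, ma5, ma6, ma2, ma3, map_zero, map_one, mul_zero, zero_mul, mul_one, one_mul, add_zero, zero_add, one_pow, zero_pow two_ne_zero, zero_pow three_ne_zero] at e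
      linear_combination e
    exact pV_iff.2 ⟨ma1, ma2, mb2, ma3, ma4, ma5, ma6, ma7, ma8, mb8⟩

/-- `Y = {x ∈ B | [B, x] ≤ V}` -/
theorem qb_Y (c : Cd K) : (pY K) c = (pY K) zc ↔ (pB K) c = (pB K) zc ∧ ∀ d, (pB K) d = (pB K) zc →
    (pV K) (mul σ d c) = (pV K) (mul σ c d) := by
  constructor
  · intro h
    obtain ⟨ma1, ma2, mb2, ma3, ma4, ma6, ma7, ma8, mb8⟩ := pY_iff.1 h
    simp only [zc] at ma1 ma2 mb2 ma3 ma4 ma6 ma7 ma8 mb8
    refine ⟨?_, fun d hd => ?_⟩
    · exact pB_iff.2 ma1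
    · have na1 := pB_iff.1 hd
      simp only [zc] at na1
      exact pV_iff.2 ⟨(by (try simp only [mul, ma1, ma2, mb2, ma3, ma4, ma6, ma7, ma8, mb8, na1, map_zero, map_one, mul_zero, zero_mul, mul_one, one_mul, add_zero, zero_add, one_pow, zero_pow two_ne_zero, zero_pow three_ne_zero]) <;> ring1),
        (by (try simp only [mul, ma1, ma2, mb2, ma3, ma4, ma6, ma7, ma8, mb8, na1, map_zero, map_one, mul_zero, zero_mul, mul_one, one_mul, add_zero, zero_add, one_pow, zero_pow two_ne_zero, zero_pow three_ne_zero]) <;> ring1),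
        (by (try simp only [mul, ma1, ma2, mb2, ma3, ma4, ma6, ma7, ma8, mb8, na1, map_zero, map_one, mul_zero, zero_mul, mul_one, one_mul, add_zero, zero_add, one_pow, zero_pow two_ne_zero, zero_pow three_ne_zero]) <;> ring1),
        (by (try simp only [mul, ma1, ma2, mb2, ma3, ma4, ma6, ma7, ma8, mb8, na1, map_zero, map_one, mul_zero, zero_mul, mul_one, one_mul, add_zero, zero_add, one_pow, zero_pow two_ne_zero, zero_pow three_ne_zero]) <;> ring1),
        (by (try simp only [mul, ma1, ma2, mb2, ma3, ma4, ma6, ma7, ma8, mb8, na1, map_zero, map_one, mul_zero, zero_mul, mul_one, one_mul, add_zero, zero_add, one_pow, zero_pow two_ne_zero, zero_pow three_ne_zero]) <;> ring1),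
        (by (try simp only [mul, ma1, ma2, mb2, ma3, ma4, ma6, ma7, ma8, mb8, na1, map_zero, map_one, mul_zero, zero_mul, mul_one, one_mul, add_zero, zero_add, one_pow, zero_pow two_ne_zero, zero_pow three_ne_zero]) <;> ring1),
        (by (try simp only [mul, ma1, ma2, mb2, ma3, ma4, ma6, ma7, ma8, mb8, na1, map_zero, map_one, mul_zero, zero_mul, mul_one, one_mul, add_zero, zero_add, one_pow, zero_pow two_ne_zero, zero_pow three_ne_zero]) <;> ring1),
        (by (try simp only [mul, ma1, ma2, mb2, ma3, ma4, ma6, ma7, ma8, mb8, na1, map_zero, map_one, mul_zero, zero_mul, mul_one, one_mul, add_zero, zero_add, one_pow, zero_pow two_ne_zero, zero_pow three_ne_zero]) <;> ring1),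
        (by (try simp only [mul, ma1, ma2, mb2, ma3, ma4, ma6, ma7, ma8, mb8, na1, map_zero, map_one, mul_zero, zero_mul, mul_one, one_mul, add_zero, zero_add, one_pow, zero_pow two_ne_zero, zero_pow three_ne_zero]) <;> ring1),
        (by (try simp only [mul, ma1, ma2, mb2, ma3, ma4, ma6, ma7, ma8, mb8, na1, map_zero, map_one, mul_zero, zero_mul, mul_one, one_mul, add_zero, zero_add, one_pow, zero_pow two_ne_zero, zero_pow three_ne_zero]) <;> ring1)⟩
  · rintro ⟨h0, h⟩
    have ma1 := pB_iff.1 h0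
    simp only [zc] at ma1
    have ma8 : c.a8 = 0 := by
      obtain ⟨-, -, -, -, e, -, -, -, -, -⟩ := pV_iff.1 (h ⟨0, 1, 0, 0, 0, 0, 0, 0, 0, 0, 0, 0⟩ rfl)
      simp only [mul, ma1, map_zero, map_one, mul_zero, zero_mul, mul_one, one_mul, add_zero, zero_add, one_pow, zero_pow two_ne_zero, zero_pow three_ne_zero] at e
      linear_combination -e
    have ma4 : c.a4 = 0 := by
      obtain ⟨-, -, -, e, -, -, -, -, -, -⟩ := pV_iff.1 (h ⟨0, 1, 0, 0, 0, 0, 0, 0, 0, 0, 0, 0⟩ rfl)
      simp only [mul, ma1, ma8, map_zero, map_one, mul_zero, zero_mul, mul_one, one_mul, add_zero, zero_add, one_pow, zero_pow two_ne_zero, zero_pow three_ne_zero] at e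
      linear_combination -e
    have ma7 : c.a7 = 0 := by
      obtain ⟨-, -, -, -, -, e, -, -, -, -⟩ := pV_iff.1 (h ⟨0, 1, 0, 0, 0, 0, 0, 0, 0, 0, 0, 0⟩ rfl)
      simp only [mul, ma1, ma8, ma4, map_zero, map_one, mul_zero, zero_mul, mul_one, one_mul, add_zero, zero_add, one_pow, zero_pow two_ne_zero, zero_pow three_ne_zero] at e
      linear_combination -e
    have mb8 : c.b8 = 0 := by
      obtain ⟨-, -, -, -, -, -, -, e, -, -⟩ := pV_iff.1 (h ⟨0, 1, 0, 0, 0, 0, 0, 0, 0, 0, 0, 0⟩ rfl)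
      simp only [mul, ma1, ma8, ma4, ma7, map_zero, map_one, mul_zero, zero_mul, mul_one, one_mul, add_zero, zero_add, one_pow, zero_pow two_ne_zero, zero_pow three_ne_zero] at e
      linear_combination -e
    have ma2 : c.a2 = 0 := by
      obtain ⟨-, -, -, e, -, -, -, -, -, -⟩ := pV_iff.1 (h ⟨0, 0, 0, 0, 1, 0, 0, 0, 0, 0, 0, 0⟩ rfl)
      simp only [mul, ma1, ma8, ma4, ma7, mb8, map_zero, map_one, mul_zero, zero_mul, mul_one, one_mul, add_zero, zero_add, one_pow, zero_pow two_ne_zero, zero_pow three_ne_zero] at e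
      linear_combination e
    have ma6 : c.a6 = 0 := by
      obtain ⟨-, -, -, -, -, e, -, -, -, -⟩ := pV_iff.1 (h ⟨0, 0, 0, 0, 1, 0, 0, 0, 0, 0, 0, 0⟩ rfl)
      simp only [mul, ma1, ma8, ma4, ma7, mb8, ma2, map_zero, map_one, mul_zero, zero_mul, mul_one, one_mul, add_zero, zero_add, one_pow, zero_pow two_ne_zero, zero_pow three_ne_zero] at e
      linear_combination -e
    have mb2 : c.b2 = 0 := by
      obtain ⟨-, -, -, e, -, -, -, -, -, -⟩ := pV_iff.1 (h ⟨0, 0, 0, 0, 0, 0, 0, 0, 0, 0, 1, 0⟩ rfl)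
      simp only [mul, ma1, ma8, ma4, ma7, mb8, ma2, ma6, map_zero, map_one, mul_zero, zero_mul, mul_one, one_mul, add_zero, zero_add, one_pow, zero_pow two_ne_zero, zero_pow three_ne_zero] at e
      linear_combination e
    have ma3 : c.a3 = 0 := by
      obtain ⟨-, -, -, -, -, e, -, -, -, -⟩ := pV_iff.1 (h ⟨0, 0, 0, 0, 0, 0, 0, 0, 0, 0, 1, 0⟩ rfl)
      simp only [mul, ma1, ma8, ma4, ma7, mb8, ma2, ma6, mb2, map_zero, map_one, mul_zero, zero_mul, mul_one, one_mul, add_zero, zero_add, one_pow, zero_pow two_ne_zero, zero_pow three_ne_zero] at e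
      linear_combination e
    exact pY_iff.2 ⟨ma1, ma2, mb2, ma3, ma4, ma6, ma7, ma8, mb8⟩

/-- `A = {x ∈ B | [B, x] ≤ Y}` -/
theorem qb_A (c : Cd K) : (pA K) c = (pA K) zc ↔ (pB K) c = (pB K) zc ∧ ∀ d, (pB K) d = (pB K) zc →
    (pY K) (mul σ d c) = (pY K) (mul σ c d) := by
  constructor
  · intro h
    obtain ⟨ma1, ma2, mb2, ma4, ma6, ma8, mb8⟩ := pA_iff.1 h
    simp only [zc] at ma1 ma2 mb2 ma4 ma6 ma8 mb8
    refine ⟨?_, fun d hd => ?_⟩
    · exact pB_iff.2 ma1
    · have na1 := pB_iff.1 hd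
      simp only [zc] at na1
      exact pY_iff.2 ⟨(by (try simp only [mul, ma1, ma2, mb2, ma4, ma6, ma8, mb8, na1, map_zero, map_one, mul_zero, zero_mul, mul_one, one_mul, add_zero, zero_add, one_pow, zero_pow two_ne_zero, zero_pow three_ne_zero]) <;> ring1),
        (by (try simp only [mul, ma1, ma2, mb2, ma4, ma6, ma8, mb8, na1, map_zero, map_one, mul_zero, zero_mul, mul_one, one_mul, add_zero, zero_add, one_pow, zero_pow two_ne_zero, zero_pow three_ne_zero]) <;> ring1),
        (by (try simp only [mul, ma1, ma2, mb2, ma4, ma6, ma8, mb8, na1, map_zero, map_one, mul_zero, zero_mul, mul_one, one_mul, add_zero, zero_add, one_pow, zero_pow two_ne_zero, zero_pow three_ne_zero]) <;> ring1),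
        (by (try simp only [mul, ma1, ma2, mb2, ma4, ma6, ma8, mb8, na1, map_zero, map_one, mul_zero, zero_mul, mul_one, one_mul, add_zero, zero_add, one_pow, zero_pow two_ne_zero, zero_pow three_ne_zero]) <;> ring1),
        (by (try simp only [mul, ma1, ma2, mb2, ma4, ma6, ma8, mb8, na1, map_zero, map_one, mul_zero, zero_mul, mul_one, one_mul, add_zero, zero_add, one_pow, zero_pow two_ne_zero, zero_pow three_ne_zero]) <;> ring1),
        (by (try simp only [mul, ma1, ma2, mb2, ma4, ma6, ma8, mb8, na1, map_zero, map_one, mul_zero, zero_mul, mul_one, one_mul, add_zero, zero_add, one_pow, zero_pow two_ne_zero, zero_pow three_ne_zero]) <;> ring1),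
        (by (try simp only [mul, ma1, ma2, mb2, ma4, ma6, ma8, mb8, na1, map_zero, map_one, mul_zero, zero_mul, mul_one, one_mul, add_zero, zero_add, one_pow, zero_pow two_ne_zero, zero_pow three_ne_zero]) <;> ring1),
        (by (try simp only [mul, ma1, ma2, mb2, ma4, ma6, ma8, mb8, na1, map_zero, map_one, mul_zero, zero_mul, mul_one, one_mul, add_zero, zero_add, one_pow, zero_pow two_ne_zero, zero_pow three_ne_zero]) <;> ring1),
        (by (try simp only [mul, ma1, ma2, mb2, ma4, ma6, ma8, mb8, na1, map_zero, map_one, mul_zero, zero_mul, mul_one, one_mul, add_zero, zero_add, one_pow, zero_pow two_ne_zero, zero_pow three_ne_zero]) <;> ring1)⟩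
  · rintro ⟨h0, h⟩
    have ma1 := pB_iff.1 h0
    simp only [zc] at ma1
    have ma8 : c.a8 = 0 := by
      obtain ⟨-, -, -, -, e, -, -, -, -⟩ := pY_iff.1 (h ⟨0, 1, 0, 0, 0, 0, 0, 0, 0, 0, 0, 0⟩ rfl)
      simp only [mul, ma1, map_zero, map_one, mul_zero, zero_mul, mul_one, one_mul, add_zero, zero_add, one_pow, zero_pow two_ne_zero, zero_pow three_ne_zero] at e
      linear_combination -e
    have ma4 : c.a4 = 0 := by
      obtain ⟨-, -, -, e, -, -, -, -, -⟩ := pY_iff.1 (h ⟨0, 1, 0, 0, 0, 0, 0, 0, 0, 0, 0, 0⟩ rfl)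
      simp only [mul, ma1, ma8, map_zero, map_one, mul_zero, zero_mul, mul_one, one_mul, add_zero, zero_add, one_pow, zero_pow two_ne_zero, zero_pow three_ne_zero] at e
      linear_combination -e
    have mb8 : c.b8 = 0 := by
      obtain ⟨-, -, -, -, -, -, e, -, -⟩ := pY_iff.1 (h ⟨0, 1, 0, 0, 0, 0, 0, 0, 0, 0, 0, 0⟩ rfl)
      simp only [mul, ma1, ma8, ma4, map_zero, map_one, mul_zero, zero_mul, mul_one, one_mul, add_zero, zero_add, one_pow, zero_pow two_ne_zero, zero_pow three_ne_zero] at e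
      linear_combination -e
    have ma2 : c.a2 = 0 := by
      obtain ⟨-, -, -, e, -, -, -, -, -⟩ := pY_iff.1 (h ⟨0, 0, 0, 0, 1, 0, 0, 0, 0, 0, 0, 0⟩ rfl)
      simp only [mul, ma1, ma8, ma4, mb8, map_zero, map_one, mul_zero, zero_mul, mul_one, one_mul, add_zero, zero_add, one_pow, zero_pow two_ne_zero, zero_pow three_ne_zero] at e
      linear_combination e
    have mb2 : c.b2 = 0 := by
      obtain ⟨-, -, -, e, -, -, -, -, -⟩ := pY_iff.1 (h ⟨0, 0, 0, 0, 0, 0, 0, 0, 0, 0, 1, 0⟩ rfl)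
      simp only [mul, ma1, ma8, ma4, mb8, ma2, map_zero, map_one, mul_zero, zero_mul, mul_one, one_mul, add_zero, zero_add, one_pow, zero_pow two_ne_zero, zero_pow three_ne_zero] at e
      linear_combination e
    have ma6 : c.a6 = 0 := by
      obtain ⟨-, -, -, -, -, -, e, -, -⟩ := pY_iff.1 (h ⟨0, 0, 0, 0, 0, 0, 0, 0, 0, 0, 1, 0⟩ rfl)
      simp only [mul, ma1, ma8, ma4, mb8, ma2, mb2, map_zero, map_one, mul_zero, zero_mul, mul_one, one_mul, add_zero, zero_add, one_pow, zero_pow two_ne_zero, zero_pow three_ne_zero] at e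
      linear_combination e
    exact pA_iff.2 ⟨ma1, ma2, mb2, ma4, ma6, ma8, mb8⟩

/-- `N = {x ∈ B | [Y, x] ≤ 1}` -/
theorem qb_N (c : Cd K) : (pN K) c = (pN K) zc ↔ (pB K) c = (pB K) zc ∧ ∀ d, (pY K) d = (pY K) zc →
    (fun c : Cd K => c) (mul σ d c) = (fun c : Cd K => c) (mul σ c d) := by
  constructor
  · intro h
    obtain ⟨ma1, ma2, ma8⟩ := pN_iff.1 h
    simp only [zc] at ma1 ma2 ma8
    refine ⟨?_, fun d hd => ?_⟩
    · exact pB_iff.2 ma1
    · obtain ⟨na1, na2, nb2, na3, na4, na6, na7, na8, nb8⟩ := pY_iff.1 hd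
      simp only [zc] at na1 na2 nb2 na3 na4 na6 na7 na8 nb8
      exact p1_iff.2 ⟨(by (try simp only [mul, ma1, ma2, ma8, na1, na2, nb2, na3, na4, na6, na7, na8, nb8, map_zero, map_one, mul_zero, zero_mul, mul_one, one_mul, add_zero, zero_add, one_pow, zero_pow two_ne_zero, zero_pow three_ne_zero]) <;> ring1),
        (by (try simp only [mul, ma1, ma2, ma8, na1, na2, nb2, na3, na4, na6, na7, na8, nb8, map_zero, map_one, mul_zero, zero_mul, mul_one, one_mul, add_zero, zero_add, one_pow, zero_pow two_ne_zero, zero_pow three_ne_zero]) <;> ring1),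
        (by (try simp only [mul, ma1, ma2, ma8, na1, na2, nb2, na3, na4, na6, na7, na8, nb8, map_zero, map_one, mul_zero, zero_mul, mul_one, one_mul, add_zero, zero_add, one_pow, zero_pow two_ne_zero, zero_pow three_ne_zero]) <;> ring1),
        (by (try simp only [mul, ma1, ma2, ma8, na1, na2, nb2, na3, na4, na6, na7, na8, nb8, map_zero, map_one, mul_zero, zero_mul, mul_one, one_mul, add_zero, zero_add, one_pow, zero_pow two_ne_zero, zero_pow three_ne_zero]) <;> ring1),
        (by (try simp only [mul, ma1, ma2, ma8, na1, na2, nb2, na3, na4, na6, na7, na8, nb8, map_zero, map_one, mul_zero, zero_mul, mul_one, one_mul, add_zero, zero_add, one_pow, zero_pow two_ne_zero, zero_pow three_ne_zero]) <;> ring1),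
        (by (try simp only [mul, ma1, ma2, ma8, na1, na2, nb2, na3, na4, na6, na7, na8, nb8, map_zero, map_one, mul_zero, zero_mul, mul_one, one_mul, add_zero, zero_add, one_pow, zero_pow two_ne_zero, zero_pow three_ne_zero]) <;> ring1),
        (by (try simp only [mul, ma1, ma2, ma8, na1, na2, nb2, na3, na4, na6, na7, na8, nb8, map_zero, map_one, mul_zero, zero_mul, mul_one, one_mul, add_zero, zero_add, one_pow, zero_pow two_ne_zero, zero_pow three_ne_zero]) <;> ring1),
        (by (try simp only [mul, ma1, ma2, ma8, na1, na2, nb2, na3, na4, na6, na7, na8, nb8, map_zero, map_one, mul_zero, zero_mul, mul_one, one_mul, add_zero, zero_add, one_pow, zero_pow two_ne_zero, zero_pow three_ne_zero]) <;> ring1),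
        (by (try simp only [mul, ma1, ma2, ma8, na1, na2, nb2, na3, na4, na6, na7, na8, nb8, map_zero, map_one, mul_zero, zero_mul, mul_one, one_mul, add_zero, zero_add, one_pow, zero_pow two_ne_zero, zero_pow three_ne_zero]) <;> ring1),
        (by (try simp only [mul, ma1, ma2, ma8, na1, na2, nb2, na3, na4, na6, na7, na8, nb8, map_zero, map_one, mul_zero, zero_mul, mul_one, one_mul, add_zero, zero_add, one_pow, zero_pow two_ne_zero, zero_pow three_ne_zero]) <;> ring1),
        (by (try simp only [mul, ma1, ma2, ma8, na1, na2, nb2, na3, na4, na6, na7, na8, nb8, map_zero, map_one, mul_zero, zero_mul, mul_one, one_mul, add_zero, zero_add, one_pow, zero_pow two_ne_zero, zero_pow three_ne_zero]) <;> ring1),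
        (by (try simp only [mul, ma1, ma2, ma8, na1, na2, nb2, na3, na4, na6, na7, na8, nb8, map_zero, map_one, mul_zero, zero_mul, mul_one, one_mul, add_zero, zero_add, one_pow, zero_pow two_ne_zero, zero_pow three_ne_zero]) <;> ring1)⟩
  · rintro ⟨h0, h⟩
    have ma1 := pB_iff.1 h0
    simp only [zc] at ma1
    have ma2 : c.a2 = 0 := by
      obtain ⟨-, -, -, -, -, e, -, -, -, -, -, -⟩ := p1_iff.1 (h ⟨0, 0, 0, 0, 0, 0, 1, 0, 0, 0, 0, 0⟩ rfl)
      simp only [mul, ma1, map_zero, map_one, mul_zero, zero_mul, mul_one, one_mul, add_zero, zero_add, one_pow, zero_pow two_ne_zero, zero_pow three_ne_zero] at e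
      linear_combination e
    have ma8 : c.a8 = 0 := by
      obtain ⟨-, -, -, -, -, -, -, -, e, -, -, -⟩ := p1_iff.1 (h ⟨0, 0, 0, 0, 0, 0, 1, 0, 0, 0, 0, 0⟩ rfl)
      simp only [mul, ma1, ma2, map_zero, map_one, mul_zero, zero_mul, mul_one, one_mul, add_zero, zero_add, one_pow, zero_pow two_ne_zero, zero_pow three_ne_zero] at e
      linear_combination -e
    exact pN_iff.2 ⟨ma1, ma2, ma8⟩

/-- `W = {x ∈ B | [Y, x] ≤ Z}` -/
theorem qb_W (c : Cd K) : (pW K) c = (pW K) zc ↔ (pB K) c = (pB K) zc ∧ ∀ d, (pY K) d = (pY K) zc →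
    (pZ K) (mul σ d c) = (pZ K) (mul σ c d) := by
  constructor
  · intro h
    obtain ⟨ma1, ma8⟩ := pW_iff.1 h
    simp only [zc] at ma1 ma8
    refine ⟨?_, fun d hd => ?_⟩
    · exact pB_iff.2 ma1
    · obtain ⟨na1, na2, nb2, na3, na4, na6, na7, na8, nb8⟩ := pY_iff.1 hd
      simp only [zc] at na1 na2 nb2 na3 na4 na6 na7 na8 nb8
      exact pZ_iff.2 ⟨(by (try simp only [mul, ma1, ma8, na1, na2, nb2, na3, na4, na6, na7, na8, nb8, map_zero, map_one, mul_zero, zero_mul, mul_one, one_mul, add_zero, zero_add, one_pow, zero_pow two_ne_zero, zero_pow three_ne_zero]) <;> ring1),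
        (by (try simp only [mul, ma1, ma8, na1, na2, nb2, na3, na4, na6, na7, na8, nb8, map_zero, map_one, mul_zero, zero_mul, mul_one, one_mul, add_zero, zero_add, one_pow, zero_pow two_ne_zero, zero_pow three_ne_zero]) <;> ring1),
        (by (try simp only [mul, ma1, ma8, na1, na2, nb2, na3, na4, na6, na7, na8, nb8, map_zero, map_one, mul_zero, zero_mul, mul_one, one_mul, add_zero, zero_add, one_pow, zero_pow two_ne_zero, zero_pow three_ne_zero]) <;> ring1),
        (by (try simp only [mul, ma1, ma8, na1, na2, nb2, na3, na4, na6, na7, na8, nb8, map_zero, map_one, mul_zero, zero_mul, mul_one, one_mul, add_zero, zero_add, one_pow, zero_pow two_ne_zero, zero_pow three_ne_zero]) <;> ring1),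
        (by (try simp only [mul, ma1, ma8, na1, na2, nb2, na3, na4, na6, na7, na8, nb8, map_zero, map_one, mul_zero, zero_mul, mul_one, one_mul, add_zero, zero_add, one_pow, zero_pow two_ne_zero, zero_pow three_ne_zero]) <;> ring1),
        (by (try simp only [mul, ma1, ma8, na1, na2, nb2, na3, na4, na6, na7, na8, nb8, map_zero, map_one, mul_zero, zero_mul, mul_one, one_mul, add_zero, zero_add, one_pow, zero_pow two_ne_zero, zero_pow three_ne_zero]) <;> ring1),
        (by (try simp only [mul, ma1, ma8, na1, na2, nb2, na3, na4, na6, na7, na8, nb8, map_zero, map_one, mul_zero, zero_mul, mul_one, one_mul, add_zero, zero_add, one_pow, zero_pow two_ne_zero, zero_pow three_ne_zero]) <;> ring1),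
        (by (try simp only [mul, ma1, ma8, na1, na2, nb2, na3, na4, na6, na7, na8, nb8, map_zero, map_one, mul_zero, zero_mul, mul_one, one_mul, add_zero, zero_add, one_pow, zero_pow two_ne_zero, zero_pow three_ne_zero]) <;> ring1),
        (by (try simp only [mul, ma1, ma8, na1, na2, nb2, na3, na4, na6, na7, na8, nb8, map_zero, map_one, mul_zero, zero_mul, mul_one, one_mul, add_zero, zero_add, one_pow, zero_pow two_ne_zero, zero_pow three_ne_zero]) <;> ring1),
        (by (try simp only [mul, ma1, ma8, na1, na2, nb2, na3, na4, na6, na7, na8, nb8, map_zero, map_one, mul_zero, zero_mul, mul_one, one_mul, add_zero, zero_add, one_pow, zero_pow two_ne_zero, zero_pow three_ne_zero]) <;> ring1),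
        (by (try simp only [mul, ma1, ma8, na1, na2, nb2, na3, na4, na6, na7, na8, nb8, map_zero, map_one, mul_zero, zero_mul, mul_one, one_mul, add_zero, zero_add, one_pow, zero_pow two_ne_zero, zero_pow three_ne_zero]) <;> ring1)⟩
  · rintro ⟨h0, h⟩
    have ma1 := pB_iff.1 h0
    simp only [zc] at ma1
    have ma8 : c.a8 = 0 := by
      obtain ⟨-, -, -, -, -, -, -, e, -, -, -⟩ := pZ_iff.1 (h ⟨0, 0, 0, 0, 0, 0, 1, 0, 0, 0, 0, 0⟩ rfl)
      simp only [mul, ma1, map_zero, map_one, mul_zero, zero_mul, mul_one, one_mul, add_zero, zero_add, one_pow, zero_pow two_ne_zero, zero_pow three_ne_zero] at e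
      linear_combination -e
    exact pW_iff.2 ⟨ma1, ma8⟩

/-- `E4 = {x ∈ A | [W, x] ≤ V}` -/
theorem qb_E4 (c : Cd K) : (pE4 K) c = (pE4 K) zc ↔ (pA K) c = (pA K) zc ∧ ∀ d, (pW K) d = (pW K) zc →
    (pV K) (mul σ d c) = (pV K) (mul σ c d) := by
  constructor
  · intro h
    obtain ⟨ma1, ma2, mb2, ma4, ma6, ma7, ma8, mb8⟩ := pE4_iff.1 h
    simp only [zc] at ma1 ma2 mb2 ma4 ma6 ma7 ma8 mb8
    refine ⟨?_, fun d hd => ?_⟩
    · exact pA_iff.2 ⟨ma1, ma2, mb2, ma4, ma6, ma8, mb8⟩
    · obtain ⟨na1, na8⟩ := pW_iff.1 hd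
      simp only [zc] at na1 na8
      exact pV_iff.2 ⟨(by (try simp only [mul, ma1, ma2, mb2, ma4, ma6, ma7, ma8, mb8, na1, na8, map_zero, map_one, mul_zero, zero_mul, mul_one, one_mul, add_zero, zero_add, one_pow, zero_pow two_ne_zero, zero_pow three_ne_zero]) <;> ring1),
        (by (try simp only [mul, ma1, ma2, mb2, ma4, ma6, ma7, ma8, mb8, na1, na8, map_zero, map_one, mul_zero, zero_mul, mul_one, one_mul, add_zero, zero_add, one_pow, zero_pow two_ne_zero, zero_pow three_ne_zero]) <;> ring1),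
        (by (try simp only [mul, ma1, ma2, mb2, ma4, ma6, ma7, ma8, mb8, na1, na8, map_zero, map_one, mul_zero, zero_mul, mul_one, one_mul, add_zero, zero_add, one_pow, zero_pow two_ne_zero, zero_pow three_ne_zero]) <;> ring1),
        (by (try simp only [mul, ma1, ma2, mb2, ma4, ma6, ma7, ma8, mb8, na1, na8, map_zero, map_one, mul_zero, zero_mul, mul_one, one_mul, add_zero, zero_add, one_pow, zero_pow two_ne_zero, zero_pow three_ne_zero]) <;> ring1),
        (by (try simp only [mul, ma1, ma2, mb2, ma4, ma6, ma7, ma8, mb8, na1, na8, map_zero, map_one, mul_zero, zero_mul, mul_one, one_mul, add_zero, zero_add, one_pow, zero_pow two_ne_zero, zero_pow three_ne_zero]) <;> ring1),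
        (by (try simp only [mul, ma1, ma2, mb2, ma4, ma6, ma7, ma8, mb8, na1, na8, map_zero, map_one, mul_zero, zero_mul, mul_one, one_mul, add_zero, zero_add, one_pow, zero_pow two_ne_zero, zero_pow three_ne_zero]) <;> ring1),
        (by (try simp only [mul, ma1, ma2, mb2, ma4, ma6, ma7, ma8, mb8, na1, na8, map_zero, map_one, mul_zero, zero_mul, mul_one, one_mul, add_zero, zero_add, one_pow, zero_pow two_ne_zero, zero_pow three_ne_zero]) <;> ring1),
        (by (try simp only [mul, ma1, ma2, mb2, ma4, ma6, ma7, ma8, mb8, na1, na8, map_zero, map_one, mul_zero, zero_mul, mul_one, one_mul, add_zero, zero_add, one_pow, zero_pow two_ne_zero, zero_pow three_ne_zero]) <;> ring1),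
        (by (try simp only [mul, ma1, ma2, mb2, ma4, ma6, ma7, ma8, mb8, na1, na8, map_zero, map_one, mul_zero, zero_mul, mul_one, one_mul, add_zero, zero_add, one_pow, zero_pow two_ne_zero, zero_pow three_ne_zero]) <;> ring1),
        (by (try simp only [mul, ma1, ma2, mb2, ma4, ma6, ma7, ma8, mb8, na1, na8, map_zero, map_one, mul_zero, zero_mul, mul_one, one_mul, add_zero, zero_add, one_pow, zero_pow two_ne_zero, zero_pow three_ne_zero]) <;> ring1)⟩
  · rintro ⟨h0, h⟩
    obtain ⟨ma1, ma2, mb2, ma4, ma6, ma8, mb8⟩ := pA_iff.1 h0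
    simp only [zc] at ma1 ma2 mb2 ma4 ma6 ma8 mb8
    have ma7 : c.a7 = 0 := by
      obtain ⟨-, -, -, -, -, e, -, -, -, -⟩ := pV_iff.1 (h ⟨0, 1, 0, 0, 0, 0, 0, 0, 0, 0, 0, 0⟩ rfl)
      simp only [mul, ma1, ma2, mb2, ma4, ma6, ma8, mb8, map_zero, map_one, mul_zero, zero_mul, mul_one, one_mul, add_zero, zero_add, one_pow, zero_pow two_ne_zero, zero_pow three_ne_zero] at e
      linear_combination -e
    exact pE4_iff.2 ⟨ma1, ma2, mb2, ma4, ma6, ma7, ma8, mb8⟩

/-- `F = {x ∈ N | [E4, x] ≤ Z}` -/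
theorem qb_F (c : Cd K) : (pF K) c = (pF K) zc ↔ (pN K) c = (pN K) zc ∧ ∀ d, (pE4 K) d = (pE4 K) zc →
    (pZ K) (mul σ d c) = (pZ K) (mul σ c d) := by
  constructor
  · intro h
    obtain ⟨ma1, ma2, ma8, mb8⟩ := pF_iff.1 h
    simp only [zc] at ma1 ma2 ma8 mb8
    refine ⟨?_, fun d hd => ?_⟩
    · exact pN_iff.2 ⟨ma1, ma2, ma8⟩
    · obtain ⟨na1, na2, nb2, na4, na6, na7, na8, nb8⟩ := pE4_iff.1 hd
      simp only [zc] at na1 na2 nb2 na4 na6 na7 na8 nb8
      exact pZ_iff.2 ⟨(by (try simp only [mul, ma1, ma2, ma8, mb8, na1, na2, nb2, na4, na6, na7, na8, nb8, map_zero, map_one, mul_zero, zero_mul, mul_one, one_mul, add_zero, zero_add, one_pow, zero_pow two_ne_zero, zero_pow three_ne_zero]) <;> ring1),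
        (by (try simp only [mul, ma1, ma2, ma8, mb8, na1, na2, nb2, na4, na6, na7, na8, nb8, map_zero, map_one, mul_zero, zero_mul, mul_one, one_mul, add_zero, zero_add, one_pow, zero_pow two_ne_zero, zero_pow three_ne_zero]) <;> ring1),
        (by (try simp only [mul, ma1, ma2, ma8, mb8, na1, na2, nb2, na4, na6, na7, na8, nb8, map_zero, map_one, mul_zero, zero_mul, mul_one, one_mul, add_zero, zero_add, one_pow, zero_pow two_ne_zero, zero_pow three_ne_zero]) <;> ring1),
        (by (try simp only [mul, ma1, ma2, ma8, mb8, na1, na2, nb2, na4, na6, na7, na8, nb8, map_zero, map_one, mul_zero, zero_mul, mul_one, one_mul, add_zero, zero_add, one_pow, zero_pow two_ne_zero, zero_pow three_ne_zero]) <;> ring1),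
        (by (try simp only [mul, ma1, ma2, ma8, mb8, na1, na2, nb2, na4, na6, na7, na8, nb8, map_zero, map_one, mul_zero, zero_mul, mul_one, one_mul, add_zero, zero_add, one_pow, zero_pow two_ne_zero, zero_pow three_ne_zero]) <;> ring1),
        (by (try simp only [mul, ma1, ma2, ma8, mb8, na1, na2, nb2, na4, na6, na7, na8, nb8, map_zero, map_one, mul_zero, zero_mul, mul_one, one_mul, add_zero, zero_add, one_pow, zero_pow two_ne_zero, zero_pow three_ne_zero]) <;> ring1),
        (by (try simp only [mul, ma1, ma2, ma8, mb8, na1, na2, nb2, na4, na6, na7, na8, nb8, map_zero, map_one, mul_zero, zero_mul, mul_one, one_mul, add_zero, zero_add, one_pow, zero_pow two_ne_zero, zero_pow three_ne_zero]) <;> ring1),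
        (by (try simp only [mul, ma1, ma2, ma8, mb8, na1, na2, nb2, na4, na6, na7, na8, nb8, map_zero, map_one, mul_zero, zero_mul, mul_one, one_mul, add_zero, zero_add, one_pow, zero_pow two_ne_zero, zero_pow three_ne_zero]) <;> ring1),
        (by (try simp only [mul, ma1, ma2, ma8, mb8, na1, na2, nb2, na4, na6, na7, na8, nb8, map_zero, map_one, mul_zero, zero_mul, mul_one, one_mul, add_zero, zero_add, one_pow, zero_pow two_ne_zero, zero_pow three_ne_zero]) <;> ring1),
        (by (try simp only [mul, ma1, ma2, ma8, mb8, na1, na2, nb2, na4, na6, na7, na8, nb8, map_zero, map_one, mul_zero, zero_mul, mul_one, one_mul, add_zero, zero_add, one_pow, zero_pow two_ne_zero, zero_pow three_ne_zero]) <;> ring1),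
        (by (try simp only [mul, ma1, ma2, ma8, mb8, na1, na2, nb2, na4, na6, na7, na8, nb8, map_zero, map_one, mul_zero, zero_mul, mul_one, one_mul, add_zero, zero_add, one_pow, zero_pow two_ne_zero, zero_pow three_ne_zero]) <;> ring1)⟩
  · rintro ⟨h0, h⟩
    obtain ⟨ma1, ma2, ma8⟩ := pN_iff.1 h0
    simp only [zc] at ma1 ma2 ma8
    have mb8 : c.b8 = 0 := by
      obtain ⟨-, -, -, -, -, -, -, e, -, -, -⟩ := pZ_iff.1 (h ⟨0, 0, 0, 1, 0, 0, 0, 0, 0, 0, 0, 0⟩ rfl)
      simp only [mul, ma1, ma2, ma8, map_zero, map_one, mul_zero, zero_mul, mul_one, one_mul, add_zero, zero_add, one_pow, zero_pow two_ne_zero, zero_pow three_ne_zero] at e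
      linear_combination -e
    exact pF_iff.2 ⟨ma1, ma2, ma8, mb8⟩

/-- `F1 = {x ∈ N | [A, x] ≤ Z}` -/
theorem qb_F1 (c : Cd K) : (pF1 K) c = (pF1 K) zc ↔ (pN K) c = (pN K) zc ∧ ∀ d, (pA K) d = (pA K) zc →
    (pZ K) (mul σ d c) = (pZ K) (mul σ c d) := by
  constructor
  · intro h
    obtain ⟨ma1, ma2, ma4, ma8, mb8⟩ := pF1_iff.1 h
    simp only [zc] at ma1 ma2 ma4 ma8 mb8
    refine ⟨?_, fun d hd => ?_⟩
    · exact pN_iff.2 ⟨ma1, ma2, ma8⟩
    · obtain ⟨na1, na2, nb2, na4, na6, na8, nb8⟩ := pA_iff.1 hd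
      simp only [zc] at na1 na2 nb2 na4 na6 na8 nb8
      exact pZ_iff.2 ⟨(by (try simp only [mul, ma1, ma2, ma4, ma8, mb8, na1, na2, nb2, na4, na6, na8, nb8, map_zero, map_one, mul_zero, zero_mul, mul_one, one_mul, add_zero, zero_add, one_pow, zero_pow two_ne_zero, zero_pow three_ne_zero]) <;> ring1),
        (by (try simp only [mul, ma1, ma2, ma4, ma8, mb8, na1, na2, nb2, na4, na6, na8, nb8, map_zero, map_one, mul_zero, zero_mul, mul_one, one_mul, add_zero, zero_add, one_pow, zero_pow two_ne_zero, zero_pow three_ne_zero]) <;> ring1),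
        (by (try simp only [mul, ma1, ma2, ma4, ma8, mb8, na1, na2, nb2, na4, na6, na8, nb8, map_zero, map_one, mul_zero, zero_mul, mul_one, one_mul, add_zero, zero_add, one_pow, zero_pow two_ne_zero, zero_pow three_ne_zero]) <;> ring1),
        (by (try simp only [mul, ma1, ma2, ma4, ma8, mb8, na1, na2, nb2, na4, na6, na8, nb8, map_zero, map_one, mul_zero, zero_mul, mul_one, one_mul, add_zero, zero_add, one_pow, zero_pow two_ne_zero, zero_pow three_ne_zero]) <;> ring1),
        (by (try simp only [mul, ma1, ma2, ma4, ma8, mb8, na1, na2, nb2, na4, na6, na8, nb8, map_zero, map_one, mul_zero, zero_mul, mul_one, one_mul, add_zero, zero_add, one_pow, zero_pow two_ne_zero, zero_pow three_ne_zero]) <;> ring1),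
        (by (try simp only [mul, ma1, ma2, ma4, ma8, mb8, na1, na2, nb2, na4, na6, na8, nb8, map_zero, map_one, mul_zero, zero_mul, mul_one, one_mul, add_zero, zero_add, one_pow, zero_pow two_ne_zero, zero_pow three_ne_zero]) <;> ring1),
        (by (try simp only [mul, ma1, ma2, ma4, ma8, mb8, na1, na2, nb2, na4, na6, na8, nb8, map_zero, map_one, mul_zero, zero_mul, mul_one, one_mul, add_zero, zero_add, one_pow, zero_pow two_ne_zero, zero_pow three_ne_zero]) <;> ring1),
        (by (try simp only [mul, ma1, ma2, ma4, ma8, mb8, na1, na2, nb2, na4, na6, na8, nb8, map_zero, map_one, mul_zero, zero_mul, mul_one, one_mul, add_zero, zero_add, one_pow, zero_pow two_ne_zero, zero_pow three_ne_zero]) <;> ring1),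
        (by (try simp only [mul, ma1, ma2, ma4, ma8, mb8, na1, na2, nb2, na4, na6, na8, nb8, map_zero, map_one, mul_zero, zero_mul, mul_one, one_mul, add_zero, zero_add, one_pow, zero_pow two_ne_zero, zero_pow three_ne_zero]) <;> ring1),
        (by (try simp only [mul, ma1, ma2, ma4, ma8, mb8, na1, na2, nb2, na4, na6, na8, nb8, map_zero, map_one, mul_zero, zero_mul, mul_one, one_mul, add_zero, zero_add, one_pow, zero_pow two_ne_zero, zero_pow three_ne_zero]) <;> ring1),
        (by (try simp only [mul, ma1, ma2, ma4, ma8, mb8, na1, na2, nb2, na4, na6, na8, nb8, map_zero, map_one, mul_zero, zero_mul, mul_one, one_mul, add_zero, zero_add, one_pow, zero_pow two_ne_zero, zero_pow three_ne_zero]) <;> ring1)⟩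
  · rintro ⟨h0, h⟩
    obtain ⟨ma1, ma2, ma8⟩ := pN_iff.1 h0
    simp only [zc] at ma1 ma2 ma8
    have mb8 : c.b8 = 0 := by
      obtain ⟨-, -, -, -, -, -, -, e, -, -, -⟩ := pZ_iff.1 (h ⟨0, 0, 0, 1, 0, 0, 0, 0, 0, 0, 0, 0⟩ rfl)
      simp only [mul, ma1, ma2, ma8, map_zero, map_one, mul_zero, zero_mul, mul_one, one_mul, add_zero, zero_add, one_pow, zero_pow two_ne_zero, zero_pow three_ne_zero] at e
      linear_combination -e
    have ma4 : c.a4 = 0 := by
      obtain ⟨-, -, -, -, -, -, -, e, -, -, -⟩ := pZ_iff.1 (h ⟨0, 0, 0, 0, 0, 0, 0, 0, 0, 1, 0, 0⟩ rfl)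
      simp only [mul, ma1, ma2, ma8, mb8, map_zero, map_one, mul_zero, zero_mul, mul_one, one_mul, add_zero, zero_add, one_pow, zero_pow two_ne_zero, zero_pow three_ne_zero] at e
      linear_combination e
    exact pF1_iff.2 ⟨ma1, ma2, ma4, ma8, mb8⟩

/-- `F0 = {x ∈ F1 | [E4, x] ≤ 1}` -/
theorem qb_F0 (c : Cd K) : (pF0 K) c = (pF0 K) zc ↔ (pF1 K) c = (pF1 K) zc ∧ ∀ d, (pE4 K) d = (pE4 K) zc →
    (fun c : Cd K => c) (mul σ d c) = (fun c : Cd K => c) (mul σ c d) := by
  constructor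
  · intro h
    obtain ⟨ma1, ma2, ma4, ma6, ma8, mb8⟩ := pF0_iff.1 h
    simp only [zc] at ma1 ma2 ma4 ma6 ma8 mb8
    refine ⟨?_, fun d hd => ?_⟩
    · exact pF1_iff.2 ⟨ma1, ma2, ma4, ma8, mb8⟩
    · obtain ⟨na1, na2, nb2, na4, na6, na7, na8, nb8⟩ := pE4_iff.1 hd
      simp only [zc] at na1 na2 nb2 na4 na6 na7 na8 nb8
      exact p1_iff.2 ⟨(by (try simp only [mul, ma1, ma2, ma4, ma6, ma8, mb8, na1, na2, nb2, na4, na6, na7, na8, nb8, map_zero, map_one, mul_zero, zero_mul, mul_one, one_mul, add_zero, zero_add, one_pow, zero_pow two_ne_zero, zero_pow three_ne_zero]) <;> ring1),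
        (by (try simp only [mul, ma1, ma2, ma4, ma6, ma8, mb8, na1, na2, nb2, na4, na6, na7, na8, nb8, map_zero, map_one, mul_zero, zero_mul, mul_one, one_mul, add_zero, zero_add, one_pow, zero_pow two_ne_zero, zero_pow three_ne_zero]) <;> ring1),
        (by (try simp only [mul, ma1, ma2, ma4, ma6, ma8, mb8, na1, na2, nb2, na4, na6, na7, na8, nb8, map_zero, map_one, mul_zero, zero_mul, mul_one, one_mul, add_zero, zero_add, one_pow, zero_pow two_ne_zero, zero_pow three_ne_zero]) <;> ring1),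
        (by (try simp only [mul, ma1, ma2, ma4, ma6, ma8, mb8, na1, na2, nb2, na4, na6, na7, na8, nb8, map_zero, map_one, mul_zero, zero_mul, mul_one, one_mul, add_zero, zero_add, one_pow, zero_pow two_ne_zero, zero_pow three_ne_zero]) <;> ring1),
        (by (try simp only [mul, ma1, ma2, ma4, ma6, ma8, mb8, na1, na2, nb2, na4, na6, na7, na8, nb8, map_zero, map_one, mul_zero, zero_mul, mul_one, one_mul, add_zero, zero_add, one_pow, zero_pow two_ne_zero, zero_pow three_ne_zero]) <;> ring1),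
        (by (try simp only [mul, ma1, ma2, ma4, ma6, ma8, mb8, na1, na2, nb2, na4, na6, na7, na8, nb8, map_zero, map_one, mul_zero, zero_mul, mul_one, one_mul, add_zero, zero_add, one_pow, zero_pow two_ne_zero, zero_pow three_ne_zero]) <;> ring1),
        (by (try simp only [mul, ma1, ma2, ma4, ma6, ma8, mb8, na1, na2, nb2, na4, na6, na7, na8, nb8, map_zero, map_one, mul_zero, zero_mul, mul_one, one_mul, add_zero, zero_add, one_pow, zero_pow two_ne_zero, zero_pow three_ne_zero]) <;> ring1),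
        (by (try simp only [mul, ma1, ma2, ma4, ma6, ma8, mb8, na1, na2, nb2, na4, na6, na7, na8, nb8, map_zero, map_one, mul_zero, zero_mul, mul_one, one_mul, add_zero, zero_add, one_pow, zero_pow two_ne_zero, zero_pow three_ne_zero]) <;> ring1),
        (by (try simp only [mul, ma1, ma2, ma4, ma6, ma8, mb8, na1, na2, nb2, na4, na6, na7, na8, nb8, map_zero, map_one, mul_zero, zero_mul, mul_one, one_mul, add_zero, zero_add, one_pow, zero_pow two_ne_zero, zero_pow three_ne_zero]) <;> ring1),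
        (by (try simp only [mul, ma1, ma2, ma4, ma6, ma8, mb8, na1, na2, nb2, na4, na6, na7, na8, nb8, map_zero, map_one, mul_zero, zero_mul, mul_one, one_mul, add_zero, zero_add, one_pow, zero_pow two_ne_zero, zero_pow three_ne_zero]) <;> ring1),
        (by (try simp only [mul, ma1, ma2, ma4, ma6, ma8, mb8, na1, na2, nb2, na4, na6, na7, na8, nb8, map_zero, map_one, mul_zero, zero_mul, mul_one, one_mul, add_zero, zero_add, one_pow, zero_pow two_ne_zero, zero_pow three_ne_zero]) <;> ring1),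
        (by (try simp only [mul, ma1, ma2, ma4, ma6, ma8, mb8, na1, na2, nb2, na4, na6, na7, na8, nb8, map_zero, map_one, mul_zero, zero_mul, mul_one, one_mul, add_zero, zero_add, one_pow, zero_pow two_ne_zero, zero_pow three_ne_zero]) <;> ring1)⟩
  · rintro ⟨h0, h⟩
    obtain ⟨ma1, ma2, ma4, ma8, mb8⟩ := pF1_iff.1 h0
    simp only [zc] at ma1 ma2 ma4 ma8 mb8
    have ma6 : c.a6 = 0 := by
      obtain ⟨-, -, -, -, -, e, -, -, -, -, -, -⟩ := p1_iff.1 (h ⟨0, 0, 0, 1, 0, 0, 0, 0, 0, 0, 0, 0⟩ rfl)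
      simp only [mul, ma1, ma2, ma4, ma8, mb8, map_zero, map_one, mul_zero, zero_mul, mul_one, one_mul, add_zero, zero_add, one_pow, zero_pow two_ne_zero, zero_pow three_ne_zero] at e
      linear_combination -e
    exact pF0_iff.2 ⟨ma1, ma2, ma4, ma6, ma8, mb8⟩

/-- `Z = {x ∈ Q | [Q, x] ≤ 1}` -/
theorem qa_Z (c : Cd K) : (pZ K) c = (pZ K) zc ↔ (pQ K) c = (pQ K) zc ∧ ∀ d, (pQ K) d = (pQ K) zc →
    (fun c : Cd K => c) (mul σ d c) = (fun c : Cd K => c) (mul σ c d) := by
  constructor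
  · intro h
    obtain ⟨ma1, ma2, mb2, ma3, ma4, ma5, ma6, mb6, ma7, ma8, mb8⟩ := pZ_iff.1 h
    simp only [zc] at ma1 ma2 mb2 ma3 ma4 ma5 ma6 mb6 ma7 ma8 mb8
    refine ⟨?_, fun d hd => ?_⟩
    · exact pQ_iff.2 ⟨ma8, mb8⟩
    · obtain ⟨na8, nb8⟩ := pQ_iff.1 hd
      simp only [zc] at na8 nb8
      exact p1_iff.2 ⟨(by (try simp only [mul, ma1, ma2, mb2, ma3, ma4, ma5, ma6, mb6, ma7, ma8, mb8, na8, nb8, map_zero, map_one, mul_zero, zero_mul, mul_one, one_mul, add_zero, zero_add, one_pow, zero_pow two_ne_zero, zero_pow three_ne_zero]) <;> ring1),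
        (by (try simp only [mul, ma1, ma2, mb2, ma3, ma4, ma5, ma6, mb6, ma7, ma8, mb8, na8, nb8, map_zero, map_one, mul_zero, zero_mul, mul_one, one_mul, add_zero, zero_add, one_pow, zero_pow two_ne_zero, zero_pow three_ne_zero]) <;> ring1),
        (by (try simp only [mul, ma1, ma2, mb2, ma3, ma4, ma5, ma6, mb6, ma7, ma8, mb8, na8, nb8, map_zero, map_one, mul_zero, zero_mul, mul_one, one_mul, add_zero, zero_add, one_pow, zero_pow two_ne_zero, zero_pow three_ne_zero]) <;> ring1),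
        (by (try simp only [mul, ma1, ma2, mb2, ma3, ma4, ma5, ma6, mb6, ma7, ma8, mb8, na8, nb8, map_zero, map_one, mul_zero, zero_mul, mul_one, one_mul, add_zero, zero_add, one_pow, zero_pow two_ne_zero, zero_pow three_ne_zero]) <;> ring1),
        (by (try simp only [mul, ma1, ma2, mb2, ma3, ma4, ma5, ma6, mb6, ma7, ma8, mb8, na8, nb8, map_zero, map_one, mul_zero, zero_mul, mul_one, one_mul, add_zero, zero_add, one_pow, zero_pow two_ne_zero, zero_pow three_ne_zero]) <;> ring1),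
        (by (try simp only [mul, ma1, ma2, mb2, ma3, ma4, ma5, ma6, mb6, ma7, ma8, mb8, na8, nb8, map_zero, map_one, mul_zero, zero_mul, mul_one, one_mul, add_zero, zero_add, one_pow, zero_pow two_ne_zero, zero_pow three_ne_zero]) <;> ring1),
        (by (try simp only [mul, ma1, ma2, mb2, ma3, ma4, ma5, ma6, mb6, ma7, ma8, mb8, na8, nb8, map_zero, map_one, mul_zero, zero_mul, mul_one, one_mul, add_zero, zero_add, one_pow, zero_pow two_ne_zero, zero_pow three_ne_zero]) <;> ring1),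
        (by (try simp only [mul, ma1, ma2, mb2, ma3, ma4, ma5, ma6, mb6, ma7, ma8, mb8, na8, nb8, map_zero, map_one, mul_zero, zero_mul, mul_one, one_mul, add_zero, zero_add, one_pow, zero_pow two_ne_zero, zero_pow three_ne_zero]) <;> ring1),
        (by (try simp only [mul, ma1, ma2, mb2, ma3, ma4, ma5, ma6, mb6, ma7, ma8, mb8, na8, nb8, map_zero, map_one, mul_zero, zero_mul, mul_one, one_mul, add_zero, zero_add, one_pow, zero_pow two_ne_zero, zero_pow three_ne_zero]) <;> ring1),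
        (by (try simp only [mul, ma1, ma2, mb2, ma3, ma4, ma5, ma6, mb6, ma7, ma8, mb8, na8, nb8, map_zero, map_one, mul_zero, zero_mul, mul_one, one_mul, add_zero, zero_add, one_pow, zero_pow two_ne_zero, zero_pow three_ne_zero]) <;> ring1),
        (by (try simp only [mul, ma1, ma2, mb2, ma3, ma4, ma5, ma6, mb6, ma7, ma8, mb8, na8, nb8, map_zero, map_one, mul_zero, zero_mul, mul_one, one_mul, add_zero, zero_add, one_pow, zero_pow two_ne_zero, zero_pow three_ne_zero]) <;> ring1),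
        (by (try simp only [mul, ma1, ma2, mb2, ma3, ma4, ma5, ma6, mb6, ma7, ma8, mb8, na8, nb8, map_zero, map_one, mul_zero, zero_mul, mul_one, one_mul, add_zero, zero_add, one_pow, zero_pow two_ne_zero, zero_pow three_ne_zero]) <;> ring1)⟩
  · rintro ⟨h0, h⟩
    obtain ⟨ma8, mb8⟩ := pQ_iff.1 h0
    simp only [zc] at ma8 mb8
    have ma7 : c.a7 = 0 := by
      obtain ⟨-, -, -, -, -, -, e, -, -, -, -, -⟩ := p1_iff.1 (h ⟨1, 0, 0, 0, 0, 0, 0, 0, 0, 0, 0, 0⟩ rfl)
      simp only [mul, ma8, mb8, map_zero, map_one, mul_zero, zero_mul, mul_one, one_mul, add_zero, zero_add, one_pow, zero_pow two_ne_zero, zero_pow three_ne_zero] at e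
      exact (map_eq_zero σ).1 (by linear_combination -e)
    have ma6 : c.a6 = 0 := by
      obtain ⟨-, -, -, e, -, -, -, -, -, -, -, -⟩ := p1_iff.1 (h ⟨1, 0, 0, 0, 0, 0, 0, 0, 0, 0, 0, 0⟩ rfl)
      simp only [mul, ma8, mb8, ma7, map_zero, map_one, mul_zero, zero_mul, mul_one, one_mul, add_zero, zero_add, one_pow, zero_pow two_ne_zero, zero_pow three_ne_zero] at e
      exact (map_eq_zero σ).1 (by linear_combination -e)
    have ma4 : c.a4 = 0 := by
      obtain ⟨-, -, e, -, -, -, -, -, -, -, -, -⟩ := p1_iff.1 (h ⟨1, 0, 0, 0, 0, 0, 0, 0, 0, 0, 0, 0⟩ rfl)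
      simp only [mul, ma8, mb8, ma7, ma6, map_zero, map_one, mul_zero, zero_mul, mul_one, one_mul, add_zero, zero_add, one_pow, zero_pow two_ne_zero, zero_pow three_ne_zero] at e
      linear_combination -e
    have mb6 : c.b6 = 0 := by
      obtain ⟨-, -, -, -, -, e, -, -, -, -, -, -⟩ := p1_iff.1 (h ⟨1, 0, 0, 0, 0, 0, 0, 0, 0, 0, 0, 0⟩ rfl)
      simp only [mul, ma8, mb8, ma7, ma6, ma4, map_zero, map_one, mul_zero, zero_mul, mul_one, one_mul, add_zero, zero_add, one_pow, zero_pow two_ne_zero, zero_pow three_ne_zero] at e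
      linear_combination -e
    have ma5 : c.a5 = 0 := by
      obtain ⟨-, -, -, -, -, e, -, -, -, -, -, -⟩ := p1_iff.1 (h ⟨0, 1, 0, 0, 0, 0, 0, 0, 0, 0, 0, 0⟩ rfl)
      simp only [mul, ma8, mb8, ma7, ma6, ma4, mb6, map_zero, map_one, mul_zero, zero_mul, mul_one, one_mul, add_zero, zero_add, one_pow, zero_pow two_ne_zero, zero_pow three_ne_zero] at e
      linear_combination -e
    have ma1 : c.a1 = 0 := by
      obtain ⟨-, -, e, -, -, -, -, -, -, -, -, -⟩ := p1_iff.1 (h ⟨0, 0, 0, 0, 1, 0, 0, 0, 0, 0, 0, 0⟩ rfl)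
      simp only [mul, ma8, mb8, ma7, ma6, ma4, mb6, ma5, map_zero, map_one, mul_zero, zero_mul, mul_one, one_mul, add_zero, zero_add, one_pow, zero_pow two_ne_zero, zero_pow three_ne_zero] at e
      linear_combination e
    have ma2 : c.a2 = 0 := by
      obtain ⟨-, -, -, e, -, -, -, -, -, -, -, -⟩ := p1_iff.1 (h ⟨0, 0, 0, 0, 1, 0, 0, 0, 0, 0, 0, 0⟩ rfl)
      simp only [mul, ma8, mb8, ma7, ma6, ma4, mb6, ma5, ma1, map_zero, map_one, mul_zero, zero_mul, mul_one, one_mul, add_zero, zero_add, one_pow, zero_pow two_ne_zero, zero_pow three_ne_zero] at e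
      linear_combination e
    have ma3 : c.a3 = 0 := by
      obtain ⟨-, -, -, -, -, e, -, -, -, -, -, -⟩ := p1_iff.1 (h ⟨0, 0, 0, 0, 0, 0, 0, 1, 0, 0, 0, 0⟩ rfl)
      simp only [mul, ma8, mb8, ma7, ma6, ma4, mb6, ma5, ma1, ma2, map_zero, map_one, mul_zero, zero_mul, mul_one, one_mul, add_zero, zero_add, one_pow, zero_pow two_ne_zero, zero_pow three_ne_zero] at e
      linear_combination e
    have mb2 : c.b2 = 0 := by
      obtain ⟨-, -, -, -, -, e, -, -, -, -, -, -⟩ := p1_iff.1 (h ⟨0, 0, 0, 0, 0, 0, 0, 0, 0, 1, 0, 0⟩ rfl)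
      simp only [mul, ma8, mb8, ma7, ma6, ma4, mb6, ma5, ma1, ma2, ma3, map_zero, map_one, mul_zero, zero_mul, mul_one, one_mul, add_zero, zero_add, one_pow, zero_pow two_ne_zero, zero_pow three_ne_zero] at e
      linear_combination e
    exact pZ_iff.2 ⟨ma1, ma2, mb2, ma3, ma4, ma5, ma6, mb6, ma7, ma8, mb8⟩

/-- `E = {x ∈ Q | [Q, x] ≤ Z}` -/
theorem qa_E (c : Cd K) : (pE K) c = (pE K) zc ↔ (pQ K) c = (pQ K) zc ∧ ∀ d, (pQ K) d = (pQ K) zc →
    (pZ K) (mul σ d c) = (pZ K) (mul σ c d) := by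
  constructor
  · intro h
    obtain ⟨ma1, ma2, ma4, ma6, ma7, ma8, mb8⟩ := pE_iff.1 h
    simp only [zc] at ma1 ma2 ma4 ma6 ma7 ma8 mb8
    refine ⟨?_, fun d hd => ?_⟩
    · exact pQ_iff.2 ⟨ma8, mb8⟩
    · obtain ⟨na8, nb8⟩ := pQ_iff.1 hd
      simp only [zc] at na8 nb8
      exact pZ_iff.2 ⟨(by (try simp only [mul, ma1, ma2, ma4, ma6, ma7, ma8, mb8, na8, nb8, map_zero, map_one, mul_zero, zero_mul, mul_one, one_mul, add_zero, zero_add, one_pow, zero_pow two_ne_zero, zero_pow three_ne_zero]) <;> ring1),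
        (by (try simp only [mul, ma1, ma2, ma4, ma6, ma7, ma8, mb8, na8, nb8, map_zero, map_one, mul_zero, zero_mul, mul_one, one_mul, add_zero, zero_add, one_pow, zero_pow two_ne_zero, zero_pow three_ne_zero]) <;> ring1),
        (by (try simp only [mul, ma1, ma2, ma4, ma6, ma7, ma8, mb8, na8, nb8, map_zero, map_one, mul_zero, zero_mul, mul_one, one_mul, add_zero, zero_add, one_pow, zero_pow two_ne_zero, zero_pow three_ne_zero]) <;> ring1),
        (by (try simp only [mul, ma1, ma2, ma4, ma6, ma7, ma8, mb8, na8, nb8, map_zero, map_one, mul_zero, zero_mul, mul_one, one_mul, add_zero, zero_add, one_pow, zero_pow two_ne_zero, zero_pow three_ne_zero]) <;> ring1),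
        (by (try simp only [mul, ma1, ma2, ma4, ma6, ma7, ma8, mb8, na8, nb8, map_zero, map_one, mul_zero, zero_mul, mul_one, one_mul, add_zero, zero_add, one_pow, zero_pow two_ne_zero, zero_pow three_ne_zero]) <;> ring1),
        (by (try simp only [mul, ma1, ma2, ma4, ma6, ma7, ma8, mb8, na8, nb8, map_zero, map_one, mul_zero, zero_mul, mul_one, one_mul, add_zero, zero_add, one_pow, zero_pow two_ne_zero, zero_pow three_ne_zero]) <;> ring1),
        (by (try simp only [mul, ma1, ma2, ma4, ma6, ma7, ma8, mb8, na8, nb8, map_zero, map_one, mul_zero, zero_mul, mul_one, one_mul, add_zero, zero_add, one_pow, zero_pow two_ne_zero, zero_pow three_ne_zero]) <;> ring1),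
        (by (try simp only [mul, ma1, ma2, ma4, ma6, ma7, ma8, mb8, na8, nb8, map_zero, map_one, mul_zero, zero_mul, mul_one, one_mul, add_zero, zero_add, one_pow, zero_pow two_ne_zero, zero_pow three_ne_zero]) <;> ring1),
        (by (try simp only [mul, ma1, ma2, ma4, ma6, ma7, ma8, mb8, na8, nb8, map_zero, map_one, mul_zero, zero_mul, mul_one, one_mul, add_zero, zero_add, one_pow, zero_pow two_ne_zero, zero_pow three_ne_zero]) <;> ring1),
        (by (try simp only [mul, ma1, ma2, ma4, ma6, ma7, ma8, mb8, na8, nb8, map_zero, map_one, mul_zero, zero_mul, mul_one, one_mul, add_zero, zero_add, one_pow, zero_pow two_ne_zero, zero_pow three_ne_zero]) <;> ring1),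
        (by (try simp only [mul, ma1, ma2, ma4, ma6, ma7, ma8, mb8, na8, nb8, map_zero, map_one, mul_zero, zero_mul, mul_one, one_mul, add_zero, zero_add, one_pow, zero_pow two_ne_zero, zero_pow three_ne_zero]) <;> ring1)⟩
  · rintro ⟨h0, h⟩
    obtain ⟨ma8, mb8⟩ := pQ_iff.1 h0
    simp only [zc] at ma8 mb8
    have ma7 : c.a7 = 0 := by
      obtain ⟨-, -, -, -, -, e, -, -, -, -, -⟩ := pZ_iff.1 (h ⟨1, 0, 0, 0, 0, 0, 0, 0, 0, 0, 0, 0⟩ rfl)
      simp only [mul, ma8, mb8, map_zero, map_one, mul_zero, zero_mul, mul_one, one_mul, add_zero, zero_add, one_pow, zero_pow two_ne_zero, zero_pow three_ne_zero] at e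
      exact (map_eq_zero σ).1 (by linear_combination -e)
    have ma6 : c.a6 = 0 := by
      obtain ⟨-, -, -, e, -, -, -, -, -, -, -⟩ := pZ_iff.1 (h ⟨1, 0, 0, 0, 0, 0, 0, 0, 0, 0, 0, 0⟩ rfl)
      simp only [mul, ma8, mb8, ma7, map_zero, map_one, mul_zero, zero_mul, mul_one, one_mul, add_zero, zero_add, one_pow, zero_pow two_ne_zero, zero_pow three_ne_zero] at e
      exact (map_eq_zero σ).1 (by linear_combination -e)
    have ma4 : c.a4 = 0 := by
      obtain ⟨-, -, e, -, -, -, -, -, -, -, -⟩ := pZ_iff.1 (h ⟨1, 0, 0, 0, 0, 0, 0, 0, 0, 0, 0, 0⟩ rfl)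
      simp only [mul, ma8, mb8, ma7, ma6, map_zero, map_one, mul_zero, zero_mul, mul_one, one_mul, add_zero, zero_add, one_pow, zero_pow two_ne_zero, zero_pow three_ne_zero] at e
      linear_combination -e
    have ma1 : c.a1 = 0 := by
      obtain ⟨-, -, e, -, -, -, -, -, -, -, -⟩ := pZ_iff.1 (h ⟨0, 0, 0, 0, 1, 0, 0, 0, 0, 0, 0, 0⟩ rfl)
      simp only [mul, ma8, mb8, ma7, ma6, ma4, map_zero, map_one, mul_zero, zero_mul, mul_one, one_mul, add_zero, zero_add, one_pow, zero_pow two_ne_zero, zero_pow three_ne_zero] at e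
      linear_combination e
    have ma2 : c.a2 = 0 := by
      obtain ⟨-, -, -, e, -, -, -, -, -, -, -⟩ := pZ_iff.1 (h ⟨0, 0, 0, 0, 1, 0, 0, 0, 0, 0, 0, 0⟩ rfl)
      simp only [mul, ma8, mb8, ma7, ma6, ma4, ma1, map_zero, map_one, mul_zero, zero_mul, mul_one, one_mul, add_zero, zero_add, one_pow, zero_pow two_ne_zero, zero_pow three_ne_zero] at e
      linear_combination e
    exact pE_iff.2 ⟨ma1, ma2, ma4, ma6, ma7, ma8, mb8⟩

/-- `D = {x ∈ Q | [E, x] ≤ 1}` -/
theorem qa_D (c : Cd K) : (pD K) c = (pD K) zc ↔ (pQ K) c = (pQ K) zc ∧ ∀ d, (pE K) d = (pE K) zc →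
    (fun c : Cd K => c) (mul σ d c) = (fun c : Cd K => c) (mul σ c d) := by
  constructor
  · intro h
    obtain ⟨ma1, ma2, ma6, ma7, ma8, mb8⟩ := pD_iff.1 h
    simp only [zc] at ma1 ma2 ma6 ma7 ma8 mb8
    refine ⟨?_, fun d hd => ?_⟩
    · exact pQ_iff.2 ⟨ma8, mb8⟩
    · obtain ⟨na1, na2, na4, na6, na7, na8, nb8⟩ := pE_iff.1 hd
      simp only [zc] at na1 na2 na4 na6 na7 na8 nb8
      exact p1_iff.2 ⟨(by (try simp only [mul, ma1, ma2, ma6, ma7, ma8, mb8, na1, na2, na4, na6, na7, na8, nb8, map_zero, map_one, mul_zero, zero_mul, mul_one, one_mul, add_zero, zero_add, one_pow, zero_pow two_ne_zero, zero_pow three_ne_zero]) <;> ring1),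
        (by (try simp only [mul, ma1, ma2, ma6, ma7, ma8, mb8, na1, na2, na4, na6, na7, na8, nb8, map_zero, map_one, mul_zero, zero_mul, mul_one, one_mul, add_zero, zero_add, one_pow, zero_pow two_ne_zero, zero_pow three_ne_zero]) <;> ring1),
        (by (try simp only [mul, ma1, ma2, ma6, ma7, ma8, mb8, na1, na2, na4, na6, na7, na8, nb8, map_zero, map_one, mul_zero, zero_mul, mul_one, one_mul, add_zero, zero_add, one_pow, zero_pow two_ne_zero, zero_pow three_ne_zero]) <;> ring1),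
        (by (try simp only [mul, ma1, ma2, ma6, ma7, ma8, mb8, na1, na2, na4, na6, na7, na8, nb8, map_zero, map_one, mul_zero, zero_mul, mul_one, one_mul, add_zero, zero_add, one_pow, zero_pow two_ne_zero, zero_pow three_ne_zero]) <;> ring1),
        (by (try simp only [mul, ma1, ma2, ma6, ma7, ma8, mb8, na1, na2, na4, na6, na7, na8, nb8, map_zero, map_one, mul_zero, zero_mul, mul_one, one_mul, add_zero, zero_add, one_pow, zero_pow two_ne_zero, zero_pow three_ne_zero]) <;> ring1),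
        (by (try simp only [mul, ma1, ma2, ma6, ma7, ma8, mb8, na1, na2, na4, na6, na7, na8, nb8, map_zero, map_one, mul_zero, zero_mul, mul_one, one_mul, add_zero, zero_add, one_pow, zero_pow two_ne_zero, zero_pow three_ne_zero]) <;> ring1),
        (by (try simp only [mul, ma1, ma2, ma6, ma7, ma8, mb8, na1, na2, na4, na6, na7, na8, nb8, map_zero, map_one, mul_zero, zero_mul, mul_one, one_mul, add_zero, zero_add, one_pow, zero_pow two_ne_zero, zero_pow three_ne_zero]) <;> ring1),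
        (by (try simp only [mul, ma1, ma2, ma6, ma7, ma8, mb8, na1, na2, na4, na6, na7, na8, nb8, map_zero, map_one, mul_zero, zero_mul, mul_one, one_mul, add_zero, zero_add, one_pow, zero_pow two_ne_zero, zero_pow three_ne_zero]) <;> ring1),
        (by (try simp only [mul, ma1, ma2, ma6, ma7, ma8, mb8, na1, na2, na4, na6, na7, na8, nb8, map_zero, map_one, mul_zero, zero_mul, mul_one, one_mul, add_zero, zero_add, one_pow, zero_pow two_ne_zero, zero_pow three_ne_zero]) <;> ring1),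
        (by (try simp only [mul, ma1, ma2, ma6, ma7, ma8, mb8, na1, na2, na4, na6, na7, na8, nb8, map_zero, map_one, mul_zero, zero_mul, mul_one, one_mul, add_zero, zero_add, one_pow, zero_pow two_ne_zero, zero_pow three_ne_zero]) <;> ring1),
        (by (try simp only [mul, ma1, ma2, ma6, ma7, ma8, mb8, na1, na2, na4, na6, na7, na8, nb8, map_zero, map_one, mul_zero, zero_mul, mul_one, one_mul, add_zero, zero_add, one_pow, zero_pow two_ne_zero, zero_pow three_ne_zero]) <;> ring1),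
        (by (try simp only [mul, ma1, ma2, ma6, ma7, ma8, mb8, na1, na2, na4, na6, na7, na8, nb8, map_zero, map_one, mul_zero, zero_mul, mul_one, one_mul, add_zero, zero_add, one_pow, zero_pow two_ne_zero, zero_pow three_ne_zero]) <;> ring1)⟩
  · rintro ⟨h0, h⟩
    obtain ⟨ma8, mb8⟩ := pQ_iff.1 h0
    simp only [zc] at ma8 mb8
    have ma7 : c.a7 = 0 := by
      obtain ⟨-, -, -, -, -, e, -, -, -, -, -, -⟩ := p1_iff.1 (h ⟨0, 0, 1, 0, 0, 0, 0, 0, 0, 0, 0, 0⟩ rfl)
      simp only [mul, ma8, mb8, map_zero, map_one, mul_zero, zero_mul, mul_one, one_mul, add_zero, zero_add, one_pow, zero_pow two_ne_zero, zero_pow three_ne_zero] at e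
      linear_combination -e
    have ma6 : c.a6 = 0 := by
      obtain ⟨-, -, -, -, -, e, -, -, -, -, -, -⟩ := p1_iff.1 (h ⟨0, 0, 0, 1, 0, 0, 0, 0, 0, 0, 0, 0⟩ rfl)
      simp only [mul, ma8, mb8, ma7, map_zero, map_one, mul_zero, zero_mul, mul_one, one_mul, add_zero, zero_add, one_pow, zero_pow two_ne_zero, zero_pow three_ne_zero] at e
      linear_combination -e
    have ma2 : c.a2 = 0 := by
      obtain ⟨-, -, -, -, -, e, -, -, -, -, -, -⟩ := p1_iff.1 (h ⟨0, 0, 0, 0, 0, 0, 1, 0, 0, 0, 0, 0⟩ rfl)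
      simp only [mul, ma8, mb8, ma7, ma6, map_zero, map_one, mul_zero, zero_mul, mul_one, one_mul, add_zero, zero_add, one_pow, zero_pow two_ne_zero, zero_pow three_ne_zero] at e
      linear_combination e
    have ma1 : c.a1 = 0 := by
      obtain ⟨-, -, -, -, -, e, -, -, -, -, -, -⟩ := p1_iff.1 (h ⟨0, 0, 0, 0, 0, 0, 0, 0, 1, 0, 0, 0⟩ rfl)
      simp only [mul, ma8, mb8, ma7, ma6, ma2, map_zero, map_one, mul_zero, zero_mul, mul_one, one_mul, add_zero, zero_add, one_pow, zero_pow two_ne_zero, zero_pow three_ne_zero] at e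
      linear_combination e
    exact pD_iff.2 ⟨ma1, ma2, ma6, ma7, ma8, mb8⟩

/-- `F = {x ∈ Q | [Y, x] ≤ 1}` -/
theorem qa_F (c : Cd K) : (pF K) c = (pF K) zc ↔ (pQ K) c = (pQ K) zc ∧ ∀ d, (pY K) d = (pY K) zc →
    (fun c : Cd K => c) (mul σ d c) = (fun c : Cd K => c) (mul σ c d) := by
  constructor
  · intro h
    obtain ⟨ma1, ma2, ma8, mb8⟩ := pF_iff.1 h
    simp only [zc] at ma1 ma2 ma8 mb8
    refine ⟨?_, fun d hd => ?_⟩
    · exact pQ_iff.2 ⟨ma8, mb8⟩
    · obtain ⟨na1, na2, nb2, na3, na4, na6, na7, na8, nb8⟩ := pY_iff.1 hd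
      simp only [zc] at na1 na2 nb2 na3 na4 na6 na7 na8 nb8
      exact p1_iff.2 ⟨(by (try simp only [mul, ma1, ma2, ma8, mb8, na1, na2, nb2, na3, na4, na6, na7, na8, nb8, map_zero, map_one, mul_zero, zero_mul, mul_one, one_mul, add_zero, zero_add, one_pow, zero_pow two_ne_zero, zero_pow three_ne_zero]) <;> ring1),
        (by (try simp only [mul, ma1, ma2, ma8, mb8, na1, na2, nb2, na3, na4, na6, na7, na8, nb8, map_zero, map_one, mul_zero, zero_mul, mul_one, one_mul, add_zero, zero_add, one_pow, zero_pow two_ne_zero, zero_pow three_ne_zero]) <;> ring1),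
        (by (try simp only [mul, ma1, ma2, ma8, mb8, na1, na2, nb2, na3, na4, na6, na7, na8, nb8, map_zero, map_one, mul_zero, zero_mul, mul_one, one_mul, add_zero, zero_add, one_pow, zero_pow two_ne_zero, zero_pow three_ne_zero]) <;> ring1),
        (by (try simp only [mul, ma1, ma2, ma8, mb8, na1, na2, nb2, na3, na4, na6, na7, na8, nb8, map_zero, map_one, mul_zero, zero_mul, mul_one, one_mul, add_zero, zero_add, one_pow, zero_pow two_ne_zero, zero_pow three_ne_zero]) <;> ring1),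
        (by (try simp only [mul, ma1, ma2, ma8, mb8, na1, na2, nb2, na3, na4, na6, na7, na8, nb8, map_zero, map_one, mul_zero, zero_mul, mul_one, one_mul, add_zero, zero_add, one_pow, zero_pow two_ne_zero, zero_pow three_ne_zero]) <;> ring1),
        (by (try simp only [mul, ma1, ma2, ma8, mb8, na1, na2, nb2, na3, na4, na6, na7, na8, nb8, map_zero, map_one, mul_zero, zero_mul, mul_one, one_mul, add_zero, zero_add, one_pow, zero_pow two_ne_zero, zero_pow three_ne_zero]) <;> ring1),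
        (by (try simp only [mul, ma1, ma2, ma8, mb8, na1, na2, nb2, na3, na4, na6, na7, na8, nb8, map_zero, map_one, mul_zero, zero_mul, mul_one, one_mul, add_zero, zero_add, one_pow, zero_pow two_ne_zero, zero_pow three_ne_zero]) <;> ring1),
        (by (try simp only [mul, ma1, ma2, ma8, mb8, na1, na2, nb2, na3, na4, na6, na7, na8, nb8, map_zero, map_one, mul_zero, zero_mul, mul_one, one_mul, add_zero, zero_add, one_pow, zero_pow two_ne_zero, zero_pow three_ne_zero]) <;> ring1),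
        (by (try simp only [mul, ma1, ma2, ma8, mb8, na1, na2, nb2, na3, na4, na6, na7, na8, nb8, map_zero, map_one, mul_zero, zero_mul, mul_one, one_mul, add_zero, zero_add, one_pow, zero_pow two_ne_zero, zero_pow three_ne_zero]) <;> ring1),
        (by (try simp only [mul, ma1, ma2, ma8, mb8, na1, na2, nb2, na3, na4, na6, na7, na8, nb8, map_zero, map_one, mul_zero, zero_mul, mul_one, one_mul, add_zero, zero_add, one_pow, zero_pow two_ne_zero, zero_pow three_ne_zero]) <;> ring1),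
        (by (try simp only [mul, ma1, ma2, ma8, mb8, na1, na2, nb2, na3, na4, na6, na7, na8, nb8, map_zero, map_one, mul_zero, zero_mul, mul_one, one_mul, add_zero, zero_add, one_pow, zero_pow two_ne_zero, zero_pow three_ne_zero]) <;> ring1),
        (by (try simp only [mul, ma1, ma2, ma8, mb8, na1, na2, nb2, na3, na4, na6, na7, na8, nb8, map_zero, map_one, mul_zero, zero_mul, mul_one, one_mul, add_zero, zero_add, one_pow, zero_pow two_ne_zero, zero_pow three_ne_zero]) <;> ring1)⟩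
  · rintro ⟨h0, h⟩
    obtain ⟨ma8, mb8⟩ := pQ_iff.1 h0
    simp only [zc] at ma8 mb8
    have ma2 : c.a2 = 0 := by
      obtain ⟨-, -, -, -, -, e, -, -, -, -, -, -⟩ := p1_iff.1 (h ⟨0, 0, 0, 0, 0, 0, 1, 0, 0, 0, 0, 0⟩ rfl)
      simp only [mul, ma8, mb8, map_zero, map_one, mul_zero, zero_mul, mul_one, one_mul, add_zero, zero_add, one_pow, zero_pow two_ne_zero, zero_pow three_ne_zero] at e
      linear_combination e
    have ma1 : c.a1 = 0 := by
      obtain ⟨-, -, -, -, -, e, -, -, -, -, -, -⟩ := p1_iff.1 (h ⟨0, 0, 0, 0, 0, 0, 0, 0, 1, 0, 0, 0⟩ rfl)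
      simp only [mul, ma8, mb8, ma2, map_zero, map_one, mul_zero, zero_mul, mul_one, one_mul, add_zero, zero_add, one_pow, zero_pow two_ne_zero, zero_pow three_ne_zero] at e
      linear_combination e
    exact pF_iff.2 ⟨ma1, ma2, ma8, mb8⟩

/-- `2 = {x ∈ Q | [V, x] ≤ 1}` -/
theorem qa_2 (c : Cd K) : (p2 K) c = (p2 K) zc ↔ (pQ K) c = (pQ K) zc ∧ ∀ d, (pV K) d = (pV K) zc →
    (fun c : Cd K => c) (mul σ d c) = (fun c : Cd K => c) (mul σ c d) := by
  constructor
  · intro h
    obtain ⟨ma1, ma8, mb8⟩ := p2_iff.1 h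
    simp only [zc] at ma1 ma8 mb8
    refine ⟨?_, fun d hd => ?_⟩
    · exact pQ_iff.2 ⟨ma8, mb8⟩
    · obtain ⟨na1, na2, nb2, na3, na4, na5, na6, na7, na8, nb8⟩ := pV_iff.1 hd
      simp only [zc] at na1 na2 nb2 na3 na4 na5 na6 na7 na8 nb8
      exact p1_iff.2 ⟨(by (try simp only [mul, ma1, ma8, mb8, na1, na2, nb2, na3, na4, na5, na6, na7, na8, nb8, map_zero, map_one, mul_zero, zero_mul, mul_one, one_mul, add_zero, zero_add, one_pow, zero_pow two_ne_zero, zero_pow three_ne_zero]) <;> ring1),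
        (by (try simp only [mul, ma1, ma8, mb8, na1, na2, nb2, na3, na4, na5, na6, na7, na8, nb8, map_zero, map_one, mul_zero, zero_mul, mul_one, one_mul, add_zero, zero_add, one_pow, zero_pow two_ne_zero, zero_pow three_ne_zero]) <;> ring1),
        (by (try simp only [mul, ma1, ma8, mb8, na1, na2, nb2, na3, na4, na5, na6, na7, na8, nb8, map_zero, map_one, mul_zero, zero_mul, mul_one, one_mul, add_zero, zero_add, one_pow, zero_pow two_ne_zero, zero_pow three_ne_zero]) <;> ring1),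
        (by (try simp only [mul, ma1, ma8, mb8, na1, na2, nb2, na3, na4, na5, na6, na7, na8, nb8, map_zero, map_one, mul_zero, zero_mul, mul_one, one_mul, add_zero, zero_add, one_pow, zero_pow two_ne_zero, zero_pow three_ne_zero]) <;> ring1),
        (by (try simp only [mul, ma1, ma8, mb8, na1, na2, nb2, na3, na4, na5, na6, na7, na8, nb8, map_zero, map_one, mul_zero, zero_mul, mul_one, one_mul, add_zero, zero_add, one_pow, zero_pow two_ne_zero, zero_pow three_ne_zero]) <;> ring1),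
        (by (try simp only [mul, ma1, ma8, mb8, na1, na2, nb2, na3, na4, na5, na6, na7, na8, nb8, map_zero, map_one, mul_zero, zero_mul, mul_one, one_mul, add_zero, zero_add, one_pow, zero_pow two_ne_zero, zero_pow three_ne_zero]) <;> ring1),
        (by (try simp only [mul, ma1, ma8, mb8, na1, na2, nb2, na3, na4, na5, na6, na7, na8, nb8, map_zero, map_one, mul_zero, zero_mul, mul_one, one_mul, add_zero, zero_add, one_pow, zero_pow two_ne_zero, zero_pow three_ne_zero]) <;> ring1),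
        (by (try simp only [mul, ma1, ma8, mb8, na1, na2, nb2, na3, na4, na5, na6, na7, na8, nb8, map_zero, map_one, mul_zero, zero_mul, mul_one, one_mul, add_zero, zero_add, one_pow, zero_pow two_ne_zero, zero_pow three_ne_zero]) <;> ring1),
        (by (try simp only [mul, ma1, ma8, mb8, na1, na2, nb2, na3, na4, na5, na6, na7, na8, nb8, map_zero, map_one, mul_zero, zero_mul, mul_one, one_mul, add_zero, zero_add, one_pow, zero_pow two_ne_zero, zero_pow three_ne_zero]) <;> ring1),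
        (by (try simp only [mul, ma1, ma8, mb8, na1, na2, nb2, na3, na4, na5, na6, na7, na8, nb8, map_zero, map_one, mul_zero, zero_mul, mul_one, one_mul, add_zero, zero_add, one_pow, zero_pow two_ne_zero, zero_pow three_ne_zero]) <;> ring1),
        (by (try simp only [mul, ma1, ma8, mb8, na1, na2, nb2, na3, na4, na5, na6, na7, na8, nb8, map_zero, map_one, mul_zero, zero_mul, mul_one, one_mul, add_zero, zero_add, one_pow, zero_pow two_ne_zero, zero_pow three_ne_zero]) <;> ring1),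
        (by (try simp only [mul, ma1, ma8, mb8, na1, na2, nb2, na3, na4, na5, na6, na7, na8, nb8, map_zero, map_one, mul_zero, zero_mul, mul_one, one_mul, add_zero, zero_add, one_pow, zero_pow two_ne_zero, zero_pow three_ne_zero]) <;> ring1)⟩
  · rintro ⟨h0, h⟩
    obtain ⟨ma8, mb8⟩ := pQ_iff.1 h0
    simp only [zc] at ma8 mb8
    have ma1 : c.a1 = 0 := by
      obtain ⟨-, -, -, -, -, e, -, -, -, -, -, -⟩ := p1_iff.1 (h ⟨0, 0, 0, 0, 0, 0, 0, 0, 1, 0, 0, 0⟩ rfl)
      simp only [mul, ma8, mb8, map_zero, map_one, mul_zero, zero_mul, mul_one, one_mul, add_zero, zero_add, one_pow, zero_pow two_ne_zero, zero_pow three_ne_zero] at e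
      linear_combination e
    exact p2_iff.2 ⟨ma1, ma8, mb8⟩

/-- `7 = {x ∈ Q | [D, x] ≤ V}` -/
theorem qa_7 (c : Cd K) : (p7 K) c = (p7 K) zc ↔ (pQ K) c = (pQ K) zc ∧ ∀ d, (pD K) d = (pD K) zc →
    (pV K) (mul σ d c) = (pV K) (mul σ c d) := by
  constructor
  · intro h
    obtain ⟨ma1, ma2, ma6, ma8, mb8⟩ := p7_iff.1 h
    simp only [zc] at ma1 ma2 ma6 ma8 mb8
    refine ⟨?_, fun d hd => ?_⟩
    · exact pQ_iff.2 ⟨ma8, mb8⟩
    · obtain ⟨na1, na2, na6, na7, na8, nb8⟩ := pD_iff.1 hd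
      simp only [zc] at na1 na2 na6 na7 na8 nb8
      exact pV_iff.2 ⟨(by (try simp only [mul, ma1, ma2, ma6, ma8, mb8, na1, na2, na6, na7, na8, nb8, map_zero, map_one, mul_zero, zero_mul, mul_one, one_mul, add_zero, zero_add, one_pow, zero_pow two_ne_zero, zero_pow three_ne_zero]) <;> ring1),
        (by (try simp only [mul, ma1, ma2, ma6, ma8, mb8, na1, na2, na6, na7, na8, nb8, map_zero, map_one, mul_zero, zero_mul, mul_one, one_mul, add_zero, zero_add, one_pow, zero_pow two_ne_zero, zero_pow three_ne_zero]) <;> ring1),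
        (by (try simp only [mul, ma1, ma2, ma6, ma8, mb8, na1, na2, na6, na7, na8, nb8, map_zero, map_one, mul_zero, zero_mul, mul_one, one_mul, add_zero, zero_add, one_pow, zero_pow two_ne_zero, zero_pow three_ne_zero]) <;> ring1),
        (by (try simp only [mul, ma1, ma2, ma6, ma8, mb8, na1, na2, na6, na7, na8, nb8, map_zero, map_one, mul_zero, zero_mul, mul_one, one_mul, add_zero, zero_add, one_pow, zero_pow two_ne_zero, zero_pow three_ne_zero]) <;> ring1),
        (by (try simp only [mul, ma1, ma2, ma6, ma8, mb8, na1, na2, na6, na7, na8, nb8, map_zero, map_one, mul_zero, zero_mul, mul_one, one_mul, add_zero, zero_add, one_pow, zero_pow two_ne_zero, zero_pow three_ne_zero]) <;> ring1),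
        (by (try simp only [mul, ma1, ma2, ma6, ma8, mb8, na1, na2, na6, na7, na8, nb8, map_zero, map_one, mul_zero, zero_mul, mul_one, one_mul, add_zero, zero_add, one_pow, zero_pow two_ne_zero, zero_pow three_ne_zero]) <;> ring1),
        (by (try simp only [mul, ma1, ma2, ma6, ma8, mb8, na1, na2, na6, na7, na8, nb8, map_zero, map_one, mul_zero, zero_mul, mul_one, one_mul, add_zero, zero_add, one_pow, zero_pow two_ne_zero, zero_pow three_ne_zero]) <;> ring1),
        (by (try simp only [mul, ma1, ma2, ma6, ma8, mb8, na1, na2, na6, na7, na8, nb8, map_zero, map_one, mul_zero, zero_mul, mul_one, one_mul, add_zero, zero_add, one_pow, zero_pow two_ne_zero, zero_pow three_ne_zero]) <;> ring1),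
        (by (try simp only [mul, ma1, ma2, ma6, ma8, mb8, na1, na2, na6, na7, na8, nb8, map_zero, map_one, mul_zero, zero_mul, mul_one, one_mul, add_zero, zero_add, one_pow, zero_pow two_ne_zero, zero_pow three_ne_zero]) <;> ring1),
        (by (try simp only [mul, ma1, ma2, ma6, ma8, mb8, na1, na2, na6, na7, na8, nb8, map_zero, map_one, mul_zero, zero_mul, mul_one, one_mul, add_zero, zero_add, one_pow, zero_pow two_ne_zero, zero_pow three_ne_zero]) <;> ring1)⟩
  · rintro ⟨h0, h⟩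
    obtain ⟨ma8, mb8⟩ := pQ_iff.1 h0
    simp only [zc] at ma8 mb8
    have ma1 : c.a1 = 0 := by
      obtain ⟨-, -, e, -, -, -, -, -, -, -⟩ := pV_iff.1 (h ⟨0, 0, 0, 0, 1, 0, 0, 0, 0, 0, 0, 0⟩ rfl)
      simp only [mul, ma8, mb8, map_zero, map_one, mul_zero, zero_mul, mul_one, one_mul, add_zero, zero_add, one_pow, zero_pow two_ne_zero, zero_pow three_ne_zero] at e
      linear_combination e
    have ma2 : c.a2 = 0 := by
      obtain ⟨-, -, -, e, -, -, -, -, -, -⟩ := pV_iff.1 (h ⟨0, 0, 0, 0, 1, 0, 0, 0, 0, 0, 0, 0⟩ rfl)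
      simp only [mul, ma8, mb8, ma1, map_zero, map_one, mul_zero, zero_mul, mul_one, one_mul, add_zero, zero_add, one_pow, zero_pow two_ne_zero, zero_pow three_ne_zero] at e
      linear_combination e
    have ma6 : c.a6 = 0 := by
      obtain ⟨-, -, -, -, -, e, -, -, -, -⟩ := pV_iff.1 (h ⟨0, 0, 0, 0, 1, 0, 0, 0, 0, 0, 0, 0⟩ rfl)
      simp only [mul, ma8, mb8, ma1, ma2, map_zero, map_one, mul_zero, zero_mul, mul_one, one_mul, add_zero, zero_add, one_pow, zero_pow two_ne_zero, zero_pow three_ne_zero] at e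
      linear_combination -e
    exact p7_iff.2 ⟨ma1, ma2, ma6, ma8, mb8⟩

/-- `E4 = {x ∈ E | [7, x] ≤ 1}` -/
theorem qa_E4 (c : Cd K) : (pE4 K) c = (pE4 K) zc ↔ (pE K) c = (pE K) zc ∧ ∀ d, (p7 K) d = (p7 K) zc →
    (fun c : Cd K => c) (mul σ d c) = (fun c : Cd K => c) (mul σ c d) := by
  constructor
  · intro h
    obtain ⟨ma1, ma2, mb2, ma4, ma6, ma7, ma8, mb8⟩ := pE4_iff.1 h
    simp only [zc] at ma1 ma2 mb2 ma4 ma6 ma7 ma8 mb8
    refine ⟨?_, fun d hd => ?_⟩
    · exact pE_iff.2 ⟨ma1, ma2, ma4, ma6, ma7, ma8, mb8⟩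
    · obtain ⟨na1, na2, na6, na8, nb8⟩ := p7_iff.1 hd
      simp only [zc] at na1 na2 na6 na8 nb8
      exact p1_iff.2 ⟨(by (try simp only [mul, ma1, ma2, mb2, ma4, ma6, ma7, ma8, mb8, na1, na2, na6, na8, nb8, map_zero, map_one, mul_zero, zero_mul, mul_one, one_mul, add_zero, zero_add, one_pow, zero_pow two_ne_zero, zero_pow three_ne_zero]) <;> ring1),
        (by (try simp only [mul, ma1, ma2, mb2, ma4, ma6, ma7, ma8, mb8, na1, na2, na6, na8, nb8, map_zero, map_one, mul_zero, zero_mul, mul_one, one_mul, add_zero, zero_add, one_pow, zero_pow two_ne_zero, zero_pow three_ne_zero]) <;> ring1),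
        (by (try simp only [mul, ma1, ma2, mb2, ma4, ma6, ma7, ma8, mb8, na1, na2, na6, na8, nb8, map_zero, map_one, mul_zero, zero_mul, mul_one, one_mul, add_zero, zero_add, one_pow, zero_pow two_ne_zero, zero_pow three_ne_zero]) <;> ring1),
        (by (try simp only [mul, ma1, ma2, mb2, ma4, ma6, ma7, ma8, mb8, na1, na2, na6, na8, nb8, map_zero, map_one, mul_zero, zero_mul, mul_one, one_mul, add_zero, zero_add, one_pow, zero_pow two_ne_zero, zero_pow three_ne_zero]) <;> ring1),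
        (by (try simp only [mul, ma1, ma2, mb2, ma4, ma6, ma7, ma8, mb8, na1, na2, na6, na8, nb8, map_zero, map_one, mul_zero, zero_mul, mul_one, one_mul, add_zero, zero_add, one_pow, zero_pow two_ne_zero, zero_pow three_ne_zero]) <;> ring1),
        (by (try simp only [mul, ma1, ma2, mb2, ma4, ma6, ma7, ma8, mb8, na1, na2, na6, na8, nb8, map_zero, map_one, mul_zero, zero_mul, mul_one, one_mul, add_zero, zero_add, one_pow, zero_pow two_ne_zero, zero_pow three_ne_zero]) <;> ring1),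
        (by (try simp only [mul, ma1, ma2, mb2, ma4, ma6, ma7, ma8, mb8, na1, na2, na6, na8, nb8, map_zero, map_one, mul_zero, zero_mul, mul_one, one_mul, add_zero, zero_add, one_pow, zero_pow two_ne_zero, zero_pow three_ne_zero]) <;> ring1),
        (by (try simp only [mul, ma1, ma2, mb2, ma4, ma6, ma7, ma8, mb8, na1, na2, na6, na8, nb8, map_zero, map_one, mul_zero, zero_mul, mul_one, one_mul, add_zero, zero_add, one_pow, zero_pow two_ne_zero, zero_pow three_ne_zero]) <;> ring1),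
        (by (try simp only [mul, ma1, ma2, mb2, ma4, ma6, ma7, ma8, mb8, na1, na2, na6, na8, nb8, map_zero, map_one, mul_zero, zero_mul, mul_one, one_mul, add_zero, zero_add, one_pow, zero_pow two_ne_zero, zero_pow three_ne_zero]) <;> ring1),
        (by (try simp only [mul, ma1, ma2, mb2, ma4, ma6, ma7, ma8, mb8, na1, na2, na6, na8, nb8, map_zero, map_one, mul_zero, zero_mul, mul_one, one_mul, add_zero, zero_add, one_pow, zero_pow two_ne_zero, zero_pow three_ne_zero]) <;> ring1),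
        (by (try simp only [mul, ma1, ma2, mb2, ma4, ma6, ma7, ma8, mb8, na1, na2, na6, na8, nb8, map_zero, map_one, mul_zero, zero_mul, mul_one, one_mul, add_zero, zero_add, one_pow, zero_pow two_ne_zero, zero_pow three_ne_zero]) <;> ring1),
        (by (try simp only [mul, ma1, ma2, mb2, ma4, ma6, ma7, ma8, mb8, na1, na2, na6, na8, nb8, map_zero, map_one, mul_zero, zero_mul, mul_one, one_mul, add_zero, zero_add, one_pow, zero_pow two_ne_zero, zero_pow three_ne_zero]) <;> ring1)⟩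
  · rintro ⟨h0, h⟩
    obtain ⟨ma1, ma2, ma4, ma6, ma7, ma8, mb8⟩ := pE_iff.1 h0
    simp only [zc] at ma1 ma2 ma4 ma6 ma7 ma8 mb8
    have mb2 : c.b2 = 0 := by
      obtain ⟨-, -, -, -, -, e, -, -, -, -, -, -⟩ := p1_iff.1 (h ⟨0, 0, 0, 0, 0, 0, 0, 0, 0, 1, 0, 0⟩ rfl)
      simp only [mul, ma1, ma2, ma4, ma6, ma7, ma8, mb8, map_zero, map_one, mul_zero, zero_mul, mul_one, one_mul, add_zero, zero_add, one_pow, zero_pow two_ne_zero, zero_pow three_ne_zero] at e
      linear_combination e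
    exact pE4_iff.2 ⟨ma1, ma2, mb2, ma4, ma6, ma7, ma8, mb8⟩

/-- `Y = {x ∈ E | [F, x] ≤ 1}` -/
theorem qa_Y (c : Cd K) : (pY K) c = (pY K) zc ↔ (pE K) c = (pE K) zc ∧ ∀ d, (pF K) d = (pF K) zc →
    (fun c : Cd K => c) (mul σ d c) = (fun c : Cd K => c) (mul σ c d) := by
  constructor
  · intro h
    obtain ⟨ma1, ma2, mb2, ma3, ma4, ma6, ma7, ma8, mb8⟩ := pY_iff.1 h
    simp only [zc] at ma1 ma2 mb2 ma3 ma4 ma6 ma7 ma8 mb8
    refine ⟨?_, fun d hd => ?_⟩
    · exact pE_iff.2 ⟨ma1, ma2, ma4, ma6, ma7, ma8, mb8⟩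
    · obtain ⟨na1, na2, na8, nb8⟩ := pF_iff.1 hd
      simp only [zc] at na1 na2 na8 nb8
      exact p1_iff.2 ⟨(by (try simp only [mul, ma1, ma2, mb2, ma3, ma4, ma6, ma7, ma8, mb8, na1, na2, na8, nb8, map_zero, map_one, mul_zero, zero_mul, mul_one, one_mul, add_zero, zero_add, one_pow, zero_pow two_ne_zero, zero_pow three_ne_zero]) <;> ring1),
        (by (try simp only [mul, ma1, ma2, mb2, ma3, ma4, ma6, ma7, ma8, mb8, na1, na2, na8, nb8, map_zero, map_one, mul_zero, zero_mul, mul_one, one_mul, add_zero, zero_add, one_pow, zero_pow two_ne_zero, zero_pow three_ne_zero]) <;> ring1),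
        (by (try simp only [mul, ma1, ma2, mb2, ma3, ma4, ma6, ma7, ma8, mb8, na1, na2, na8, nb8, map_zero, map_one, mul_zero, zero_mul, mul_one, one_mul, add_zero, zero_add, one_pow, zero_pow two_ne_zero, zero_pow three_ne_zero]) <;> ring1),
        (by (try simp only [mul, ma1, ma2, mb2, ma3, ma4, ma6, ma7, ma8, mb8, na1, na2, na8, nb8, map_zero, map_one, mul_zero, zero_mul, mul_one, one_mul, add_zero, zero_add, one_pow, zero_pow two_ne_zero, zero_pow three_ne_zero]) <;> ring1),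
        (by (try simp only [mul, ma1, ma2, mb2, ma3, ma4, ma6, ma7, ma8, mb8, na1, na2, na8, nb8, map_zero, map_one, mul_zero, zero_mul, mul_one, one_mul, add_zero, zero_add, one_pow, zero_pow two_ne_zero, zero_pow three_ne_zero]) <;> ring1),
        (by (try simp only [mul, ma1, ma2, mb2, ma3, ma4, ma6, ma7, ma8, mb8, na1, na2, na8, nb8, map_zero, map_one, mul_zero, zero_mul, mul_one, one_mul, add_zero, zero_add, one_pow, zero_pow two_ne_zero, zero_pow three_ne_zero]) <;> ring1),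
        (by (try simp only [mul, ma1, ma2, mb2, ma3, ma4, ma6, ma7, ma8, mb8, na1, na2, na8, nb8, map_zero, map_one, mul_zero, zero_mul, mul_one, one_mul, add_zero, zero_add, one_pow, zero_pow two_ne_zero, zero_pow three_ne_zero]) <;> ring1),
        (by (try simp only [mul, ma1, ma2, mb2, ma3, ma4, ma6, ma7, ma8, mb8, na1, na2, na8, nb8, map_zero, map_one, mul_zero, zero_mul, mul_one, one_mul, add_zero, zero_add, one_pow, zero_pow two_ne_zero, zero_pow three_ne_zero]) <;> ring1),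
        (by (try simp only [mul, ma1, ma2, mb2, ma3, ma4, ma6, ma7, ma8, mb8, na1, na2, na8, nb8, map_zero, map_one, mul_zero, zero_mul, mul_one, one_mul, add_zero, zero_add, one_pow, zero_pow two_ne_zero, zero_pow three_ne_zero]) <;> ring1),
        (by (try simp only [mul, ma1, ma2, mb2, ma3, ma4, ma6, ma7, ma8, mb8, na1, na2, na8, nb8, map_zero, map_one, mul_zero, zero_mul, mul_one, one_mul, add_zero, zero_add, one_pow, zero_pow two_ne_zero, zero_pow three_ne_zero]) <;> ring1),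
        (by (try simp only [mul, ma1, ma2, mb2, ma3, ma4, ma6, ma7, ma8, mb8, na1, na2, na8, nb8, map_zero, map_one, mul_zero, zero_mul, mul_one, one_mul, add_zero, zero_add, one_pow, zero_pow two_ne_zero, zero_pow three_ne_zero]) <;> ring1),
        (by (try simp only [mul, ma1, ma2, mb2, ma3, ma4, ma6, ma7, ma8, mb8, na1, na2, na8, nb8, map_zero, map_one, mul_zero, zero_mul, mul_one, one_mul, add_zero, zero_add, one_pow, zero_pow two_ne_zero, zero_pow three_ne_zero]) <;> ring1)⟩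
  · rintro ⟨h0, h⟩
    obtain ⟨ma1, ma2, ma4, ma6, ma7, ma8, mb8⟩ := pE_iff.1 h0
    simp only [zc] at ma1 ma2 ma4 ma6 ma7 ma8 mb8
    have ma3 : c.a3 = 0 := by
      obtain ⟨-, -, -, -, -, e, -, -, -, -, -, -⟩ := p1_iff.1 (h ⟨0, 0, 0, 0, 0, 0, 0, 1, 0, 0, 0, 0⟩ rfl)
      simp only [mul, ma1, ma2, ma4, ma6, ma7, ma8, mb8, map_zero, map_one, mul_zero, zero_mul, mul_one, one_mul, add_zero, zero_add, one_pow, zero_pow two_ne_zero, zero_pow three_ne_zero] at e
      linear_combination e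
    have mb2 : c.b2 = 0 := by
      obtain ⟨-, -, -, -, -, e, -, -, -, -, -, -⟩ := p1_iff.1 (h ⟨0, 0, 0, 0, 0, 0, 0, 0, 0, 1, 0, 0⟩ rfl)
      simp only [mul, ma1, ma2, ma4, ma6, ma7, ma8, mb8, ma3, map_zero, map_one, mul_zero, zero_mul, mul_one, one_mul, add_zero, zero_add, one_pow, zero_pow two_ne_zero, zero_pow three_ne_zero] at e
      linear_combination e
    exact pY_iff.2 ⟨ma1, ma2, mb2, ma3, ma4, ma6, ma7, ma8, mb8⟩

/-- `Z = {x ∈ U | [U, x] ≤ 1}` -/
theorem u_Z (c : Cd K) : (pZ K) c = (pZ K) zc ↔ (pU K) c = (pU K) zc ∧ ∀ d, (pU K) d = (pU K) zc →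
    (fun c : Cd K => c) (mul σ d c) = (fun c : Cd K => c) (mul σ c d) := by
  constructor
  · intro h
    obtain ⟨ma1, ma2, mb2, ma3, ma4, ma5, ma6, mb6, ma7, ma8, mb8⟩ := pZ_iff.1 h
    simp only [zc] at ma1 ma2 mb2 ma3 ma4 ma5 ma6 mb6 ma7 ma8 mb8
    refine ⟨?_, fun d hd => ?_⟩
    · rfl
    · exact p1_iff.2 ⟨(by (try simp only [mul, ma1, ma2, mb2, ma3, ma4, ma5, ma6, mb6, ma7, ma8, mb8, map_zero, map_one, mul_zero, zero_mul, mul_one, one_mul, add_zero, zero_add, one_pow, zero_pow two_ne_zero, zero_pow three_ne_zero]) <;> ring1),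
        (by (try simp only [mul, ma1, ma2, mb2, ma3, ma4, ma5, ma6, mb6, ma7, ma8, mb8, map_zero, map_one, mul_zero, zero_mul, mul_one, one_mul, add_zero, zero_add, one_pow, zero_pow two_ne_zero, zero_pow three_ne_zero]) <;> ring1),
        (by (try simp only [mul, ma1, ma2, mb2, ma3, ma4, ma5, ma6, mb6, ma7, ma8, mb8, map_zero, map_one, mul_zero, zero_mul, mul_one, one_mul, add_zero, zero_add, one_pow, zero_pow two_ne_zero, zero_pow three_ne_zero]) <;> ring1),
        (by (try simp only [mul, ma1, ma2, mb2, ma3, ma4, ma5, ma6, mb6, ma7, ma8, mb8, map_zero, map_one, mul_zero, zero_mul, mul_one, one_mul, add_zero, zero_add, one_pow, zero_pow two_ne_zero, zero_pow three_ne_zero]) <;> ring1),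
        (by (try simp only [mul, ma1, ma2, mb2, ma3, ma4, ma5, ma6, mb6, ma7, ma8, mb8, map_zero, map_one, mul_zero, zero_mul, mul_one, one_mul, add_zero, zero_add, one_pow, zero_pow two_ne_zero, zero_pow three_ne_zero]) <;> ring1),
        (by (try simp only [mul, ma1, ma2, mb2, ma3, ma4, ma5, ma6, mb6, ma7, ma8, mb8, map_zero, map_one, mul_zero, zero_mul, mul_one, one_mul, add_zero, zero_add, one_pow, zero_pow two_ne_zero, zero_pow three_ne_zero]) <;> ring1),
        (by (try simp only [mul, ma1, ma2, mb2, ma3, ma4, ma5, ma6, mb6, ma7, ma8, mb8, map_zero, map_one, mul_zero, zero_mul, mul_one, one_mul, add_zero, zero_add, one_pow, zero_pow two_ne_zero, zero_pow three_ne_zero]) <;> ring1),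
        (by (try simp only [mul, ma1, ma2, mb2, ma3, ma4, ma5, ma6, mb6, ma7, ma8, mb8, map_zero, map_one, mul_zero, zero_mul, mul_one, one_mul, add_zero, zero_add, one_pow, zero_pow two_ne_zero, zero_pow three_ne_zero]) <;> ring1),
        (by (try simp only [mul, ma1, ma2, mb2, ma3, ma4, ma5, ma6, mb6, ma7, ma8, mb8, map_zero, map_one, mul_zero, zero_mul, mul_one, one_mul, add_zero, zero_add, one_pow, zero_pow two_ne_zero, zero_pow three_ne_zero]) <;> ring1),
        (by (try simp only [mul, ma1, ma2, mb2, ma3, ma4, ma5, ma6, mb6, ma7, ma8, mb8, map_zero, map_one, mul_zero, zero_mul, mul_one, one_mul, add_zero, zero_add, one_pow, zero_pow two_ne_zero, zero_pow three_ne_zero]) <;> ring1),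
        (by (try simp only [mul, ma1, ma2, mb2, ma3, ma4, ma5, ma6, mb6, ma7, ma8, mb8, map_zero, map_one, mul_zero, zero_mul, mul_one, one_mul, add_zero, zero_add, one_pow, zero_pow two_ne_zero, zero_pow three_ne_zero]) <;> ring1),
        (by (try simp only [mul, ma1, ma2, mb2, ma3, ma4, ma5, ma6, mb6, ma7, ma8, mb8, map_zero, map_one, mul_zero, zero_mul, mul_one, one_mul, add_zero, zero_add, one_pow, zero_pow two_ne_zero, zero_pow three_ne_zero]) <;> ring1)⟩
  · rintro ⟨h0, h⟩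
    have ma8 : c.a8 = 0 := by
      obtain ⟨-, e, -, -, -, -, -, -, -, -, -, -⟩ := p1_iff.1 (h ⟨1, 0, 0, 0, 0, 0, 0, 0, 0, 0, 0, 0⟩ rfl)
      simp only [mul, map_zero, map_one, mul_zero, zero_mul, mul_one, one_mul, add_zero, zero_add, one_pow, zero_pow two_ne_zero, zero_pow three_ne_zero] at e
      linear_combination -e
    have mb8 : c.b8 = 0 := by
      obtain ⟨-, -, -, -, e, -, -, -, -, -, -, -⟩ := p1_iff.1 (h ⟨1, 0, 0, 0, 0, 0, 0, 0, 0, 0, 0, 0⟩ rfl)
      simp only [mul, ma8, map_zero, map_one, mul_zero, zero_mul, mul_one, one_mul, add_zero, zero_add, one_pow, zero_pow two_ne_zero, zero_pow three_ne_zero] at e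
      linear_combination -e
    have ma7 : c.a7 = 0 := by
      obtain ⟨-, -, -, -, -, -, e, -, -, -, -, -⟩ := p1_iff.1 (h ⟨1, 0, 0, 0, 0, 0, 0, 0, 0, 0, 0, 0⟩ rfl)
      simp only [mul, ma8, mb8, map_zero, map_one, mul_zero, zero_mul, mul_one, one_mul, add_zero, zero_add, one_pow, zero_pow two_ne_zero, zero_pow three_ne_zero] at e
      exact (map_eq_zero σ).1 (by linear_combination -e)
    have ma6 : c.a6 = 0 := by
      obtain ⟨-, -, -, e, -, -, -, -, -, -, -, -⟩ := p1_iff.1 (h ⟨1, 0, 0, 0, 0, 0, 0, 0, 0, 0, 0, 0⟩ rfl)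
      simp only [mul, ma8, mb8, ma7, map_zero, map_one, mul_zero, zero_mul, mul_one, one_mul, add_zero, zero_add, one_pow, zero_pow two_ne_zero, zero_pow three_ne_zero] at e
      exact (map_eq_zero σ).1 (by linear_combination -e)
    have ma4 : c.a4 = 0 := by
      obtain ⟨-, -, e, -, -, -, -, -, -, -, -, -⟩ := p1_iff.1 (h ⟨1, 0, 0, 0, 0, 0, 0, 0, 0, 0, 0, 0⟩ rfl)
      simp only [mul, ma8, mb8, ma7, ma6, map_zero, map_one, mul_zero, zero_mul, mul_one, one_mul, add_zero, zero_add, one_pow, zero_pow two_ne_zero, zero_pow three_ne_zero] at e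
      linear_combination -e
    have mb6 : c.b6 = 0 := by
      obtain ⟨-, -, -, -, -, e, -, -, -, -, -, -⟩ := p1_iff.1 (h ⟨1, 0, 0, 0, 0, 0, 0, 0, 0, 0, 0, 0⟩ rfl)
      simp only [mul, ma8, mb8, ma7, ma6, ma4, map_zero, map_one, mul_zero, zero_mul, mul_one, one_mul, add_zero, zero_add, one_pow, zero_pow two_ne_zero, zero_pow three_ne_zero] at e
      linear_combination -e
    have ma5 : c.a5 = 0 := by
      obtain ⟨-, -, -, -, -, e, -, -, -, -, -, -⟩ := p1_iff.1 (h ⟨0, 1, 0, 0, 0, 0, 0, 0, 0, 0, 0, 0⟩ rfl)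
      simp only [mul, ma8, mb8, ma7, ma6, ma4, mb6, map_zero, map_one, mul_zero, zero_mul, mul_one, one_mul, add_zero, zero_add, one_pow, zero_pow two_ne_zero, zero_pow three_ne_zero] at e
      linear_combination -e
    have ma1 : c.a1 = 0 := by
      obtain ⟨-, -, e, -, -, -, -, -, -, -, -, -⟩ := p1_iff.1 (h ⟨0, 0, 0, 0, 1, 0, 0, 0, 0, 0, 0, 0⟩ rfl)
      simp only [mul, ma8, mb8, ma7, ma6, ma4, mb6, ma5, map_zero, map_one, mul_zero, zero_mul, mul_one, one_mul, add_zero, zero_add, one_pow, zero_pow two_ne_zero, zero_pow three_ne_zero] at e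
      linear_combination e
    have ma2 : c.a2 = 0 := by
      obtain ⟨-, -, -, e, -, -, -, -, -, -, -, -⟩ := p1_iff.1 (h ⟨0, 0, 0, 0, 1, 0, 0, 0, 0, 0, 0, 0⟩ rfl)
      simp only [mul, ma8, mb8, ma7, ma6, ma4, mb6, ma5, ma1, map_zero, map_one, mul_zero, zero_mul, mul_one, one_mul, add_zero, zero_add, one_pow, zero_pow two_ne_zero, zero_pow three_ne_zero] at e
      linear_combination e
    have ma3 : c.a3 = 0 := by
      obtain ⟨-, -, -, -, -, e, -, -, -, -, -, -⟩ := p1_iff.1 (h ⟨0, 0, 0, 0, 0, 0, 0, 1, 0, 0, 0, 0⟩ rfl)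
      simp only [mul, ma8, mb8, ma7, ma6, ma4, mb6, ma5, ma1, ma2, map_zero, map_one, mul_zero, zero_mul, mul_one, one_mul, add_zero, zero_add, one_pow, zero_pow two_ne_zero, zero_pow three_ne_zero] at e
      linear_combination e
    have mb2 : c.b2 = 0 := by
      obtain ⟨-, -, -, -, -, e, -, -, -, -, -, -⟩ := p1_iff.1 (h ⟨0, 0, 0, 0, 0, 0, 0, 0, 0, 1, 0, 0⟩ rfl)
      simp only [mul, ma8, mb8, ma7, ma6, ma4, mb6, ma5, ma1, ma2, ma3, map_zero, map_one, mul_zero, zero_mul, mul_one, one_mul, add_zero, zero_add, one_pow, zero_pow two_ne_zero, zero_pow three_ne_zero] at e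
      linear_combination e
    exact pZ_iff.2 ⟨ma1, ma2, mb2, ma3, ma4, ma5, ma6, mb6, ma7, ma8, mb8⟩

/-- `V = {x ∈ U | [U, x] ≤ Z}` -/
theorem u_V (c : Cd K) : (pV K) c = (pV K) zc ↔ (pU K) c = (pU K) zc ∧ ∀ d, (pU K) d = (pU K) zc →
    (pZ K) (mul σ d c) = (pZ K) (mul σ c d) := by
  constructor
  · intro h
    obtain ⟨ma1, ma2, mb2, ma3, ma4, ma5, ma6, ma7, ma8, mb8⟩ := pV_iff.1 h
    simp only [zc] at ma1 ma2 mb2 ma3 ma4 ma5 ma6 ma7 ma8 mb8
    refine ⟨?_, fun d hd => ?_⟩
    · rfl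
    · exact pZ_iff.2 ⟨(by (try simp only [mul, ma1, ma2, mb2, ma3, ma4, ma5, ma6, ma7, ma8, mb8, map_zero, map_one, mul_zero, zero_mul, mul_one, one_mul, add_zero, zero_add, one_pow, zero_pow two_ne_zero, zero_pow three_ne_zero]) <;> ring1),
        (by (try simp only [mul, ma1, ma2, mb2, ma3, ma4, ma5, ma6, ma7, ma8, mb8, map_zero, map_one, mul_zero, zero_mul, mul_one, one_mul, add_zero, zero_add, one_pow, zero_pow two_ne_zero, zero_pow three_ne_zero]) <;> ring1),
        (by (try simp only [mul, ma1, ma2, mb2, ma3, ma4, ma5, ma6, ma7, ma8, mb8, map_zero, map_one, mul_zero, zero_mul, mul_one, one_mul, add_zero, zero_add, one_pow, zero_pow two_ne_zero, zero_pow three_ne_zero]) <;> ring1),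
        (by (try simp only [mul, ma1, ma2, mb2, ma3, ma4, ma5, ma6, ma7, ma8, mb8, map_zero, map_one, mul_zero, zero_mul, mul_one, one_mul, add_zero, zero_add, one_pow, zero_pow two_ne_zero, zero_pow three_ne_zero]) <;> ring1),
        (by (try simp only [mul, ma1, ma2, mb2, ma3, ma4, ma5, ma6, ma7, ma8, mb8, map_zero, map_one, mul_zero, zero_mul, mul_one, one_mul, add_zero, zero_add, one_pow, zero_pow two_ne_zero, zero_pow three_ne_zero]) <;> ring1),
        (by (try simp only [mul, ma1, ma2, mb2, ma3, ma4, ma5, ma6, ma7, ma8, mb8, map_zero, map_one, mul_zero, zero_mul, mul_one, one_mul, add_zero, zero_add, one_pow, zero_pow two_ne_zero, zero_pow three_ne_zero]) <;> ring1),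
        (by (try simp only [mul, ma1, ma2, mb2, ma3, ma4, ma5, ma6, ma7, ma8, mb8, map_zero, map_one, mul_zero, zero_mul, mul_one, one_mul, add_zero, zero_add, one_pow, zero_pow two_ne_zero, zero_pow three_ne_zero]) <;> ring1),
        (by (try simp only [mul, ma1, ma2, mb2, ma3, ma4, ma5, ma6, ma7, ma8, mb8, map_zero, map_one, mul_zero, zero_mul, mul_one, one_mul, add_zero, zero_add, one_pow, zero_pow two_ne_zero, zero_pow three_ne_zero]) <;> ring1),
        (by (try simp only [mul, ma1, ma2, mb2, ma3, ma4, ma5, ma6, ma7, ma8, mb8, map_zero, map_one, mul_zero, zero_mul, mul_one, one_mul, add_zero, zero_add, one_pow, zero_pow two_ne_zero, zero_pow three_ne_zero]) <;> ring1),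
        (by (try simp only [mul, ma1, ma2, mb2, ma3, ma4, ma5, ma6, ma7, ma8, mb8, map_zero, map_one, mul_zero, zero_mul, mul_one, one_mul, add_zero, zero_add, one_pow, zero_pow two_ne_zero, zero_pow three_ne_zero]) <;> ring1),
        (by (try simp only [mul, ma1, ma2, mb2, ma3, ma4, ma5, ma6, ma7, ma8, mb8, map_zero, map_one, mul_zero, zero_mul, mul_one, one_mul, add_zero, zero_add, one_pow, zero_pow two_ne_zero, zero_pow three_ne_zero]) <;> ring1)⟩
  · rintro ⟨h0, h⟩
    have ma8 : c.a8 = 0 := by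
      obtain ⟨-, e, -, -, -, -, -, -, -, -, -⟩ := pZ_iff.1 (h ⟨1, 0, 0, 0, 0, 0, 0, 0, 0, 0, 0, 0⟩ rfl)
      simp only [mul, map_zero, map_one, mul_zero, zero_mul, mul_one, one_mul, add_zero, zero_add, one_pow, zero_pow two_ne_zero, zero_pow three_ne_zero] at e
      linear_combination -e
    have mb8 : c.b8 = 0 := by
      obtain ⟨-, -, -, -, e, -, -, -, -, -, -⟩ := pZ_iff.1 (h ⟨1, 0, 0, 0, 0, 0, 0, 0, 0, 0, 0, 0⟩ rfl)
      simp only [mul, ma8, map_zero, map_one, mul_zero, zero_mul, mul_one, one_mul, add_zero, zero_add, one_pow, zero_pow two_ne_zero, zero_pow three_ne_zero] at e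
      linear_combination -e
    have ma7 : c.a7 = 0 := by
      obtain ⟨-, -, -, -, -, e, -, -, -, -, -⟩ := pZ_iff.1 (h ⟨1, 0, 0, 0, 0, 0, 0, 0, 0, 0, 0, 0⟩ rfl)
      simp only [mul, ma8, mb8, map_zero, map_one, mul_zero, zero_mul, mul_one, one_mul, add_zero, zero_add, one_pow, zero_pow two_ne_zero, zero_pow three_ne_zero] at e
      exact (map_eq_zero σ).1 (by linear_combination -e)
    have ma6 : c.a6 = 0 := by
      obtain ⟨-, -, -, e, -, -, -, -, -, -, -⟩ := pZ_iff.1 (h ⟨1, 0, 0, 0, 0, 0, 0, 0, 0, 0, 0, 0⟩ rfl)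
      simp only [mul, ma8, mb8, ma7, map_zero, map_one, mul_zero, zero_mul, mul_one, one_mul, add_zero, zero_add, one_pow, zero_pow two_ne_zero, zero_pow three_ne_zero] at e
      exact (map_eq_zero σ).1 (by linear_combination -e)
    have ma4 : c.a4 = 0 := by
      obtain ⟨-, -, e, -, -, -, -, -, -, -, -⟩ := pZ_iff.1 (h ⟨1, 0, 0, 0, 0, 0, 0, 0, 0, 0, 0, 0⟩ rfl)
      simp only [mul, ma8, mb8, ma7, ma6, map_zero, map_one, mul_zero, zero_mul, mul_one, one_mul, add_zero, zero_add, one_pow, zero_pow two_ne_zero, zero_pow three_ne_zero] at e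
      linear_combination -e
    have ma1 : c.a1 = 0 := by
      obtain ⟨-, -, e, -, -, -, -, -, -, -, -⟩ := pZ_iff.1 (h ⟨0, 0, 0, 0, 1, 0, 0, 0, 0, 0, 0, 0⟩ rfl)
      simp only [mul, ma8, mb8, ma7, ma6, ma4, map_zero, map_one, mul_zero, zero_mul, mul_one, one_mul, add_zero, zero_add, one_pow, zero_pow two_ne_zero, zero_pow three_ne_zero] at e
      linear_combination e
    have ma2 : c.a2 = 0 := by
      obtain ⟨-, -, -, e, -, -, -, -, -, -, -⟩ := pZ_iff.1 (h ⟨0, 0, 0, 0, 1, 0, 0, 0, 0, 0, 0, 0⟩ rfl)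
      simp only [mul, ma8, mb8, ma7, ma6, ma4, ma1, map_zero, map_one, mul_zero, zero_mul, mul_one, one_mul, add_zero, zero_add, one_pow, zero_pow two_ne_zero, zero_pow three_ne_zero] at e
      linear_combination e
    have mb2 : c.b2 = 0 := by
      obtain ⟨-, -, -, e, -, -, -, -, -, -, -⟩ := pZ_iff.1 (h ⟨0, 0, 0, 0, 0, 0, 0, 0, 0, 0, 1, 0⟩ rfl)
      simp only [mul, ma8, mb8, ma7, ma6, ma4, ma1, ma2, map_zero, map_one, mul_zero, zero_mul, mul_one, one_mul, add_zero, zero_add, one_pow, zero_pow two_ne_zero, zero_pow three_ne_zero] at e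
      linear_combination e
    have ma3 : c.a3 = 0 := by
      obtain ⟨-, -, -, -, -, e, -, -, -, -, -⟩ := pZ_iff.1 (h ⟨0, 0, 0, 0, 0, 0, 0, 0, 0, 0, 1, 0⟩ rfl)
      simp only [mul, ma8, mb8, ma7, ma6, ma4, ma1, ma2, mb2, map_zero, map_one, mul_zero, zero_mul, mul_one, one_mul, add_zero, zero_add, one_pow, zero_pow two_ne_zero, zero_pow three_ne_zero] at e
      linear_combination e
    have ma5 : c.a5 = 0 := by
      obtain ⟨-, -, -, -, -, -, -, e, -, -, -⟩ := pZ_iff.1 (h ⟨0, 0, 0, 0, 0, 0, 0, 0, 0, 0, 1, 0⟩ rfl)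
      simp only [mul, ma8, mb8, ma7, ma6, ma4, ma1, ma2, mb2, ma3, map_zero, map_one, mul_zero, zero_mul, mul_one, one_mul, add_zero, zero_add, one_pow, zero_pow two_ne_zero, zero_pow three_ne_zero] at e
      linear_combination e
    exact pV_iff.2 ⟨ma1, ma2, mb2, ma3, ma4, ma5, ma6, ma7, ma8, mb8⟩

/-- `Y = {x ∈ U | [U, x] ≤ V}` -/
theorem u_Y (c : Cd K) : (pY K) c = (pY K) zc ↔ (pU K) c = (pU K) zc ∧ ∀ d, (pU K) d = (pU K) zc →
    (pV K) (mul σ d c) = (pV K) (mul σ c d) := by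
  constructor
  · intro h
    obtain ⟨ma1, ma2, mb2, ma3, ma4, ma6, ma7, ma8, mb8⟩ := pY_iff.1 h
    simp only [zc] at ma1 ma2 mb2 ma3 ma4 ma6 ma7 ma8 mb8
    refine ⟨?_, fun d hd => ?_⟩
    · rfl
    · exact pV_iff.2 ⟨(by (try simp only [mul, ma1, ma2, mb2, ma3, ma4, ma6, ma7, ma8, mb8, map_zero, map_one, mul_zero, zero_mul, mul_one, one_mul, add_zero, zero_add, one_pow, zero_pow two_ne_zero, zero_pow three_ne_zero]) <;> ring1),
        (by (try simp only [mul, ma1, ma2, mb2, ma3, ma4, ma6, ma7, ma8, mb8, map_zero, map_one, mul_zero, zero_mul, mul_one, one_mul, add_zero, zero_add, one_pow, zero_pow two_ne_zero, zero_pow three_ne_zero]) <;> ring1),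
        (by (try simp only [mul, ma1, ma2, mb2, ma3, ma4, ma6, ma7, ma8, mb8, map_zero, map_one, mul_zero, zero_mul, mul_one, one_mul, add_zero, zero_add, one_pow, zero_pow two_ne_zero, zero_pow three_ne_zero]) <;> ring1),
        (by (try simp only [mul, ma1, ma2, mb2, ma3, ma4, ma6, ma7, ma8, mb8, map_zero, map_one, mul_zero, zero_mul, mul_one, one_mul, add_zero, zero_add, one_pow, zero_pow two_ne_zero, zero_pow three_ne_zero]) <;> ring1),
        (by (try simp only [mul, ma1, ma2, mb2, ma3, ma4, ma6, ma7, ma8, mb8, map_zero, map_one, mul_zero, zero_mul, mul_one, one_mul, add_zero, zero_add, one_pow, zero_pow two_ne_zero, zero_pow three_ne_zero]) <;> ring1),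
        (by (try simp only [mul, ma1, ma2, mb2, ma3, ma4, ma6, ma7, ma8, mb8, map_zero, map_one, mul_zero, zero_mul, mul_one, one_mul, add_zero, zero_add, one_pow, zero_pow two_ne_zero, zero_pow three_ne_zero]) <;> ring1),
        (by (try simp only [mul, ma1, ma2, mb2, ma3, ma4, ma6, ma7, ma8, mb8, map_zero, map_one, mul_zero, zero_mul, mul_one, one_mul, add_zero, zero_add, one_pow, zero_pow two_ne_zero, zero_pow three_ne_zero]) <;> ring1),
        (by (try simp only [mul, ma1, ma2, mb2, ma3, ma4, ma6, ma7, ma8, mb8, map_zero, map_one, mul_zero, zero_mul, mul_one, one_mul, add_zero, zero_add, one_pow, zero_pow two_ne_zero, zero_pow three_ne_zero]) <;> ring1),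
        (by (try simp only [mul, ma1, ma2, mb2, ma3, ma4, ma6, ma7, ma8, mb8, map_zero, map_one, mul_zero, zero_mul, mul_one, one_mul, add_zero, zero_add, one_pow, zero_pow two_ne_zero, zero_pow three_ne_zero]) <;> ring1),
        (by (try simp only [mul, ma1, ma2, mb2, ma3, ma4, ma6, ma7, ma8, mb8, map_zero, map_one, mul_zero, zero_mul, mul_one, one_mul, add_zero, zero_add, one_pow, zero_pow two_ne_zero, zero_pow three_ne_zero]) <;> ring1)⟩
  · rintro ⟨h0, h⟩
    have ma8 : c.a8 = 0 := by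
      obtain ⟨-, e, -, -, -, -, -, -, -, -⟩ := pV_iff.1 (h ⟨1, 0, 0, 0, 0, 0, 0, 0, 0, 0, 0, 0⟩ rfl)
      simp only [mul, map_zero, map_one, mul_zero, zero_mul, mul_one, one_mul, add_zero, zero_add, one_pow, zero_pow two_ne_zero, zero_pow three_ne_zero] at e
      linear_combination -e
    have mb8 : c.b8 = 0 := by
      obtain ⟨-, -, -, -, e, -, -, -, -, -⟩ := pV_iff.1 (h ⟨1, 0, 0, 0, 0, 0, 0, 0, 0, 0, 0, 0⟩ rfl)
      simp only [mul, ma8, map_zero, map_one, mul_zero, zero_mul, mul_one, one_mul, add_zero, zero_add, one_pow, zero_pow two_ne_zero, zero_pow three_ne_zero] at e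
      linear_combination -e
    have ma7 : c.a7 = 0 := by
      obtain ⟨-, -, -, -, -, e, -, -, -, -⟩ := pV_iff.1 (h ⟨1, 0, 0, 0, 0, 0, 0, 0, 0, 0, 0, 0⟩ rfl)
      simp only [mul, ma8, mb8, map_zero, map_one, mul_zero, zero_mul, mul_one, one_mul, add_zero, zero_add, one_pow, zero_pow two_ne_zero, zero_pow three_ne_zero] at e
      exact (map_eq_zero σ).1 (by linear_combination -e)
    have ma6 : c.a6 = 0 := by
      obtain ⟨-, -, -, e, -, -, -, -, -, -⟩ := pV_iff.1 (h ⟨1, 0, 0, 0, 0, 0, 0, 0, 0, 0, 0, 0⟩ rfl)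
      simp only [mul, ma8, mb8, ma7, map_zero, map_one, mul_zero, zero_mul, mul_one, one_mul, add_zero, zero_add, one_pow, zero_pow two_ne_zero, zero_pow three_ne_zero] at e
      exact (map_eq_zero σ).1 (by linear_combination -e)
    have ma4 : c.a4 = 0 := by
      obtain ⟨-, -, e, -, -, -, -, -, -, -⟩ := pV_iff.1 (h ⟨1, 0, 0, 0, 0, 0, 0, 0, 0, 0, 0, 0⟩ rfl)
      simp only [mul, ma8, mb8, ma7, ma6, map_zero, map_one, mul_zero, zero_mul, mul_one, one_mul, add_zero, zero_add, one_pow, zero_pow two_ne_zero, zero_pow three_ne_zero] at e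
      linear_combination -e
    have ma1 : c.a1 = 0 := by
      obtain ⟨-, -, e, -, -, -, -, -, -, -⟩ := pV_iff.1 (h ⟨0, 0, 0, 0, 1, 0, 0, 0, 0, 0, 0, 0⟩ rfl)
      simp only [mul, ma8, mb8, ma7, ma6, ma4, map_zero, map_one, mul_zero, zero_mul, mul_one, one_mul, add_zero, zero_add, one_pow, zero_pow two_ne_zero, zero_pow three_ne_zero] at e
      linear_combination e
    have ma2 : c.a2 = 0 := by
      obtain ⟨-, -, -, e, -, -, -, -, -, -⟩ := pV_iff.1 (h ⟨0, 0, 0, 0, 1, 0, 0, 0, 0, 0, 0, 0⟩ rfl)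
      simp only [mul, ma8, mb8, ma7, ma6, ma4, ma1, map_zero, map_one, mul_zero, zero_mul, mul_one, one_mul, add_zero, zero_add, one_pow, zero_pow two_ne_zero, zero_pow three_ne_zero] at e
      linear_combination e
    have mb2 : c.b2 = 0 := by
      obtain ⟨-, -, -, e, -, -, -, -, -, -⟩ := pV_iff.1 (h ⟨0, 0, 0, 0, 0, 0, 0, 0, 0, 0, 1, 0⟩ rfl)
      simp only [mul, ma8, mb8, ma7, ma6, ma4, ma1, ma2, map_zero, map_one, mul_zero, zero_mul, mul_one, one_mul, add_zero, zero_add, one_pow, zero_pow two_ne_zero, zero_pow three_ne_zero] at e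
      linear_combination e
    have ma3 : c.a3 = 0 := by
      obtain ⟨-, -, -, -, -, e, -, -, -, -⟩ := pV_iff.1 (h ⟨0, 0, 0, 0, 0, 0, 0, 0, 0, 0, 1, 0⟩ rfl)
      simp only [mul, ma8, mb8, ma7, ma6, ma4, ma1, ma2, mb2, map_zero, map_one, mul_zero, zero_mul, mul_one, one_mul, add_zero, zero_add, one_pow, zero_pow two_ne_zero, zero_pow three_ne_zero] at e
      linear_combination e
    exact pY_iff.2 ⟨ma1, ma2, mb2, ma3, ma4, ma6, ma7, ma8, mb8⟩

/-- `E4 = {x ∈ U | [U, x] ≤ Y}` -/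
theorem u_E4 (c : Cd K) : (pE4 K) c = (pE4 K) zc ↔ (pU K) c = (pU K) zc ∧ ∀ d, (pU K) d = (pU K) zc →
    (pY K) (mul σ d c) = (pY K) (mul σ c d) := by
  constructor
  · intro h
    obtain ⟨ma1, ma2, mb2, ma4, ma6, ma7, ma8, mb8⟩ := pE4_iff.1 h
    simp only [zc] at ma1 ma2 mb2 ma4 ma6 ma7 ma8 mb8
    refine ⟨?_, fun d hd => ?_⟩
    · rfl
    · exact pY_iff.2 ⟨(by (try simp only [mul, ma1, ma2, mb2, ma4, ma6, ma7, ma8, mb8, map_zero, map_one, mul_zero, zero_mul, mul_one, one_mul, add_zero, zero_add, one_pow, zero_pow two_ne_zero, zero_pow three_ne_zero]) <;> ring1),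
        (by (try simp only [mul, ma1, ma2, mb2, ma4, ma6, ma7, ma8, mb8, map_zero, map_one, mul_zero, zero_mul, mul_one, one_mul, add_zero, zero_add, one_pow, zero_pow two_ne_zero, zero_pow three_ne_zero]) <;> ring1),
        (by (try simp only [mul, ma1, ma2, mb2, ma4, ma6, ma7, ma8, mb8, map_zero, map_one, mul_zero, zero_mul, mul_one, one_mul, add_zero, zero_add, one_pow, zero_pow two_ne_zero, zero_pow three_ne_zero]) <;> ring1),
        (by (try simp only [mul, ma1, ma2, mb2, ma4, ma6, ma7, ma8, mb8, map_zero, map_one, mul_zero, zero_mul, mul_one, one_mul, add_zero, zero_add, one_pow, zero_pow two_ne_zero, zero_pow three_ne_zero]) <;> ring1),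
        (by (try simp only [mul, ma1, ma2, mb2, ma4, ma6, ma7, ma8, mb8, map_zero, map_one, mul_zero, zero_mul, mul_one, one_mul, add_zero, zero_add, one_pow, zero_pow two_ne_zero, zero_pow three_ne_zero]) <;> ring1),
        (by (try simp only [mul, ma1, ma2, mb2, ma4, ma6, ma7, ma8, mb8, map_zero, map_one, mul_zero, zero_mul, mul_one, one_mul, add_zero, zero_add, one_pow, zero_pow two_ne_zero, zero_pow three_ne_zero]) <;> ring1),
        (by (try simp only [mul, ma1, ma2, mb2, ma4, ma6, ma7, ma8, mb8, map_zero, map_one, mul_zero, zero_mul, mul_one, one_mul, add_zero, zero_add, one_pow, zero_pow two_ne_zero, zero_pow three_ne_zero]) <;> ring1),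
        (by (try simp only [mul, ma1, ma2, mb2, ma4, ma6, ma7, ma8, mb8, map_zero, map_one, mul_zero, zero_mul, mul_one, one_mul, add_zero, zero_add, one_pow, zero_pow two_ne_zero, zero_pow three_ne_zero]) <;> ring1),
        (by (try simp only [mul, ma1, ma2, mb2, ma4, ma6, ma7, ma8, mb8, map_zero, map_one, mul_zero, zero_mul, mul_one, one_mul, add_zero, zero_add, one_pow, zero_pow two_ne_zero, zero_pow three_ne_zero]) <;> ring1)⟩
  · rintro ⟨h0, h⟩
    have ma8 : c.a8 = 0 := by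
      obtain ⟨-, e, -, -, -, -, -, -, -⟩ := pY_iff.1 (h ⟨1, 0, 0, 0, 0, 0, 0, 0, 0, 0, 0, 0⟩ rfl)
      simp only [mul, map_zero, map_one, mul_zero, zero_mul, mul_one, one_mul, add_zero, zero_add, one_pow, zero_pow two_ne_zero, zero_pow three_ne_zero] at e
      linear_combination -e
    have mb8 : c.b8 = 0 := by
      obtain ⟨-, -, -, -, e, -, -, -, -⟩ := pY_iff.1 (h ⟨1, 0, 0, 0, 0, 0, 0, 0, 0, 0, 0, 0⟩ rfl)
      simp only [mul, ma8, map_zero, map_one, mul_zero, zero_mul, mul_one, one_mul, add_zero, zero_add, one_pow, zero_pow two_ne_zero, zero_pow three_ne_zero] at e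
      linear_combination -e
    have ma4 : c.a4 = 0 := by
      obtain ⟨-, -, -, e, -, -, -, -, -⟩ := pY_iff.1 (h ⟨0, 1, 0, 0, 0, 0, 0, 0, 0, 0, 0, 0⟩ rfl)
      simp only [mul, ma8, mb8, map_zero, map_one, mul_zero, zero_mul, mul_one, one_mul, add_zero, zero_add, one_pow, zero_pow two_ne_zero, zero_pow three_ne_zero] at e
      linear_combination -e
    have ma6 : c.a6 = 0 := by
      obtain ⟨-, -, e, -, -, -, -, -, -⟩ := pY_iff.1 (h ⟨1, 0, 0, 0, 0, 0, 0, 0, 0, 0, 0, 0⟩ rfl)
      simp only [mul, ma8, mb8, ma4, map_zero, map_one, mul_zero, zero_mul, mul_one, one_mul, add_zero, zero_add, one_pow, zero_pow two_ne_zero, zero_pow three_ne_zero] at e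
      linear_combination -e
    have ma7 : c.a7 = 0 := by
      obtain ⟨-, -, -, e, -, -, -, -, -⟩ := pY_iff.1 (h ⟨1, 0, 0, 0, 0, 0, 0, 0, 0, 0, 0, 0⟩ rfl)
      simp only [mul, ma8, mb8, ma4, ma6, map_zero, map_one, mul_zero, zero_mul, mul_one, one_mul, add_zero, zero_add, one_pow, zero_pow two_ne_zero, zero_pow three_ne_zero] at e
      linear_combination -e
    have ma1 : c.a1 = 0 := by
      obtain ⟨-, -, e, -, -, -, -, -, -⟩ := pY_iff.1 (h ⟨0, 0, 0, 0, 1, 0, 0, 0, 0, 0, 0, 0⟩ rfl)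
      simp only [mul, ma8, mb8, ma4, ma6, ma7, map_zero, map_one, mul_zero, zero_mul, mul_one, one_mul, add_zero, zero_add, one_pow, zero_pow two_ne_zero, zero_pow three_ne_zero] at e
      linear_combination e
    have ma2 : c.a2 = 0 := by
      obtain ⟨-, -, -, e, -, -, -, -, -⟩ := pY_iff.1 (h ⟨0, 0, 0, 0, 1, 0, 0, 0, 0, 0, 0, 0⟩ rfl)
      simp only [mul, ma8, mb8, ma4, ma6, ma7, ma1, map_zero, map_one, mul_zero, zero_mul, mul_one, one_mul, add_zero, zero_add, one_pow, zero_pow two_ne_zero, zero_pow three_ne_zero] at e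
      linear_combination e
    have mb2 : c.b2 = 0 := by
      obtain ⟨-, -, -, e, -, -, -, -, -⟩ := pY_iff.1 (h ⟨0, 0, 0, 0, 0, 0, 0, 0, 0, 0, 1, 0⟩ rfl)
      simp only [mul, ma8, mb8, ma4, ma6, ma7, ma1, ma2, map_zero, map_one, mul_zero, zero_mul, mul_one, one_mul, add_zero, zero_add, one_pow, zero_pow two_ne_zero, zero_pow three_ne_zero] at e
      linear_combination e
    exact pE4_iff.2 ⟨ma1, ma2, mb2, ma4, ma6, ma7, ma8, mb8⟩

/-- `B = {x ∈ U | [V, x] ≤ 1}` -/
theorem u_B (c : Cd K) : (pB K) c = (pB K) zc ↔ (pU K) c = (pU K) zc ∧ ∀ d, (pV K) d = (pV K) zc →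
    (fun c : Cd K => c) (mul σ d c) = (fun c : Cd K => c) (mul σ c d) := by
  constructor
  · intro h
    have ma1 := pB_iff.1 h
    simp only [zc] at ma1
    refine ⟨?_, fun d hd => ?_⟩
    · rfl
    · obtain ⟨na1, na2, nb2, na3, na4, na5, na6, na7, na8, nb8⟩ := pV_iff.1 hd
      simp only [zc] at na1 na2 nb2 na3 na4 na5 na6 na7 na8 nb8
      exact p1_iff.2 ⟨(by (try simp only [mul, ma1, na1, na2, nb2, na3, na4, na5, na6, na7, na8, nb8, map_zero, map_one, mul_zero, zero_mul, mul_one, one_mul, add_zero, zero_add, one_pow, zero_pow two_ne_zero, zero_pow three_ne_zero]) <;> ring1),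
        (by (try simp only [mul, ma1, na1, na2, nb2, na3, na4, na5, na6, na7, na8, nb8, map_zero, map_one, mul_zero, zero_mul, mul_one, one_mul, add_zero, zero_add, one_pow, zero_pow two_ne_zero, zero_pow three_ne_zero]) <;> ring1),
        (by (try simp only [mul, ma1, na1, na2, nb2, na3, na4, na5, na6, na7, na8, nb8, map_zero, map_one, mul_zero, zero_mul, mul_one, one_mul, add_zero, zero_add, one_pow, zero_pow two_ne_zero, zero_pow three_ne_zero]) <;> ring1),
        (by (try simp only [mul, ma1, na1, na2, nb2, na3, na4, na5, na6, na7, na8, nb8, map_zero, map_one, mul_zero, zero_mul, mul_one, one_mul, add_zero, zero_add, one_pow, zero_pow two_ne_zero, zero_pow three_ne_zero]) <;> ring1),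
        (by (try simp only [mul, ma1, na1, na2, nb2, na3, na4, na5, na6, na7, na8, nb8, map_zero, map_one, mul_zero, zero_mul, mul_one, one_mul, add_zero, zero_add, one_pow, zero_pow two_ne_zero, zero_pow three_ne_zero]) <;> ring1),
        (by (try simp only [mul, ma1, na1, na2, nb2, na3, na4, na5, na6, na7, na8, nb8, map_zero, map_one, mul_zero, zero_mul, mul_one, one_mul, add_zero, zero_add, one_pow, zero_pow two_ne_zero, zero_pow three_ne_zero]) <;> ring1),
        (by (try simp only [mul, ma1, na1, na2, nb2, na3, na4, na5, na6, na7, na8, nb8, map_zero, map_one, mul_zero, zero_mul, mul_one, one_mul, add_zero, zero_add, one_pow, zero_pow two_ne_zero, zero_pow three_ne_zero]) <;> ring1),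
        (by (try simp only [mul, ma1, na1, na2, nb2, na3, na4, na5, na6, na7, na8, nb8, map_zero, map_one, mul_zero, zero_mul, mul_one, one_mul, add_zero, zero_add, one_pow, zero_pow two_ne_zero, zero_pow three_ne_zero]) <;> ring1),
        (by (try simp only [mul, ma1, na1, na2, nb2, na3, na4, na5, na6, na7, na8, nb8, map_zero, map_one, mul_zero, zero_mul, mul_one, one_mul, add_zero, zero_add, one_pow, zero_pow two_ne_zero, zero_pow three_ne_zero]) <;> ring1),
        (by (try simp only [mul, ma1, na1, na2, nb2, na3, na4, na5, na6, na7, na8, nb8, map_zero, map_one, mul_zero, zero_mul, mul_one, one_mul, add_zero, zero_add, one_pow, zero_pow two_ne_zero, zero_pow three_ne_zero]) <;> ring1),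
        (by (try simp only [mul, ma1, na1, na2, nb2, na3, na4, na5, na6, na7, na8, nb8, map_zero, map_one, mul_zero, zero_mul, mul_one, one_mul, add_zero, zero_add, one_pow, zero_pow two_ne_zero, zero_pow three_ne_zero]) <;> ring1),
        (by (try simp only [mul, ma1, na1, na2, nb2, na3, na4, na5, na6, na7, na8, nb8, map_zero, map_one, mul_zero, zero_mul, mul_one, one_mul, add_zero, zero_add, one_pow, zero_pow two_ne_zero, zero_pow three_ne_zero]) <;> ring1)⟩
  · rintro ⟨h0, h⟩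
    have ma1 : c.a1 = 0 := by
      obtain ⟨-, -, -, -, -, e, -, -, -, -, -, -⟩ := p1_iff.1 (h ⟨0, 0, 0, 0, 0, 0, 0, 0, 1, 0, 0, 0⟩ rfl)
      simp only [mul, map_zero, map_one, mul_zero, zero_mul, mul_one, one_mul, add_zero, zero_add, one_pow, zero_pow two_ne_zero, zero_pow three_ne_zero] at e
      linear_combination e
    exact pB_iff.2 ma1

/-- `Q = {x ∈ U | [E4, x] ≤ Z}` -/
theorem u_Q (c : Cd K) : (pQ K) c = (pQ K) zc ↔ (pU K) c = (pU K) zc ∧ ∀ d, (pE4 K) d = (pE4 K) zc →
    (pZ K) (mul σ d c) = (pZ K) (mul σ c d) := by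
  constructor
  · intro h
    obtain ⟨ma8, mb8⟩ := pQ_iff.1 h
    simp only [zc] at ma8 mb8
    refine ⟨?_, fun d hd => ?_⟩
    · rfl
    · obtain ⟨na1, na2, nb2, na4, na6, na7, na8, nb8⟩ := pE4_iff.1 hd
      simp only [zc] at na1 na2 nb2 na4 na6 na7 na8 nb8
      exact pZ_iff.2 ⟨(by (try simp only [mul, ma8, mb8, na1, na2, nb2, na4, na6, na7, na8, nb8, map_zero, map_one, mul_zero, zero_mul, mul_one, one_mul, add_zero, zero_add, one_pow, zero_pow two_ne_zero, zero_pow three_ne_zero]) <;> ring1),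
        (by (try simp only [mul, ma8, mb8, na1, na2, nb2, na4, na6, na7, na8, nb8, map_zero, map_one, mul_zero, zero_mul, mul_one, one_mul, add_zero, zero_add, one_pow, zero_pow two_ne_zero, zero_pow three_ne_zero]) <;> ring1),
        (by (try simp only [mul, ma8, mb8, na1, na2, nb2, na4, na6, na7, na8, nb8, map_zero, map_one, mul_zero, zero_mul, mul_one, one_mul, add_zero, zero_add, one_pow, zero_pow two_ne_zero, zero_pow three_ne_zero]) <;> ring1),
        (by (try simp only [mul, ma8, mb8, na1, na2, nb2, na4, na6, na7, na8, nb8, map_zero, map_one, mul_zero, zero_mul, mul_one, one_mul, add_zero, zero_add, one_pow, zero_pow two_ne_zero, zero_pow three_ne_zero]) <;> ring1),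
        (by (try simp only [mul, ma8, mb8, na1, na2, nb2, na4, na6, na7, na8, nb8, map_zero, map_one, mul_zero, zero_mul, mul_one, one_mul, add_zero, zero_add, one_pow, zero_pow two_ne_zero, zero_pow three_ne_zero]) <;> ring1),
        (by (try simp only [mul, ma8, mb8, na1, na2, nb2, na4, na6, na7, na8, nb8, map_zero, map_one, mul_zero, zero_mul, mul_one, one_mul, add_zero, zero_add, one_pow, zero_pow two_ne_zero, zero_pow three_ne_zero]) <;> ring1),
        (by (try simp only [mul, ma8, mb8, na1, na2, nb2, na4, na6, na7, na8, nb8, map_zero, map_one, mul_zero, zero_mul, mul_one, one_mul, add_zero, zero_add, one_pow, zero_pow two_ne_zero, zero_pow three_ne_zero]) <;> ring1),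
        (by (try simp only [mul, ma8, mb8, na1, na2, nb2, na4, na6, na7, na8, nb8, map_zero, map_one, mul_zero, zero_mul, mul_one, one_mul, add_zero, zero_add, one_pow, zero_pow two_ne_zero, zero_pow three_ne_zero]) <;> ring1),
        (by (try simp only [mul, ma8, mb8, na1, na2, nb2, na4, na6, na7, na8, nb8, map_zero, map_one, mul_zero, zero_mul, mul_one, one_mul, add_zero, zero_add, one_pow, zero_pow two_ne_zero, zero_pow three_ne_zero]) <;> ring1),
        (by (try simp only [mul, ma8, mb8, na1, na2, nb2, na4, na6, na7, na8, nb8, map_zero, map_one, mul_zero, zero_mul, mul_one, one_mul, add_zero, zero_add, one_pow, zero_pow two_ne_zero, zero_pow three_ne_zero]) <;> ring1),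
        (by (try simp only [mul, ma8, mb8, na1, na2, nb2, na4, na6, na7, na8, nb8, map_zero, map_one, mul_zero, zero_mul, mul_one, one_mul, add_zero, zero_add, one_pow, zero_pow two_ne_zero, zero_pow three_ne_zero]) <;> ring1)⟩
  · rintro ⟨h0, h⟩
    have ma8 : c.a8 = 0 := by
      obtain ⟨-, -, -, -, -, e, -, -, -, -, -⟩ := pZ_iff.1 (h ⟨0, 0, 0, 1, 0, 0, 0, 0, 0, 0, 0, 0⟩ rfl)
      simp only [mul, map_zero, map_one, mul_zero, zero_mul, mul_one, one_mul, add_zero, zero_add, one_pow, zero_pow two_ne_zero, zero_pow three_ne_zero] at e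
      exact (map_eq_zero σ).1 (by linear_combination -e)
    have mb8 : c.b8 = 0 := by
      obtain ⟨-, -, -, -, -, -, -, e, -, -, -⟩ := pZ_iff.1 (h ⟨0, 0, 0, 1, 0, 0, 0, 0, 0, 0, 0, 0⟩ rfl)
      simp only [mul, ma8, map_zero, map_one, mul_zero, zero_mul, mul_one, one_mul, add_zero, zero_add, one_pow, zero_pow two_ne_zero, zero_pow three_ne_zero] at e
      linear_combination -e
    exact pQ_iff.2 ⟨ma8, mb8⟩

/-- `N = {x ∈ U | [Y, x] ≤ 1}` -/
theorem u_N (c : Cd K) : (pN K) c = (pN K) zc ↔ (pU K) c = (pU K) zc ∧ ∀ d, (pY K) d = (pY K) zc →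
    (fun c : Cd K => c) (mul σ d c) = (fun c : Cd K => c) (mul σ c d) := by
  constructor
  · intro h
    obtain ⟨ma1, ma2, ma8⟩ := pN_iff.1 h
    simp only [zc] at ma1 ma2 ma8
    refine ⟨?_, fun d hd => ?_⟩
    · rfl
    · obtain ⟨na1, na2, nb2, na3, na4, na6, na7, na8, nb8⟩ := pY_iff.1 hd
      simp only [zc] at na1 na2 nb2 na3 na4 na6 na7 na8 nb8
      exact p1_iff.2 ⟨(by (try simp only [mul, ma1, ma2, ma8, na1, na2, nb2, na3, na4, na6, na7, na8, nb8, map_zero, map_one, mul_zero, zero_mul, mul_one, one_mul, add_zero, zero_add, one_pow, zero_pow two_ne_zero, zero_pow three_ne_zero]) <;> ring1),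
        (by (try simp only [mul, ma1, ma2, ma8, na1, na2, nb2, na3, na4, na6, na7, na8, nb8, map_zero, map_one, mul_zero, zero_mul, mul_one, one_mul, add_zero, zero_add, one_pow, zero_pow two_ne_zero, zero_pow three_ne_zero]) <;> ring1),
        (by (try simp only [mul, ma1, ma2, ma8, na1, na2, nb2, na3, na4, na6, na7, na8, nb8, map_zero, map_one, mul_zero, zero_mul, mul_one, one_mul, add_zero, zero_add, one_pow, zero_pow two_ne_zero, zero_pow three_ne_zero]) <;> ring1),
        (by (try simp only [mul, ma1, ma2, ma8, na1, na2, nb2, na3, na4, na6, na7, na8, nb8, map_zero, map_one, mul_zero, zero_mul, mul_one, one_mul, add_zero, zero_add, one_pow, zero_pow two_ne_zero, zero_pow three_ne_zero]) <;> ring1),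
        (by (try simp only [mul, ma1, ma2, ma8, na1, na2, nb2, na3, na4, na6, na7, na8, nb8, map_zero, map_one, mul_zero, zero_mul, mul_one, one_mul, add_zero, zero_add, one_pow, zero_pow two_ne_zero, zero_pow three_ne_zero]) <;> ring1),
        (by (try simp only [mul, ma1, ma2, ma8, na1, na2, nb2, na3, na4, na6, na7, na8, nb8, map_zero, map_one, mul_zero, zero_mul, mul_one, one_mul, add_zero, zero_add, one_pow, zero_pow two_ne_zero, zero_pow three_ne_zero]) <;> ring1),
        (by (try simp only [mul, ma1, ma2, ma8, na1, na2, nb2, na3, na4, na6, na7, na8, nb8, map_zero, map_one, mul_zero, zero_mul, mul_one, one_mul, add_zero, zero_add, one_pow, zero_pow two_ne_zero, zero_pow three_ne_zero]) <;> ring1),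
        (by (try simp only [mul, ma1, ma2, ma8, na1, na2, nb2, na3, na4, na6, na7, na8, nb8, map_zero, map_one, mul_zero, zero_mul, mul_one, one_mul, add_zero, zero_add, one_pow, zero_pow two_ne_zero, zero_pow three_ne_zero]) <;> ring1),
        (by (try simp only [mul, ma1, ma2, ma8, na1, na2, nb2, na3, na4, na6, na7, na8, nb8, map_zero, map_one, mul_zero, zero_mul, mul_one, one_mul, add_zero, zero_add, one_pow, zero_pow two_ne_zero, zero_pow three_ne_zero]) <;> ring1),
        (by (try simp only [mul, ma1, ma2, ma8, na1, na2, nb2, na3, na4, na6, na7, na8, nb8, map_zero, map_one, mul_zero, zero_mul, mul_one, one_mul, add_zero, zero_add, one_pow, zero_pow two_ne_zero, zero_pow three_ne_zero]) <;> ring1),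
        (by (try simp only [mul, ma1, ma2, ma8, na1, na2, nb2, na3, na4, na6, na7, na8, nb8, map_zero, map_one, mul_zero, zero_mul, mul_one, one_mul, add_zero, zero_add, one_pow, zero_pow two_ne_zero, zero_pow three_ne_zero]) <;> ring1),
        (by (try simp only [mul, ma1, ma2, ma8, na1, na2, nb2, na3, na4, na6, na7, na8, nb8, map_zero, map_one, mul_zero, zero_mul, mul_one, one_mul, add_zero, zero_add, one_pow, zero_pow two_ne_zero, zero_pow three_ne_zero]) <;> ring1)⟩
  · rintro ⟨h0, h⟩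
    have ma2 : c.a2 = 0 := by
      obtain ⟨-, -, -, -, -, e, -, -, -, -, -, -⟩ := p1_iff.1 (h ⟨0, 0, 0, 0, 0, 0, 1, 0, 0, 0, 0, 0⟩ rfl)
      simp only [mul, map_zero, map_one, mul_zero, zero_mul, mul_one, one_mul, add_zero, zero_add, one_pow, zero_pow two_ne_zero, zero_pow three_ne_zero] at e
      linear_combination e
    have ma8 : c.a8 = 0 := by
      obtain ⟨-, -, -, -, -, -, -, -, e, -, -, -⟩ := p1_iff.1 (h ⟨0, 0, 0, 0, 0, 0, 1, 0, 0, 0, 0, 0⟩ rfl)
      simp only [mul, ma2, map_zero, map_one, mul_zero, zero_mul, mul_one, one_mul, add_zero, zero_add, one_pow, zero_pow two_ne_zero, zero_pow three_ne_zero] at e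
      linear_combination -e
    have ma1 : c.a1 = 0 := by
      obtain ⟨-, -, -, -, -, e, -, -, -, -, -, -⟩ := p1_iff.1 (h ⟨0, 0, 0, 0, 0, 0, 0, 0, 1, 0, 0, 0⟩ rfl)
      simp only [mul, ma2, ma8, map_zero, map_one, mul_zero, zero_mul, mul_one, one_mul, add_zero, zero_add, one_pow, zero_pow two_ne_zero, zero_pow three_ne_zero] at e
      linear_combination e
    exact pN_iff.2 ⟨ma1, ma2, ma8⟩

/-- `D = {x ∈ U | [E, x] ≤ 1}` -/
theorem u_D (c : Cd K) : (pD K) c = (pD K) zc ↔ (pU K) c = (pU K) zc ∧ ∀ d, (pE K) d = (pE K) zc →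
    (fun c : Cd K => c) (mul σ d c) = (fun c : Cd K => c) (mul σ c d) := by
  constructor
  · intro h
    obtain ⟨ma1, ma2, ma6, ma7, ma8, mb8⟩ := pD_iff.1 h
    simp only [zc] at ma1 ma2 ma6 ma7 ma8 mb8
    refine ⟨?_, fun d hd => ?_⟩
    · rfl
    · obtain ⟨na1, na2, na4, na6, na7, na8, nb8⟩ := pE_iff.1 hd
      simp only [zc] at na1 na2 na4 na6 na7 na8 nb8
      exact p1_iff.2 ⟨(by (try simp only [mul, ma1, ma2, ma6, ma7, ma8, mb8, na1, na2, na4, na6, na7, na8, nb8, map_zero, map_one, mul_zero, zero_mul, mul_one, one_mul, add_zero, zero_add, one_pow, zero_pow two_ne_zero, zero_pow three_ne_zero]) <;> ring1),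
        (by (try simp only [mul, ma1, ma2, ma6, ma7, ma8, mb8, na1, na2, na4, na6, na7, na8, nb8, map_zero, map_one, mul_zero, zero_mul, mul_one, one_mul, add_zero, zero_add, one_pow, zero_pow two_ne_zero, zero_pow three_ne_zero]) <;> ring1),
        (by (try simp only [mul, ma1, ma2, ma6, ma7, ma8, mb8, na1, na2, na4, na6, na7, na8, nb8, map_zero, map_one, mul_zero, zero_mul, mul_one, one_mul, add_zero, zero_add, one_pow, zero_pow two_ne_zero, zero_pow three_ne_zero]) <;> ring1),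
        (by (try simp only [mul, ma1, ma2, ma6, ma7, ma8, mb8, na1, na2, na4, na6, na7, na8, nb8, map_zero, map_one, mul_zero, zero_mul, mul_one, one_mul, add_zero, zero_add, one_pow, zero_pow two_ne_zero, zero_pow three_ne_zero]) <;> ring1),
        (by (try simp only [mul, ma1, ma2, ma6, ma7, ma8, mb8, na1, na2, na4, na6, na7, na8, nb8, map_zero, map_one, mul_zero, zero_mul, mul_one, one_mul, add_zero, zero_add, one_pow, zero_pow two_ne_zero, zero_pow three_ne_zero]) <;> ring1),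
        (by (try simp only [mul, ma1, ma2, ma6, ma7, ma8, mb8, na1, na2, na4, na6, na7, na8, nb8, map_zero, map_one, mul_zero, zero_mul, mul_one, one_mul, add_zero, zero_add, one_pow, zero_pow two_ne_zero, zero_pow three_ne_zero]) <;> ring1),
        (by (try simp only [mul, ma1, ma2, ma6, ma7, ma8, mb8, na1, na2, na4, na6, na7, na8, nb8, map_zero, map_one, mul_zero, zero_mul, mul_one, one_mul, add_zero, zero_add, one_pow, zero_pow two_ne_zero, zero_pow three_ne_zero]) <;> ring1),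
        (by (try simp only [mul, ma1, ma2, ma6, ma7, ma8, mb8, na1, na2, na4, na6, na7, na8, nb8, map_zero, map_one, mul_zero, zero_mul, mul_one, one_mul, add_zero, zero_add, one_pow, zero_pow two_ne_zero, zero_pow three_ne_zero]) <;> ring1),
        (by (try simp only [mul, ma1, ma2, ma6, ma7, ma8, mb8, na1, na2, na4, na6, na7, na8, nb8, map_zero, map_one, mul_zero, zero_mul, mul_one, one_mul, add_zero, zero_add, one_pow, zero_pow two_ne_zero, zero_pow three_ne_zero]) <;> ring1),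
        (by (try simp only [mul, ma1, ma2, ma6, ma7, ma8, mb8, na1, na2, na4, na6, na7, na8, nb8, map_zero, map_one, mul_zero, zero_mul, mul_one, one_mul, add_zero, zero_add, one_pow, zero_pow two_ne_zero, zero_pow three_ne_zero]) <;> ring1),
        (by (try simp only [mul, ma1, ma2, ma6, ma7, ma8, mb8, na1, na2, na4, na6, na7, na8, nb8, map_zero, map_one, mul_zero, zero_mul, mul_one, one_mul, add_zero, zero_add, one_pow, zero_pow two_ne_zero, zero_pow three_ne_zero]) <;> ring1),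
        (by (try simp only [mul, ma1, ma2, ma6, ma7, ma8, mb8, na1, na2, na4, na6, na7, na8, nb8, map_zero, map_one, mul_zero, zero_mul, mul_one, one_mul, add_zero, zero_add, one_pow, zero_pow two_ne_zero, zero_pow three_ne_zero]) <;> ring1)⟩
  · rintro ⟨h0, h⟩
    have ma8 : c.a8 = 0 := by
      obtain ⟨-, -, -, e, -, -, -, -, -, -, -, -⟩ := p1_iff.1 (h ⟨0, 0, 1, 0, 0, 0, 0, 0, 0, 0, 0, 0⟩ rfl)
      simp only [mul, map_zero, map_one, mul_zero, zero_mul, mul_one, one_mul, add_zero, zero_add, one_pow, zero_pow two_ne_zero, zero_pow three_ne_zero] at e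
      linear_combination -e
    have mb8 : c.b8 = 0 := by
      obtain ⟨-, -, -, -, -, -, e, -, -, -, -, -⟩ := p1_iff.1 (h ⟨0, 0, 1, 0, 0, 0, 0, 0, 0, 0, 0, 0⟩ rfl)
      simp only [mul, ma8, map_zero, map_one, mul_zero, zero_mul, mul_one, one_mul, add_zero, zero_add, one_pow, zero_pow two_ne_zero, zero_pow three_ne_zero] at e
      linear_combination -e
    have ma7 : c.a7 = 0 := by
      obtain ⟨-, -, -, -, -, e, -, -, -, -, -, -⟩ := p1_iff.1 (h ⟨0, 0, 1, 0, 0, 0, 0, 0, 0, 0, 0, 0⟩ rfl)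
      simp only [mul, ma8, mb8, map_zero, map_one, mul_zero, zero_mul, mul_one, one_mul, add_zero, zero_add, one_pow, zero_pow two_ne_zero, zero_pow three_ne_zero] at e
      linear_combination -e
    have ma6 : c.a6 = 0 := by
      obtain ⟨-, -, -, -, -, e, -, -, -, -, -, -⟩ := p1_iff.1 (h ⟨0, 0, 0, 1, 0, 0, 0, 0, 0, 0, 0, 0⟩ rfl)
      simp only [mul, ma8, mb8, ma7, map_zero, map_one, mul_zero, zero_mul, mul_one, one_mul, add_zero, zero_add, one_pow, zero_pow two_ne_zero, zero_pow three_ne_zero] at e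
      linear_combination -e
    have ma2 : c.a2 = 0 := by
      obtain ⟨-, -, -, -, -, e, -, -, -, -, -, -⟩ := p1_iff.1 (h ⟨0, 0, 0, 0, 0, 0, 1, 0, 0, 0, 0, 0⟩ rfl)
      simp only [mul, ma8, mb8, ma7, ma6, map_zero, map_one, mul_zero, zero_mul, mul_one, one_mul, add_zero, zero_add, one_pow, zero_pow two_ne_zero, zero_pow three_ne_zero] at e
      linear_combination e
    have ma1 : c.a1 = 0 := by
      obtain ⟨-, -, -, -, -, e, -, -, -, -, -, -⟩ := p1_iff.1 (h ⟨0, 0, 0, 0, 0, 0, 0, 0, 1, 0, 0, 0⟩ rfl)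
      simp only [mul, ma8, mb8, ma7, ma6, ma2, map_zero, map_one, mul_zero, zero_mul, mul_one, one_mul, add_zero, zero_add, one_pow, zero_pow two_ne_zero, zero_pow three_ne_zero] at e
      linear_combination e
    exact pD_iff.2 ⟨ma1, ma2, ma6, ma7, ma8, mb8⟩

end Cfsg.Agent.H181.TF
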