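import Cfsg.Agent.H181.TF.Facts

/-!
# S5262: chains, in coordinates (helper181, generated)

`ch_M_N : p_M c = p_M 0 → p_N (d c) = p_N (c d)`, i.e. `[U, M] ≤ N`.
-/

set_option autoImplicit false
set_option linter.all false
set_option maxHeartbeats 1000000

namespace Cfsg.Agent.H181.TF

open Cfsg.Agent.H745.TF

universe u v w

variable {K : Type u} [Field K] (σ : K →+* K)

/-- `[U, B] ≤ W` -/
theorem ch_B_W (c d : Cd K) (h : (pB K) c = (pB K) zc) : (pW K) (mul σ d c) = (pW K) (mul σ c d) := by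
  have ma1 := pB_iff.1 h
  simp only [zc] at ma1
  exact pW_iff.2 ⟨(by (try simp only [mul, ma1, map_zero, map_one, mul_zero, zero_mul, mul_one, one_mul, add_zero, zero_add, one_pow, zero_pow two_ne_zero, zero_pow three_ne_zero]) <;> ring1),
    (by (try simp only [mul, ma1, map_zero, map_one, mul_zero, zero_mul, mul_one, one_mul, add_zero, zero_add, one_pow, zero_pow two_ne_zero, zero_pow three_ne_zero]) <;> ring1)⟩

/-- `[U, W] ≤ N` -/
theorem ch_W_N (c d : Cd K) (h : (pW K) c = (pW K) zc) : (pN K) (mul σ d c) = (pN K) (mul σ c d) := by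
  obtain ⟨ma1, ma8⟩ := pW_iff.1 h
  simp only [zc] at ma1 ma8
  exact pN_iff.2 ⟨(by (try simp only [mul, ma1, ma8, map_zero, map_one, mul_zero, zero_mul, mul_one, one_mul, add_zero, zero_add, one_pow, zero_pow two_ne_zero, zero_pow three_ne_zero]) <;> ring1),
    (by (try simp only [mul, ma1, ma8, map_zero, map_one, mul_zero, zero_mul, mul_one, one_mul, add_zero, zero_add, one_pow, zero_pow two_ne_zero, zero_pow three_ne_zero]) <;> ring1),
    (by (try simp only [mul, ma1, ma8, map_zero, map_one, mul_zero, zero_mul, mul_one, one_mul, add_zero, zero_add, one_pow, zero_pow two_ne_zero, zero_pow three_ne_zero]) <;> ring1)⟩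

/-- `[U, N] ≤ F` -/
theorem ch_N_F (c d : Cd K) (h : (pN K) c = (pN K) zc) : (pF K) (mul σ d c) = (pF K) (mul σ c d) := by
  obtain ⟨ma1, ma2, ma8⟩ := pN_iff.1 h
  simp only [zc] at ma1 ma2 ma8
  exact pF_iff.2 ⟨(by (try simp only [mul, ma1, ma2, ma8, map_zero, map_one, mul_zero, zero_mul, mul_one, one_mul, add_zero, zero_add, one_pow, zero_pow two_ne_zero, zero_pow three_ne_zero]) <;> ring1),
    (by (try simp only [mul, ma1, ma2, ma8, map_zero, map_one, mul_zero, zero_mul, mul_one, one_mul, add_zero, zero_add, one_pow, zero_pow two_ne_zero, zero_pow three_ne_zero]) <;> ring1),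
    (by (try simp only [mul, ma1, ma2, ma8, map_zero, map_one, mul_zero, zero_mul, mul_one, one_mul, add_zero, zero_add, one_pow, zero_pow two_ne_zero, zero_pow three_ne_zero]) <;> ring1),
    (by (try simp only [mul, ma1, ma2, ma8, map_zero, map_one, mul_zero, zero_mul, mul_one, one_mul, add_zero, zero_add, one_pow, zero_pow two_ne_zero, zero_pow three_ne_zero]) <;> ring1)⟩

/-- `[U, F] ≤ F0` -/
theorem ch_F_F0 (c d : Cd K) (h : (pF K) c = (pF K) zc) : (pF0 K) (mul σ d c) = (pF0 K) (mul σ c d) := by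
  obtain ⟨ma1, ma2, ma8, mb8⟩ := pF_iff.1 h
  simp only [zc] at ma1 ma2 ma8 mb8
  exact pF0_iff.2 ⟨(by (try simp only [mul, ma1, ma2, ma8, mb8, map_zero, map_one, mul_zero, zero_mul, mul_one, one_mul, add_zero, zero_add, one_pow, zero_pow two_ne_zero, zero_pow three_ne_zero]) <;> ring1),
    (by (try simp only [mul, ma1, ma2, ma8, mb8, map_zero, map_one, mul_zero, zero_mul, mul_one, one_mul, add_zero, zero_add, one_pow, zero_pow two_ne_zero, zero_pow three_ne_zero]) <;> ring1),
    (by (try simp only [mul, ma1, ma2, ma8, mb8, map_zero, map_one, mul_zero, zero_mul, mul_one, one_mul, add_zero, zero_add, one_pow, zero_pow two_ne_zero, zero_pow three_ne_zero]) <;> ring1),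
    (by (try simp only [mul, ma1, ma2, ma8, mb8, map_zero, map_one, mul_zero, zero_mul, mul_one, one_mul, add_zero, zero_add, one_pow, zero_pow two_ne_zero, zero_pow three_ne_zero]) <;> ring1),
    (by (try simp only [mul, ma1, ma2, ma8, mb8, map_zero, map_one, mul_zero, zero_mul, mul_one, one_mul, add_zero, zero_add, one_pow, zero_pow two_ne_zero, zero_pow three_ne_zero]) <;> ring1),
    (by (try simp only [mul, ma1, ma2, ma8, mb8, map_zero, map_one, mul_zero, zero_mul, mul_one, one_mul, add_zero, zero_add, one_pow, zero_pow two_ne_zero, zero_pow three_ne_zero]) <;> ring1)⟩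

/-- `[U, F0] ≤ A` -/
theorem ch_F0_A (c d : Cd K) (h : (pF0 K) c = (pF0 K) zc) : (pA K) (mul σ d c) = (pA K) (mul σ c d) := by
  obtain ⟨ma1, ma2, ma4, ma6, ma8, mb8⟩ := pF0_iff.1 h
  simp only [zc] at ma1 ma2 ma4 ma6 ma8 mb8
  exact pA_iff.2 ⟨(by (try simp only [mul, ma1, ma2, ma4, ma6, ma8, mb8, map_zero, map_one, mul_zero, zero_mul, mul_one, one_mul, add_zero, zero_add, one_pow, zero_pow two_ne_zero, zero_pow three_ne_zero]) <;> ring1),
    (by (try simp only [mul, ma1, ma2, ma4, ma6, ma8, mb8, map_zero, map_one, mul_zero, zero_mul, mul_one, one_mul, add_zero, zero_add, one_pow, zero_pow two_ne_zero, zero_pow three_ne_zero]) <;> ring1),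
    (by (try simp only [mul, ma1, ma2, ma4, ma6, ma8, mb8, map_zero, map_one, mul_zero, zero_mul, mul_one, one_mul, add_zero, zero_add, one_pow, zero_pow two_ne_zero, zero_pow three_ne_zero]) <;> ring1),
    (by (try simp only [mul, ma1, ma2, ma4, ma6, ma8, mb8, map_zero, map_one, mul_zero, zero_mul, mul_one, one_mul, add_zero, zero_add, one_pow, zero_pow two_ne_zero, zero_pow three_ne_zero]) <;> ring1),
    (by (try simp only [mul, ma1, ma2, ma4, ma6, ma8, mb8, map_zero, map_one, mul_zero, zero_mul, mul_one, one_mul, add_zero, zero_add, one_pow, zero_pow two_ne_zero, zero_pow three_ne_zero]) <;> ring1),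
    (by (try simp only [mul, ma1, ma2, ma4, ma6, ma8, mb8, map_zero, map_one, mul_zero, zero_mul, mul_one, one_mul, add_zero, zero_add, one_pow, zero_pow two_ne_zero, zero_pow three_ne_zero]) <;> ring1),
    (by (try simp only [mul, ma1, ma2, ma4, ma6, ma8, mb8, map_zero, map_one, mul_zero, zero_mul, mul_one, one_mul, add_zero, zero_add, one_pow, zero_pow two_ne_zero, zero_pow three_ne_zero]) <;> ring1)⟩

/-- `[U, A] ≤ E4` -/
theorem ch_A_E4 (c d : Cd K) (h : (pA K) c = (pA K) zc) : (pE4 K) (mul σ d c) = (pE4 K) (mul σ c d) := by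
  obtain ⟨ma1, ma2, mb2, ma4, ma6, ma8, mb8⟩ := pA_iff.1 h
  simp only [zc] at ma1 ma2 mb2 ma4 ma6 ma8 mb8
  exact pE4_iff.2 ⟨(by (try simp only [mul, ma1, ma2, mb2, ma4, ma6, ma8, mb8, map_zero, map_one, mul_zero, zero_mul, mul_one, one_mul, add_zero, zero_add, one_pow, zero_pow two_ne_zero, zero_pow three_ne_zero]) <;> ring1),
    (by (try simp only [mul, ma1, ma2, mb2, ma4, ma6, ma8, mb8, map_zero, map_one, mul_zero, zero_mul, mul_one, one_mul, add_zero, zero_add, one_pow, zero_pow two_ne_zero, zero_pow three_ne_zero]) <;> ring1),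
    (by (try simp only [mul, ma1, ma2, mb2, ma4, ma6, ma8, mb8, map_zero, map_one, mul_zero, zero_mul, mul_one, one_mul, add_zero, zero_add, one_pow, zero_pow two_ne_zero, zero_pow three_ne_zero]) <;> ring1),
    (by (try simp only [mul, ma1, ma2, mb2, ma4, ma6, ma8, mb8, map_zero, map_one, mul_zero, zero_mul, mul_one, one_mul, add_zero, zero_add, one_pow, zero_pow two_ne_zero, zero_pow three_ne_zero]) <;> ring1),
    (by (try simp only [mul, ma1, ma2, mb2, ma4, ma6, ma8, mb8, map_zero, map_one, mul_zero, zero_mul, mul_one, one_mul, add_zero, zero_add, one_pow, zero_pow two_ne_zero, zero_pow three_ne_zero]) <;> ring1),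
    (by (try simp only [mul, ma1, ma2, mb2, ma4, ma6, ma8, mb8, map_zero, map_one, mul_zero, zero_mul, mul_one, one_mul, add_zero, zero_add, one_pow, zero_pow two_ne_zero, zero_pow three_ne_zero]) <;> ring1),
    (by (try simp only [mul, ma1, ma2, mb2, ma4, ma6, ma8, mb8, map_zero, map_one, mul_zero, zero_mul, mul_one, one_mul, add_zero, zero_add, one_pow, zero_pow two_ne_zero, zero_pow three_ne_zero]) <;> ring1),
    (by (try simp only [mul, ma1, ma2, mb2, ma4, ma6, ma8, mb8, map_zero, map_one, mul_zero, zero_mul, mul_one, one_mul, add_zero, zero_add, one_pow, zero_pow two_ne_zero, zero_pow three_ne_zero]) <;> ring1)⟩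

/-- `[U, E4] ≤ Y` -/
theorem ch_E4_Y (c d : Cd K) (h : (pE4 K) c = (pE4 K) zc) : (pY K) (mul σ d c) = (pY K) (mul σ c d) := by
  obtain ⟨ma1, ma2, mb2, ma4, ma6, ma7, ma8, mb8⟩ := pE4_iff.1 h
  simp only [zc] at ma1 ma2 mb2 ma4 ma6 ma7 ma8 mb8
  exact pY_iff.2 ⟨(by (try simp only [mul, ma1, ma2, mb2, ma4, ma6, ma7, ma8, mb8, map_zero, map_one, mul_zero, zero_mul, mul_one, one_mul, add_zero, zero_add, one_pow, zero_pow two_ne_zero, zero_pow three_ne_zero]) <;> ring1),
    (by (try simp only [mul, ma1, ma2, mb2, ma4, ma6, ma7, ma8, mb8, map_zero, map_one, mul_zero, zero_mul, mul_one, one_mul, add_zero, zero_add, one_pow, zero_pow two_ne_zero, zero_pow three_ne_zero]) <;> ring1),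
    (by (try simp only [mul, ma1, ma2, mb2, ma4, ma6, ma7, ma8, mb8, map_zero, map_one, mul_zero, zero_mul, mul_one, one_mul, add_zero, zero_add, one_pow, zero_pow two_ne_zero, zero_pow three_ne_zero]) <;> ring1),
    (by (try simp only [mul, ma1, ma2, mb2, ma4, ma6, ma7, ma8, mb8, map_zero, map_one, mul_zero, zero_mul, mul_one, one_mul, add_zero, zero_add, one_pow, zero_pow two_ne_zero, zero_pow three_ne_zero]) <;> ring1),
    (by (try simp only [mul, ma1, ma2, mb2, ma4, ma6, ma7, ma8, mb8, map_zero, map_one, mul_zero, zero_mul, mul_one, one_mul, add_zero, zero_add, one_pow, zero_pow two_ne_zero, zero_pow three_ne_zero]) <;> ring1),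
    (by (try simp only [mul, ma1, ma2, mb2, ma4, ma6, ma7, ma8, mb8, map_zero, map_one, mul_zero, zero_mul, mul_one, one_mul, add_zero, zero_add, one_pow, zero_pow two_ne_zero, zero_pow three_ne_zero]) <;> ring1),
    (by (try simp only [mul, ma1, ma2, mb2, ma4, ma6, ma7, ma8, mb8, map_zero, map_one, mul_zero, zero_mul, mul_one, one_mul, add_zero, zero_add, one_pow, zero_pow two_ne_zero, zero_pow three_ne_zero]) <;> ring1),
    (by (try simp only [mul, ma1, ma2, mb2, ma4, ma6, ma7, ma8, mb8, map_zero, map_one, mul_zero, zero_mul, mul_one, one_mul, add_zero, zero_add, one_pow, zero_pow two_ne_zero, zero_pow three_ne_zero]) <;> ring1),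
    (by (try simp only [mul, ma1, ma2, mb2, ma4, ma6, ma7, ma8, mb8, map_zero, map_one, mul_zero, zero_mul, mul_one, one_mul, add_zero, zero_add, one_pow, zero_pow two_ne_zero, zero_pow three_ne_zero]) <;> ring1)⟩

/-- `[U, Y] ≤ V` -/
theorem ch_Y_V (c d : Cd K) (h : (pY K) c = (pY K) zc) : (pV K) (mul σ d c) = (pV K) (mul σ c d) := by
  obtain ⟨ma1, ma2, mb2, ma3, ma4, ma6, ma7, ma8, mb8⟩ := pY_iff.1 h
  simp only [zc] at ma1 ma2 mb2 ma3 ma4 ma6 ma7 ma8 mb8
  exact pV_iff.2 ⟨(by (try simp only [mul, ma1, ma2, mb2, ma3, ma4, ma6, ma7, ma8, mb8, map_zero, map_one, mul_zero, zero_mul, mul_one, one_mul, add_zero, zero_add, one_pow, zero_pow two_ne_zero, zero_pow three_ne_zero]) <;> ring1),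
    (by (try simp only [mul, ma1, ma2, mb2, ma3, ma4, ma6, ma7, ma8, mb8, map_zero, map_one, mul_zero, zero_mul, mul_one, one_mul, add_zero, zero_add, one_pow, zero_pow two_ne_zero, zero_pow three_ne_zero]) <;> ring1),
    (by (try simp only [mul, ma1, ma2, mb2, ma3, ma4, ma6, ma7, ma8, mb8, map_zero, map_one, mul_zero, zero_mul, mul_one, one_mul, add_zero, zero_add, one_pow, zero_pow two_ne_zero, zero_pow three_ne_zero]) <;> ring1),
    (by (try simp only [mul, ma1, ma2, mb2, ma3, ma4, ma6, ma7, ma8, mb8, map_zero, map_one, mul_zero, zero_mul, mul_one, one_mul, add_zero, zero_add, one_pow, zero_pow two_ne_zero, zero_pow three_ne_zero]) <;> ring1),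
    (by (try simp only [mul, ma1, ma2, mb2, ma3, ma4, ma6, ma7, ma8, mb8, map_zero, map_one, mul_zero, zero_mul, mul_one, one_mul, add_zero, zero_add, one_pow, zero_pow two_ne_zero, zero_pow three_ne_zero]) <;> ring1),
    (by (try simp only [mul, ma1, ma2, mb2, ma3, ma4, ma6, ma7, ma8, mb8, map_zero, map_one, mul_zero, zero_mul, mul_one, one_mul, add_zero, zero_add, one_pow, zero_pow two_ne_zero, zero_pow three_ne_zero]) <;> ring1),
    (by (try simp only [mul, ma1, ma2, mb2, ma3, ma4, ma6, ma7, ma8, mb8, map_zero, map_one, mul_zero, zero_mul, mul_one, one_mul, add_zero, zero_add, one_pow, zero_pow two_ne_zero, zero_pow three_ne_zero]) <;> ring1),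
    (by (try simp only [mul, ma1, ma2, mb2, ma3, ma4, ma6, ma7, ma8, mb8, map_zero, map_one, mul_zero, zero_mul, mul_one, one_mul, add_zero, zero_add, one_pow, zero_pow two_ne_zero, zero_pow three_ne_zero]) <;> ring1),
    (by (try simp only [mul, ma1, ma2, mb2, ma3, ma4, ma6, ma7, ma8, mb8, map_zero, map_one, mul_zero, zero_mul, mul_one, one_mul, add_zero, zero_add, one_pow, zero_pow two_ne_zero, zero_pow three_ne_zero]) <;> ring1),
    (by (try simp only [mul, ma1, ma2, mb2, ma3, ma4, ma6, ma7, ma8, mb8, map_zero, map_one, mul_zero, zero_mul, mul_one, one_mul, add_zero, zero_add, one_pow, zero_pow two_ne_zero, zero_pow three_ne_zero]) <;> ring1)⟩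

/-- `[U, V] ≤ Z` -/
theorem ch_V_Z (c d : Cd K) (h : (pV K) c = (pV K) zc) : (pZ K) (mul σ d c) = (pZ K) (mul σ c d) := by
  obtain ⟨ma1, ma2, mb2, ma3, ma4, ma5, ma6, ma7, ma8, mb8⟩ := pV_iff.1 h
  simp only [zc] at ma1 ma2 mb2 ma3 ma4 ma5 ma6 ma7 ma8 mb8
  exact pZ_iff.2 ⟨(by (try simp only [mul, ma1, ma2, mb2, ma3, ma4, ma5, ma6, ma7, ma8, mb8, map_zero, map_one, mul_zero, zero_mul, mul_one, one_mul, add_zero, zero_add, one_pow, zero_pow two_ne_zero, zero_pow three_ne_zero]) <;> ring1),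
    (by (try simp only [mul, ma1, ma2, mb2, ma3, ma4, ma5, ma6, ma7, ma8, mb8, map_zero, map_one, mul_zero, zero_mul, mul_one, one_mul, add_zero, zero_add, one_pow, zero_pow two_ne_zero, zero_pow three_ne_zero]) <;> ring1),
    (by (try simp only [mul, ma1, ma2, mb2, ma3, ma4, ma5, ma6, ma7, ma8, mb8, map_zero, map_one, mul_zero, zero_mul, mul_one, one_mul, add_zero, zero_add, one_pow, zero_pow two_ne_zero, zero_pow three_ne_zero]) <;> ring1),
    (by (try simp only [mul, ma1, ma2, mb2, ma3, ma4, ma5, ma6, ma7, ma8, mb8, map_zero, map_one, mul_zero, zero_mul, mul_one, one_mul, add_zero, zero_add, one_pow, zero_pow two_ne_zero, zero_pow three_ne_zero]) <;> ring1),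
    (by (try simp only [mul, ma1, ma2, mb2, ma3, ma4, ma5, ma6, ma7, ma8, mb8, map_zero, map_one, mul_zero, zero_mul, mul_one, one_mul, add_zero, zero_add, one_pow, zero_pow two_ne_zero, zero_pow three_ne_zero]) <;> ring1),
    (by (try simp only [mul, ma1, ma2, mb2, ma3, ma4, ma5, ma6, ma7, ma8, mb8, map_zero, map_one, mul_zero, zero_mul, mul_one, one_mul, add_zero, zero_add, one_pow, zero_pow two_ne_zero, zero_pow three_ne_zero]) <;> ring1),
    (by (try simp only [mul, ma1, ma2, mb2, ma3, ma4, ma5, ma6, ma7, ma8, mb8, map_zero, map_one, mul_zero, zero_mul, mul_one, one_mul, add_zero, zero_add, one_pow, zero_pow two_ne_zero, zero_pow three_ne_zero]) <;> ring1),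
    (by (try simp only [mul, ma1, ma2, mb2, ma3, ma4, ma5, ma6, ma7, ma8, mb8, map_zero, map_one, mul_zero, zero_mul, mul_one, one_mul, add_zero, zero_add, one_pow, zero_pow two_ne_zero, zero_pow three_ne_zero]) <;> ring1),
    (by (try simp only [mul, ma1, ma2, mb2, ma3, ma4, ma5, ma6, ma7, ma8, mb8, map_zero, map_one, mul_zero, zero_mul, mul_one, one_mul, add_zero, zero_add, one_pow, zero_pow two_ne_zero, zero_pow three_ne_zero]) <;> ring1),
    (by (try simp only [mul, ma1, ma2, mb2, ma3, ma4, ma5, ma6, ma7, ma8, mb8, map_zero, map_one, mul_zero, zero_mul, mul_one, one_mul, add_zero, zero_add, one_pow, zero_pow two_ne_zero, zero_pow three_ne_zero]) <;> ring1),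
    (by (try simp only [mul, ma1, ma2, mb2, ma3, ma4, ma5, ma6, ma7, ma8, mb8, map_zero, map_one, mul_zero, zero_mul, mul_one, one_mul, add_zero, zero_add, one_pow, zero_pow two_ne_zero, zero_pow three_ne_zero]) <;> ring1)⟩

/-- `[U, Z] ≤ 1` -/
theorem ch_Z_1 (c d : Cd K) (h : (pZ K) c = (pZ K) zc) : (fun c : Cd K => c) (mul σ d c) = (fun c : Cd K => c) (mul σ c d) := by
  obtain ⟨ma1, ma2, mb2, ma3, ma4, ma5, ma6, mb6, ma7, ma8, mb8⟩ := pZ_iff.1 h
  simp only [zc] at ma1 ma2 mb2 ma3 ma4 ma5 ma6 mb6 ma7 ma8 mb8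
  exact p1_iff.2 ⟨(by (try simp only [mul, ma1, ma2, mb2, ma3, ma4, ma5, ma6, mb6, ma7, ma8, mb8, map_zero, map_one, mul_zero, zero_mul, mul_one, one_mul, add_zero, zero_add, one_pow, zero_pow two_ne_zero, zero_pow three_ne_zero]) <;> ring1),
    (by (try simp only [mul, ma1, ma2, mb2, ma3, ma4, ma5, ma6, mb6, ma7, ma8, mb8, map_zero, map_one, mul_zero, zero_mul, mul_one, one_mul, add_zero, zero_add, one_pow, zero_pow two_ne_zero, zero_pow three_ne_zero]) <;> ring1),
    (by (try simp only [mul, ma1, ma2, mb2, ma3, ma4, ma5, ma6, mb6, ma7, ma8, mb8, map_zero, map_one, mul_zero, zero_mul, mul_one, one_mul, add_zero, zero_add, one_pow, zero_pow two_ne_zero, zero_pow three_ne_zero]) <;> ring1),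
    (by (try simp only [mul, ma1, ma2, mb2, ma3, ma4, ma5, ma6, mb6, ma7, ma8, mb8, map_zero, map_one, mul_zero, zero_mul, mul_one, one_mul, add_zero, zero_add, one_pow, zero_pow two_ne_zero, zero_pow three_ne_zero]) <;> ring1),
    (by (try simp only [mul, ma1, ma2, mb2, ma3, ma4, ma5, ma6, mb6, ma7, ma8, mb8, map_zero, map_one, mul_zero, zero_mul, mul_one, one_mul, add_zero, zero_add, one_pow, zero_pow two_ne_zero, zero_pow three_ne_zero]) <;> ring1),
    (by (try simp only [mul, ma1, ma2, mb2, ma3, ma4, ma5, ma6, mb6, ma7, ma8, mb8, map_zero, map_one, mul_zero, zero_mul, mul_one, one_mul, add_zero, zero_add, one_pow, zero_pow two_ne_zero, zero_pow three_ne_zero]) <;> ring1),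
    (by (try simp only [mul, ma1, ma2, mb2, ma3, ma4, ma5, ma6, mb6, ma7, ma8, mb8, map_zero, map_one, mul_zero, zero_mul, mul_one, one_mul, add_zero, zero_add, one_pow, zero_pow two_ne_zero, zero_pow three_ne_zero]) <;> ring1),
    (by (try simp only [mul, ma1, ma2, mb2, ma3, ma4, ma5, ma6, mb6, ma7, ma8, mb8, map_zero, map_one, mul_zero, zero_mul, mul_one, one_mul, add_zero, zero_add, one_pow, zero_pow two_ne_zero, zero_pow three_ne_zero]) <;> ring1),
    (by (try simp only [mul, ma1, ma2, mb2, ma3, ma4, ma5, ma6, mb6, ma7, ma8, mb8, map_zero, map_one, mul_zero, zero_mul, mul_one, one_mul, add_zero, zero_add, one_pow, zero_pow two_ne_zero, zero_pow three_ne_zero]) <;> ring1),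
    (by (try simp only [mul, ma1, ma2, mb2, ma3, ma4, ma5, ma6, mb6, ma7, ma8, mb8, map_zero, map_one, mul_zero, zero_mul, mul_one, one_mul, add_zero, zero_add, one_pow, zero_pow two_ne_zero, zero_pow three_ne_zero]) <;> ring1),
    (by (try simp only [mul, ma1, ma2, mb2, ma3, ma4, ma5, ma6, mb6, ma7, ma8, mb8, map_zero, map_one, mul_zero, zero_mul, mul_one, one_mul, add_zero, zero_add, one_pow, zero_pow two_ne_zero, zero_pow three_ne_zero]) <;> ring1),
    (by (try simp only [mul, ma1, ma2, mb2, ma3, ma4, ma5, ma6, mb6, ma7, ma8, mb8, map_zero, map_one, mul_zero, zero_mul, mul_one, one_mul, add_zero, zero_add, one_pow, zero_pow two_ne_zero, zero_pow three_ne_zero]) <;> ring1)⟩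

/-- `[U, Q] ≤ 2` -/
theorem ch_Q_2 (c d : Cd K) (h : (pQ K) c = (pQ K) zc) : (p2 K) (mul σ d c) = (p2 K) (mul σ c d) := by
  obtain ⟨ma8, mb8⟩ := pQ_iff.1 h
  simp only [zc] at ma8 mb8
  exact p2_iff.2 ⟨(by (try simp only [mul, ma8, mb8, map_zero, map_one, mul_zero, zero_mul, mul_one, one_mul, add_zero, zero_add, one_pow, zero_pow two_ne_zero, zero_pow three_ne_zero]) <;> ring1),
    (by (try simp only [mul, ma8, mb8, map_zero, map_one, mul_zero, zero_mul, mul_one, one_mul, add_zero, zero_add, one_pow, zero_pow two_ne_zero, zero_pow three_ne_zero]) <;> ring1),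
    (by (try simp only [mul, ma8, mb8, map_zero, map_one, mul_zero, zero_mul, mul_one, one_mul, add_zero, zero_add, one_pow, zero_pow two_ne_zero, zero_pow three_ne_zero]) <;> ring1)⟩

/-- `[U, 2] ≤ F` -/
theorem ch_2_F (c d : Cd K) (h : (p2 K) c = (p2 K) zc) : (pF K) (mul σ d c) = (pF K) (mul σ c d) := by
  obtain ⟨ma1, ma8, mb8⟩ := p2_iff.1 h
  simp only [zc] at ma1 ma8 mb8
  exact pF_iff.2 ⟨(by (try simp only [mul, ma1, ma8, mb8, map_zero, map_one, mul_zero, zero_mul, mul_one, one_mul, add_zero, zero_add, one_pow, zero_pow two_ne_zero, zero_pow three_ne_zero]) <;> ring1),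
    (by (try simp only [mul, ma1, ma8, mb8, map_zero, map_one, mul_zero, zero_mul, mul_one, one_mul, add_zero, zero_add, one_pow, zero_pow two_ne_zero, zero_pow three_ne_zero]) <;> ring1),
    (by (try simp only [mul, ma1, ma8, mb8, map_zero, map_one, mul_zero, zero_mul, mul_one, one_mul, add_zero, zero_add, one_pow, zero_pow two_ne_zero, zero_pow three_ne_zero]) <;> ring1),
    (by (try simp only [mul, ma1, ma8, mb8, map_zero, map_one, mul_zero, zero_mul, mul_one, one_mul, add_zero, zero_add, one_pow, zero_pow two_ne_zero, zero_pow three_ne_zero]) <;> ring1)⟩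

/-- `[U, F] ≤ 7` -/
theorem ch_F_7 (c d : Cd K) (h : (pF K) c = (pF K) zc) : (p7 K) (mul σ d c) = (p7 K) (mul σ c d) := by
  obtain ⟨ma1, ma2, ma8, mb8⟩ := pF_iff.1 h
  simp only [zc] at ma1 ma2 ma8 mb8
  exact p7_iff.2 ⟨(by (try simp only [mul, ma1, ma2, ma8, mb8, map_zero, map_one, mul_zero, zero_mul, mul_one, one_mul, add_zero, zero_add, one_pow, zero_pow two_ne_zero, zero_pow three_ne_zero]) <;> ring1),
    (by (try simp only [mul, ma1, ma2, ma8, mb8, map_zero, map_one, mul_zero, zero_mul, mul_one, one_mul, add_zero, zero_add, one_pow, zero_pow two_ne_zero, zero_pow three_ne_zero]) <;> ring1),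
    (by (try simp only [mul, ma1, ma2, ma8, mb8, map_zero, map_one, mul_zero, zero_mul, mul_one, one_mul, add_zero, zero_add, one_pow, zero_pow two_ne_zero, zero_pow three_ne_zero]) <;> ring1),
    (by (try simp only [mul, ma1, ma2, ma8, mb8, map_zero, map_one, mul_zero, zero_mul, mul_one, one_mul, add_zero, zero_add, one_pow, zero_pow two_ne_zero, zero_pow three_ne_zero]) <;> ring1),
    (by (try simp only [mul, ma1, ma2, ma8, mb8, map_zero, map_one, mul_zero, zero_mul, mul_one, one_mul, add_zero, zero_add, one_pow, zero_pow two_ne_zero, zero_pow three_ne_zero]) <;> ring1)⟩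

/-- `[U, 7] ≤ D` -/
theorem ch_7_D (c d : Cd K) (h : (p7 K) c = (p7 K) zc) : (pD K) (mul σ d c) = (pD K) (mul σ c d) := by
  obtain ⟨ma1, ma2, ma6, ma8, mb8⟩ := p7_iff.1 h
  simp only [zc] at ma1 ma2 ma6 ma8 mb8
  exact pD_iff.2 ⟨(by (try simp only [mul, ma1, ma2, ma6, ma8, mb8, map_zero, map_one, mul_zero, zero_mul, mul_one, one_mul, add_zero, zero_add, one_pow, zero_pow two_ne_zero, zero_pow three_ne_zero]) <;> ring1),
    (by (try simp only [mul, ma1, ma2, ma6, ma8, mb8, map_zero, map_one, mul_zero, zero_mul, mul_one, one_mul, add_zero, zero_add, one_pow, zero_pow two_ne_zero, zero_pow three_ne_zero]) <;> ring1),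
    (by (try simp only [mul, ma1, ma2, ma6, ma8, mb8, map_zero, map_one, mul_zero, zero_mul, mul_one, one_mul, add_zero, zero_add, one_pow, zero_pow two_ne_zero, zero_pow three_ne_zero]) <;> ring1),
    (by (try simp only [mul, ma1, ma2, ma6, ma8, mb8, map_zero, map_one, mul_zero, zero_mul, mul_one, one_mul, add_zero, zero_add, one_pow, zero_pow two_ne_zero, zero_pow three_ne_zero]) <;> ring1),
    (by (try simp only [mul, ma1, ma2, ma6, ma8, mb8, map_zero, map_one, mul_zero, zero_mul, mul_one, one_mul, add_zero, zero_add, one_pow, zero_pow two_ne_zero, zero_pow three_ne_zero]) <;> ring1),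
    (by (try simp only [mul, ma1, ma2, ma6, ma8, mb8, map_zero, map_one, mul_zero, zero_mul, mul_one, one_mul, add_zero, zero_add, one_pow, zero_pow two_ne_zero, zero_pow three_ne_zero]) <;> ring1)⟩

/-- `[U, D] ≤ E` -/
theorem ch_D_E (c d : Cd K) (h : (pD K) c = (pD K) zc) : (pE K) (mul σ d c) = (pE K) (mul σ c d) := by
  obtain ⟨ma1, ma2, ma6, ma7, ma8, mb8⟩ := pD_iff.1 h
  simp only [zc] at ma1 ma2 ma6 ma7 ma8 mb8
  exact pE_iff.2 ⟨(by (try simp only [mul, ma1, ma2, ma6, ma7, ma8, mb8, map_zero, map_one, mul_zero, zero_mul, mul_one, one_mul, add_zero, zero_add, one_pow, zero_pow two_ne_zero, zero_pow three_ne_zero]) <;> ring1),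
    (by (try simp only [mul, ma1, ma2, ma6, ma7, ma8, mb8, map_zero, map_one, mul_zero, zero_mul, mul_one, one_mul, add_zero, zero_add, one_pow, zero_pow two_ne_zero, zero_pow three_ne_zero]) <;> ring1),
    (by (try simp only [mul, ma1, ma2, ma6, ma7, ma8, mb8, map_zero, map_one, mul_zero, zero_mul, mul_one, one_mul, add_zero, zero_add, one_pow, zero_pow two_ne_zero, zero_pow three_ne_zero]) <;> ring1),
    (by (try simp only [mul, ma1, ma2, ma6, ma7, ma8, mb8, map_zero, map_one, mul_zero, zero_mul, mul_one, one_mul, add_zero, zero_add, one_pow, zero_pow two_ne_zero, zero_pow three_ne_zero]) <;> ring1),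
    (by (try simp only [mul, ma1, ma2, ma6, ma7, ma8, mb8, map_zero, map_one, mul_zero, zero_mul, mul_one, one_mul, add_zero, zero_add, one_pow, zero_pow two_ne_zero, zero_pow three_ne_zero]) <;> ring1),
    (by (try simp only [mul, ma1, ma2, ma6, ma7, ma8, mb8, map_zero, map_one, mul_zero, zero_mul, mul_one, one_mul, add_zero, zero_add, one_pow, zero_pow two_ne_zero, zero_pow three_ne_zero]) <;> ring1),
    (by (try simp only [mul, ma1, ma2, ma6, ma7, ma8, mb8, map_zero, map_one, mul_zero, zero_mul, mul_one, one_mul, add_zero, zero_add, one_pow, zero_pow two_ne_zero, zero_pow three_ne_zero]) <;> ring1)⟩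

/-- `[U, E] ≤ E4` -/
theorem ch_E_E4 (c d : Cd K) (h : (pE K) c = (pE K) zc) : (pE4 K) (mul σ d c) = (pE4 K) (mul σ c d) := by
  obtain ⟨ma1, ma2, ma4, ma6, ma7, ma8, mb8⟩ := pE_iff.1 h
  simp only [zc] at ma1 ma2 ma4 ma6 ma7 ma8 mb8
  exact pE4_iff.2 ⟨(by (try simp only [mul, ma1, ma2, ma4, ma6, ma7, ma8, mb8, map_zero, map_one, mul_zero, zero_mul, mul_one, one_mul, add_zero, zero_add, one_pow, zero_pow two_ne_zero, zero_pow three_ne_zero]) <;> ring1),
    (by (try simp only [mul, ma1, ma2, ma4, ma6, ma7, ma8, mb8, map_zero, map_one, mul_zero, zero_mul, mul_one, one_mul, add_zero, zero_add, one_pow, zero_pow two_ne_zero, zero_pow three_ne_zero]) <;> ring1),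
    (by (try simp only [mul, ma1, ma2, ma4, ma6, ma7, ma8, mb8, map_zero, map_one, mul_zero, zero_mul, mul_one, one_mul, add_zero, zero_add, one_pow, zero_pow two_ne_zero, zero_pow three_ne_zero]) <;> ring1),
    (by (try simp only [mul, ma1, ma2, ma4, ma6, ma7, ma8, mb8, map_zero, map_one, mul_zero, zero_mul, mul_one, one_mul, add_zero, zero_add, one_pow, zero_pow two_ne_zero, zero_pow three_ne_zero]) <;> ring1),
    (by (try simp only [mul, ma1, ma2, ma4, ma6, ma7, ma8, mb8, map_zero, map_one, mul_zero, zero_mul, mul_one, one_mul, add_zero, zero_add, one_pow, zero_pow two_ne_zero, zero_pow three_ne_zero]) <;> ring1),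
    (by (try simp only [mul, ma1, ma2, ma4, ma6, ma7, ma8, mb8, map_zero, map_one, mul_zero, zero_mul, mul_one, one_mul, add_zero, zero_add, one_pow, zero_pow two_ne_zero, zero_pow three_ne_zero]) <;> ring1),
    (by (try simp only [mul, ma1, ma2, ma4, ma6, ma7, ma8, mb8, map_zero, map_one, mul_zero, zero_mul, mul_one, one_mul, add_zero, zero_add, one_pow, zero_pow two_ne_zero, zero_pow three_ne_zero]) <;> ring1),
    (by (try simp only [mul, ma1, ma2, ma4, ma6, ma7, ma8, mb8, map_zero, map_one, mul_zero, zero_mul, mul_one, one_mul, add_zero, zero_add, one_pow, zero_pow two_ne_zero, zero_pow three_ne_zero]) <;> ring1)⟩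

end Cfsg.Agent.H181.TF
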