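import Cfsg.Agent.H181.TF.TIFin

/-!
# S5262: more subgroups described by commutators, in coordinates (helper181, generated)
-/

set_option autoImplicit false
set_option linter.all false
set_option maxHeartbeats 1000000

namespace Cfsg.Agent.H181.TF

open Cfsg.Agent.H745.TF

universe u v w

variable {K : Type u} [Field K]

variable (σ : K →+* K)

/-- `2 = {x ∈ Q | [D, x] ≤ E4}` -/
theorem qa_2s (c : Cd K) : (p2 K) c = (p2 K) zc ↔ (pQ K) c = (pQ K) zc ∧ ∀ d, (pD K) d = (pD K) zc →
    (pE4 K) (mul σ d c) = (pE4 K) (mul σ c d) := by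
  constructor
  · intro h
    obtain ⟨ma1, ma8, mb8⟩ := p2_iff.1 h
    simp only [zc] at ma1 ma8 mb8
    refine ⟨?_, fun d hd => ?_⟩
    · exact pQ_iff.2 ⟨ma8, mb8⟩
    · obtain ⟨na1, na2, na6, na7, na8, nb8⟩ := pD_iff.1 hd
      simp only [zc] at na1 na2 na6 na7 na8 nb8
      exact pE4_iff.2 ⟨(by (try simp only [mul, ma1, ma8, mb8, na1, na2, na6, na7, na8, nb8, map_zero, map_one, mul_zero, zero_mul, mul_one, one_mul, add_zero, zero_add, one_pow, zero_pow two_ne_zero, zero_pow three_ne_zero]) <;> ring1),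
        (by (try simp only [mul, ma1, ma8, mb8, na1, na2, na6, na7, na8, nb8, map_zero, map_one, mul_zero, zero_mul, mul_one, one_mul, add_zero, zero_add, one_pow, zero_pow two_ne_zero, zero_pow three_ne_zero]) <;> ring1),
        (by (try simp only [mul, ma1, ma8, mb8, na1, na2, na6, na7, na8, nb8, map_zero, map_one, mul_zero, zero_mul, mul_one, one_mul, add_zero, zero_add, one_pow, zero_pow two_ne_zero, zero_pow three_ne_zero]) <;> ring1),
        (by (try simp only [mul, ma1, ma8, mb8, na1, na2, na6, na7, na8, nb8, map_zero, map_one, mul_zero, zero_mul, mul_one, one_mul, add_zero, zero_add, one_pow, zero_pow two_ne_zero, zero_pow three_ne_zero]) <;> ring1),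
        (by (try simp only [mul, ma1, ma8, mb8, na1, na2, na6, na7, na8, nb8, map_zero, map_one, mul_zero, zero_mul, mul_one, one_mul, add_zero, zero_add, one_pow, zero_pow two_ne_zero, zero_pow three_ne_zero]) <;> ring1),
        (by (try simp only [mul, ma1, ma8, mb8, na1, na2, na6, na7, na8, nb8, map_zero, map_one, mul_zero, zero_mul, mul_one, one_mul, add_zero, zero_add, one_pow, zero_pow two_ne_zero, zero_pow three_ne_zero]) <;> ring1),
        (by (try simp only [mul, ma1, ma8, mb8, na1, na2, na6, na7, na8, nb8, map_zero, map_one, mul_zero, zero_mul, mul_one, one_mul, add_zero, zero_add, one_pow, zero_pow two_ne_zero, zero_pow three_ne_zero]) <;> ring1),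
        (by (try simp only [mul, ma1, ma8, mb8, na1, na2, na6, na7, na8, nb8, map_zero, map_one, mul_zero, zero_mul, mul_one, one_mul, add_zero, zero_add, one_pow, zero_pow two_ne_zero, zero_pow three_ne_zero]) <;> ring1)⟩
  · rintro ⟨h0, h⟩
    obtain ⟨ma8, mb8⟩ := pQ_iff.1 h0
    simp only [zc] at ma8 mb8
    have ma1 : c.a1 = 0 := by
      obtain ⟨-, -, e, -, -, -, -, -⟩ := pE4_iff.1 (h ⟨0, 0, 0, 0, 1, 0, 0, 0, 0, 0, 0, 0⟩ rfl)
      simp only [mul, ma8, mb8, map_zero, map_one, mul_zero, zero_mul, mul_one, one_mul, add_zero, zero_add, one_pow, zero_pow two_ne_zero, zero_pow three_ne_zero] at e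
      linear_combination e
    exact p2_iff.2 ⟨ma1, ma8, mb8⟩

/-- `V = {x ∈ E4 | [2, x] ≤ 1}` -/
theorem qa_Vs (c : Cd K) : (pV K) c = (pV K) zc ↔ (pE4 K) c = (pE4 K) zc ∧ ∀ d, (p2 K) d = (p2 K) zc →
    (fun c : Cd K => c) (mul σ d c) = (fun c : Cd K => c) (mul σ c d) := by
  constructor
  · intro h
    obtain ⟨ma1, ma2, mb2, ma3, ma4, ma5, ma6, ma7, ma8, mb8⟩ := pV_iff.1 h
    simp only [zc] at ma1 ma2 mb2 ma3 ma4 ma5 ma6 ma7 ma8 mb8
    refine ⟨?_, fun d hd => ?_⟩
    · exact pE4_iff.2 ⟨ma1, ma2, mb2, ma4, ma6, ma7, ma8, mb8⟩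
    · obtain ⟨na1, na8, nb8⟩ := p2_iff.1 hd
      simp only [zc] at na1 na8 nb8
      exact p1_iff.2 ⟨(by (try simp only [mul, ma1, ma2, mb2, ma3, ma4, ma5, ma6, ma7, ma8, mb8, na1, na8, nb8, map_zero, map_one, mul_zero, zero_mul, mul_one, one_mul, add_zero, zero_add, one_pow, zero_pow two_ne_zero, zero_pow three_ne_zero]) <;> ring1),
        (by (try simp only [mul, ma1, ma2, mb2, ma3, ma4, ma5, ma6, ma7, ma8, mb8, na1, na8, nb8, map_zero, map_one, mul_zero, zero_mul, mul_one, one_mul, add_zero, zero_add, one_pow, zero_pow two_ne_zero, zero_pow three_ne_zero]) <;> ring1),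
        (by (try simp only [mul, ma1, ma2, mb2, ma3, ma4, ma5, ma6, ma7, ma8, mb8, na1, na8, nb8, map_zero, map_one, mul_zero, zero_mul, mul_one, one_mul, add_zero, zero_add, one_pow, zero_pow two_ne_zero, zero_pow three_ne_zero]) <;> ring1),
        (by (try simp only [mul, ma1, ma2, mb2, ma3, ma4, ma5, ma6, ma7, ma8, mb8, na1, na8, nb8, map_zero, map_one, mul_zero, zero_mul, mul_one, one_mul, add_zero, zero_add, one_pow, zero_pow two_ne_zero, zero_pow three_ne_zero]) <;> ring1),
        (by (try simp only [mul, ma1, ma2, mb2, ma3, ma4, ma5, ma6, ma7, ma8, mb8, na1, na8, nb8, map_zero, map_one, mul_zero, zero_mul, mul_one, one_mul, add_zero, zero_add, one_pow, zero_pow two_ne_zero, zero_pow three_ne_zero]) <;> ring1),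
        (by (try simp only [mul, ma1, ma2, mb2, ma3, ma4, ma5, ma6, ma7, ma8, mb8, na1, na8, nb8, map_zero, map_one, mul_zero, zero_mul, mul_one, one_mul, add_zero, zero_add, one_pow, zero_pow two_ne_zero, zero_pow three_ne_zero]) <;> ring1),
        (by (try simp only [mul, ma1, ma2, mb2, ma3, ma4, ma5, ma6, ma7, ma8, mb8, na1, na8, nb8, map_zero, map_one, mul_zero, zero_mul, mul_one, one_mul, add_zero, zero_add, one_pow, zero_pow two_ne_zero, zero_pow three_ne_zero]) <;> ring1),
        (by (try simp only [mul, ma1, ma2, mb2, ma3, ma4, ma5, ma6, ma7, ma8, mb8, na1, na8, nb8, map_zero, map_one, mul_zero, zero_mul, mul_one, one_mul, add_zero, zero_add, one_pow, zero_pow two_ne_zero, zero_pow three_ne_zero]) <;> ring1),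
        (by (try simp only [mul, ma1, ma2, mb2, ma3, ma4, ma5, ma6, ma7, ma8, mb8, na1, na8, nb8, map_zero, map_one, mul_zero, zero_mul, mul_one, one_mul, add_zero, zero_add, one_pow, zero_pow two_ne_zero, zero_pow three_ne_zero]) <;> ring1),
        (by (try simp only [mul, ma1, ma2, mb2, ma3, ma4, ma5, ma6, ma7, ma8, mb8, na1, na8, nb8, map_zero, map_one, mul_zero, zero_mul, mul_one, one_mul, add_zero, zero_add, one_pow, zero_pow two_ne_zero, zero_pow three_ne_zero]) <;> ring1),
        (by (try simp only [mul, ma1, ma2, mb2, ma3, ma4, ma5, ma6, ma7, ma8, mb8, na1, na8, nb8, map_zero, map_one, mul_zero, zero_mul, mul_one, one_mul, add_zero, zero_add, one_pow, zero_pow two_ne_zero, zero_pow three_ne_zero]) <;> ring1),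
        (by (try simp only [mul, ma1, ma2, mb2, ma3, ma4, ma5, ma6, ma7, ma8, mb8, na1, na8, nb8, map_zero, map_one, mul_zero, zero_mul, mul_one, one_mul, add_zero, zero_add, one_pow, zero_pow two_ne_zero, zero_pow three_ne_zero]) <;> ring1)⟩
  · rintro ⟨h0, h⟩
    obtain ⟨ma1, ma2, mb2, ma4, ma6, ma7, ma8, mb8⟩ := pE4_iff.1 h0
    simp only [zc] at ma1 ma2 mb2 ma4 ma6 ma7 ma8 mb8
    have ma5 : c.a5 = 0 := by
      obtain ⟨-, -, -, -, -, e, -, -, -, -, -, -⟩ := p1_iff.1 (h ⟨0, 1, 0, 0, 0, 0, 0, 0, 0, 0, 0, 0⟩ rfl)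
      simp only [mul, ma1, ma2, mb2, ma4, ma6, ma7, ma8, mb8, map_zero, map_one, mul_zero, zero_mul, mul_one, one_mul, add_zero, zero_add, one_pow, zero_pow two_ne_zero, zero_pow three_ne_zero] at e
      linear_combination -e
    have ma3 : c.a3 = 0 := by
      obtain ⟨-, -, -, -, -, e, -, -, -, -, -, -⟩ := p1_iff.1 (h ⟨0, 0, 0, 0, 0, 0, 0, 1, 0, 0, 0, 0⟩ rfl)
      simp only [mul, ma1, ma2, mb2, ma4, ma6, ma7, ma8, mb8, ma5, map_zero, map_one, mul_zero, zero_mul, mul_one, one_mul, add_zero, zero_add, one_pow, zero_pow two_ne_zero, zero_pow three_ne_zero] at e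
      linear_combination e
    exact pV_iff.2 ⟨ma1, ma2, mb2, ma3, ma4, ma5, ma6, ma7, ma8, mb8⟩

end Cfsg.Agent.H181.TF
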