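import Cfsg.Agent.H181.TF.Coll

/-!
# S5262: the product in coordinates, main statements (helper181)

`Ok.E_mul`, `Ok.E_inv` for a family with `OctRel`; `el_mul`, `el_inv`, `el_one` for `T : TF σ U`.
-/

set_option autoImplicit false
set_option linter.all false
set_option maxHeartbeats 1000000

namespace Cfsg.Agent.H181.TF

open Cfsg.Agent.H745.TF Cfsg.Agent.Octagon.Pkg

universe u v

namespace Ok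

variable {K : Type u} [Field K] {σ : K →+* K} {G : Type v} [Group G] {F : Fam K G} (H : Ok σ F)
include H

theorem E_one : F.E ⟨0, 0, 0, 0, 0, 0, 0, 0, 0, 0, 0, 0⟩ = 1 := by
  simp only [Fam.E, H.z1, H.z2, H.z3, H.z4, H.z5, H.z6, H.z7, H.z8, mul_one]

theorem E_mul (c d : Cd K) : F.E c * F.E d = F.E (mul σ c d) := by
  change F.E ⟨c.a1, c.a2, c.b2, c.a3, c.a4, c.b4, c.a5, c.a6, c.b6, c.a7, c.a8, c.b8⟩ *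
    (F.x1 d.a1 * F.x2 d.a2 d.b2 * F.x3 d.a3 * F.x4 d.a4 d.b4 * F.x5 d.a5 * F.x6 d.a6 d.b6 * F.x7 d.a7 * F.x8 d.a8 d.b8) = _
  simp only [← mul_assoc]
  rw [show F.E ⟨c.a1, c.a2, c.b2, c.a3, c.a4, c.b4, c.a5, c.a6, c.b6, c.a7, c.a8, c.b8⟩ *
      F.x1 d.a1 =
      F.E ⟨c.a1 + d.a1, c.a2 + c.a8 * d.a1, c.b2 + c.a4 * d.a1 + c.a6 * σ d.a1 + c.a2 * σ c.a8 * σ d.a1 + c.b8 * d.a1 *
      σ d.a1, c.a3 + σ c.a6 * d.a1 + c.a7 * σ d.a1 + c.a4 * c.a8 * d.a1 + σ c.b8 * d.a1 * σ d.a1 + c.a8 * c.b8 *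
      d.a1 * σ d.a1 + c.a8 ^ 2 * σ c.a8 * d.a1 * σ d.a1, c.a4 + c.b8 * σ d.a1, c.b4 + c.b6 * d.a1 + c.a5 * c.a8 *
      d.a1 + c.a6 * c.a7 * σ d.a1 + c.a4 * σ c.b8 * d.a1 ^ 2 + c.a6 * σ c.b8 * d.a1 * σ d.a1 + σ c.a7 * c.a8 * d.a1
      ^ 2 + c.a7 * c.b8 * d.a1 * σ d.a1 + c.a6 * c.a8 * c.b8 * d.a1 * σ d.a1 + c.a7 * c.a8 * σ c.a8 * d.a1 * σ d.a1
      + c.b8 * σ c.b8 * d.a1 ^ 2 * σ d.a1 + c.a6 * c.a8 ^ 2 * σ c.a8 * d.a1 * σ d.a1 + c.a8 * c.b8 ^ 2 * d.a1 ^ 2 *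
      σ d.a1 + c.a8 * σ c.a8 * σ c.b8 * d.a1 ^ 2 * σ d.a1 + c.a8 ^ 3 * (σ c.a8) ^ 2 * d.a1 ^ 2 * σ d.a1, c.a5 + σ
      c.a7 * d.a1 + c.a6 * c.b8 * σ d.a1 + c.a7 * σ c.a8 * σ d.a1 + σ c.a8 * σ c.b8 * d.a1 * σ d.a1 + c.b8 ^ 2 *
      d.a1 * σ d.a1 + c.a8 ^ 2 * (σ c.a8) ^ 2 * d.a1 * σ d.a1, c.a6 + c.b8 * d.a1 + c.a8 * σ c.a8 * d.a1, c.b6 +
      c.a6 * σ c.b8 * σ d.a1 + σ c.a7 * c.a8 * d.a1 + c.a7 * c.b8 * σ d.a1 + c.a6 * c.a8 ^ 2 * σ c.a8 * σ d.a1 +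
      c.a8 * c.b8 ^ 2 * d.a1 * σ d.a1 + c.a8 * σ c.a8 * σ c.b8 * d.a1 * σ d.a1 + c.a8 ^ 3 * (σ c.a8) ^ 2 * d.a1 * σ
      d.a1, c.a7 + σ c.b8 * d.a1 + c.a8 * c.b8 * d.a1 + c.a8 ^ 2 * σ c.a8 * d.a1, c.a8, c.b8⟩ by
    refine (H.R1 _ _).trans ?_
    refine congrArg F.E (Cd.ext ?_ ?_ ?_ ?_ ?_ ?_ ?_ ?_ ?_ ?_ ?_ ?_)
    · first | with_reducible rfl | ((try simp only [map_add, map_mul, map_pow, map_zero, H.hs]) <;> ring1)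
    · first | with_reducible rfl | ((try simp only [map_add, map_mul, map_pow, map_zero, H.hs]) <;> ring1)
    · first | with_reducible rfl | ((try simp only [map_add, map_mul, map_pow, map_zero, H.hs]) <;> ring1)
    · first | with_reducible rfl | ((try simp only [map_add, map_mul, map_pow, map_zero, H.hs]) <;> ring1)
    · first | with_reducible rfl | ((try simp only [map_add, map_mul, map_pow, map_zero, H.hs]) <;> ring1)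
    · first | with_reducible rfl | ((try simp only [map_add, map_mul, map_pow, map_zero, H.hs]) <;> ring1)
    · first | with_reducible rfl | ((try simp only [map_add, map_mul, map_pow, map_zero, H.hs]) <;> ring1)
    · first | with_reducible rfl | ((try simp only [map_add, map_mul, map_pow, map_zero, H.hs]) <;> ring1)
    · first | with_reducible rfl | ((try simp only [map_add, map_mul, map_pow, map_zero, H.hs]) <;> ring1)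
    · first | with_reducible rfl | ((try simp only [map_add, map_mul, map_pow, map_zero, H.hs]) <;> ring1)
    · first | with_reducible rfl | ((try simp only [map_add, map_mul, map_pow, map_zero, H.hs]) <;> ring1)
    · first | with_reducible rfl | ((try simp only [map_add, map_mul, map_pow, map_zero, H.hs]) <;> ring1)
    ]
  rw [show F.E ⟨c.a1 + d.a1, c.a2 + c.a8 * d.a1, c.b2 + c.a4 * d.a1 + c.a6 * σ d.a1 + c.a2 * σ c.a8 * σ d.a1 + c.b8 * d.a1 *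
      σ d.a1, c.a3 + σ c.a6 * d.a1 + c.a7 * σ d.a1 + c.a4 * c.a8 * d.a1 + σ c.b8 * d.a1 * σ d.a1 + c.a8 * c.b8 *
      d.a1 * σ d.a1 + c.a8 ^ 2 * σ c.a8 * d.a1 * σ d.a1, c.a4 + c.b8 * σ d.a1, c.b4 + c.b6 * d.a1 + c.a5 * c.a8 *
      d.a1 + c.a6 * c.a7 * σ d.a1 + c.a4 * σ c.b8 * d.a1 ^ 2 + c.a6 * σ c.b8 * d.a1 * σ d.a1 + σ c.a7 * c.a8 * d.a1
      ^ 2 + c.a7 * c.b8 * d.a1 * σ d.a1 + c.a6 * c.a8 * c.b8 * d.a1 * σ d.a1 + c.a7 * c.a8 * σ c.a8 * d.a1 * σ d.a1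
      + c.b8 * σ c.b8 * d.a1 ^ 2 * σ d.a1 + c.a6 * c.a8 ^ 2 * σ c.a8 * d.a1 * σ d.a1 + c.a8 * c.b8 ^ 2 * d.a1 ^ 2 *
      σ d.a1 + c.a8 * σ c.a8 * σ c.b8 * d.a1 ^ 2 * σ d.a1 + c.a8 ^ 3 * (σ c.a8) ^ 2 * d.a1 ^ 2 * σ d.a1, c.a5 + σ
      c.a7 * d.a1 + c.a6 * c.b8 * σ d.a1 + c.a7 * σ c.a8 * σ d.a1 + σ c.a8 * σ c.b8 * d.a1 * σ d.a1 + c.b8 ^ 2 *
      d.a1 * σ d.a1 + c.a8 ^ 2 * (σ c.a8) ^ 2 * d.a1 * σ d.a1, c.a6 + c.b8 * d.a1 + c.a8 * σ c.a8 * d.a1, c.b6 +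
      c.a6 * σ c.b8 * σ d.a1 + σ c.a7 * c.a8 * d.a1 + c.a7 * c.b8 * σ d.a1 + c.a6 * c.a8 ^ 2 * σ c.a8 * σ d.a1 +
      c.a8 * c.b8 ^ 2 * d.a1 * σ d.a1 + c.a8 * σ c.a8 * σ c.b8 * d.a1 * σ d.a1 + c.a8 ^ 3 * (σ c.a8) ^ 2 * d.a1 * σ
      d.a1, c.a7 + σ c.b8 * d.a1 + c.a8 * c.b8 * d.a1 + c.a8 ^ 2 * σ c.a8 * d.a1, c.a8, c.b8⟩ *
      F.x2 d.a2 d.b2 =
      F.E ⟨c.a1 + d.a1, c.a2 + d.a2 + c.a8 * d.a1, c.b2 + d.b2 + c.a2 * σ d.a2 + c.a4 * d.a1 + c.a6 * σ d.a1 + c.a2 * σ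
      c.a8 * σ d.a1 + c.a8 * d.a1 * σ d.a2 + c.b8 * d.a1 * σ d.a1, c.a3 + c.a4 * d.a2 + σ c.a6 * d.a1 + c.a7 * σ
      d.a1 + c.a8 * d.b2 + c.a4 * c.a8 * d.a1 + c.a8 * d.a2 * σ d.a2 + σ c.b8 * d.a1 * σ d.a1 + c.b8 * σ d.a1 * d.a2
      + c.a8 * c.b8 * d.a1 * σ d.a1 + c.a8 ^ 2 * σ c.a8 * d.a1 * σ d.a1, c.a4 + c.a8 * σ d.a2 + c.b8 * σ d.a1, c.b4
      + c.a5 * d.a2 + c.a7 * d.b2 + c.b6 * d.a1 + c.b8 * σ d.b2 + c.a5 * c.a8 * d.a1 + c.a6 * c.a7 * σ d.a1 + c.a6 *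
      c.a8 * d.b2 + σ c.a7 * d.a1 * d.a2 + c.a7 * d.a2 * σ d.a2 + σ c.b8 * d.a1 * d.b2 + c.b8 * d.a2 * d.b2 + c.a4 *
      σ c.a8 * d.a2 ^ 2 + c.a4 * σ c.b8 * d.a1 ^ 2 + c.a6 * c.a8 * d.a2 * σ d.a2 + c.a6 * σ c.b8 * d.a1 * σ d.a1 +
      c.a6 * c.b8 * σ d.a1 * d.a2 + σ c.a7 * c.a8 * d.a1 ^ 2 + c.a7 * σ c.a8 * σ d.a1 * d.a2 + c.a7 * c.b8 * d.a1 *
      σ d.a1 + c.a8 * σ c.a8 * d.a2 * d.b2 + σ c.b8 * d.a1 * d.a2 * σ d.a2 + c.b8 * d.a2 ^ 2 * σ d.a2 + c.a6 * c.a8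
      * c.b8 * d.a1 * σ d.a1 + c.a7 * c.a8 * σ c.a8 * d.a1 * σ d.a1 + σ c.a8 * σ c.b8 * d.a1 * σ d.a1 * d.a2 + σ
      c.a8 * c.b8 * σ d.a1 * d.a2 ^ 2 + c.a8 * σ c.a8 * d.a2 ^ 2 * σ d.a2 + c.b8 * σ c.b8 * d.a1 ^ 2 * σ d.a1 + c.b8
      ^ 2 * d.a1 * σ d.a1 * d.a2 + c.a6 * c.a8 ^ 2 * σ c.a8 * d.a1 * σ d.a1 + c.a8 * c.b8 ^ 2 * d.a1 ^ 2 * σ d.a1 +
      c.a8 * σ c.a8 * σ c.b8 * d.a1 ^ 2 * σ d.a1 + c.a8 ^ 2 * (σ c.a8) ^ 2 * d.a1 * σ d.a1 * d.a2 + c.a8 ^ 3 * (σ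
      c.a8) ^ 2 * d.a1 ^ 2 * σ d.a1, c.a5 + σ c.a7 * d.a1 + c.a7 * σ d.a2 + c.b8 * d.b2 + c.a6 * c.a8 * σ d.a2 +
      c.a6 * c.b8 * σ d.a1 + c.a7 * σ c.a8 * σ d.a1 + c.a8 * σ c.a8 * d.b2 + σ c.b8 * d.a1 * σ d.a2 + σ c.a8 * σ
      c.b8 * d.a1 * σ d.a1 + c.b8 ^ 2 * d.a1 * σ d.a1 + c.a8 ^ 2 * (σ c.a8) ^ 2 * d.a1 * σ d.a1, c.a6 + σ c.a8 *
      d.a2 + c.b8 * d.a1 + c.a8 * σ c.a8 * d.a1, c.b6 + σ c.a7 * d.a2 + σ c.b8 * d.b2 + c.a6 * σ c.b8 * σ d.a1 + σ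
      c.a7 * c.a8 * d.a1 + c.a7 * c.a8 * σ d.a2 + c.a7 * c.b8 * σ d.a1 + c.a8 * c.b8 * d.b2 + σ c.b8 * d.a2 * σ d.a2
      + c.a6 * c.a8 ^ 2 * σ d.a2 + σ c.a8 * σ c.b8 * σ d.a1 * d.a2 + c.a8 * σ c.b8 * d.a1 * σ d.a2 + c.a8 ^ 2 * σ
      c.a8 * d.b2 + c.b8 ^ 2 * σ d.a1 * d.a2 + c.a6 * c.a8 ^ 2 * σ c.a8 * σ d.a1 + c.a8 * c.b8 ^ 2 * d.a1 * σ d.a1 +
      c.a8 * σ c.a8 * σ c.b8 * d.a1 * σ d.a1 + c.a8 ^ 2 * (σ c.a8) ^ 2 * σ d.a1 * d.a2 + c.a8 ^ 3 * (σ c.a8) ^ 2 *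
      d.a1 * σ d.a1, c.a7 + σ c.b8 * d.a1 + c.b8 * d.a2 + c.a8 * c.b8 * d.a1 + c.a8 ^ 2 * σ c.a8 * d.a1, c.a8, c.b8⟩ by
    refine (H.R2 _ _ _).trans ?_
    refine congrArg F.E (Cd.ext ?_ ?_ ?_ ?_ ?_ ?_ ?_ ?_ ?_ ?_ ?_ ?_)
    · first | with_reducible rfl | ((try simp only [map_add, map_mul, map_pow, map_zero, H.hs]) <;> ring1)
    · first | with_reducible rfl | ((try simp only [map_add, map_mul, map_pow, map_zero, H.hs]) <;> ring1)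
    · first | with_reducible rfl | ((try simp only [map_add, map_mul, map_pow, map_zero, H.hs]) <;> ring1)
    · first | with_reducible rfl | ((try simp only [map_add, map_mul, map_pow, map_zero, H.hs]) <;> ring1)
    · first | with_reducible rfl | ((try simp only [map_add, map_mul, map_pow, map_zero, H.hs]) <;> ring1)
    · try simp only [map_add, map_mul, map_pow, map_zero, H.hs]
      linear_combination (c.a8 * c.b8 * d.a1 * d.a2 * σ d.a2 + c.a8 * c.b8 * d.a1 * d.b2 + c.a8 ^ 2 * σ c.a8 * d.a1 * d.a2 * σ d.a2 +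
      c.a8 ^ 2 * σ c.a8 * d.a1 * d.b2) * H.h2
    · try simp only [map_add, map_mul, map_pow, map_zero, H.hs]
      linear_combination (c.a8 * c.b8 * d.a1 * σ d.a2 + c.a8 ^ 2 * σ c.a8 * d.a1 * σ d.a2) * H.h2
    · first | with_reducible rfl | ((try simp only [map_add, map_mul, map_pow, map_zero, H.hs]) <;> ring1)
    · try simp only [map_add, map_mul, map_pow, map_zero, H.hs]
      linear_combination (c.a8 ^ 2 * c.b8 * d.a1 * σ d.a2 + c.a8 ^ 3 * σ c.a8 * d.a1 * σ d.a2) * H.h2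
    · first | with_reducible rfl | ((try simp only [map_add, map_mul, map_pow, map_zero, H.hs]) <;> ring1)
    · first | with_reducible rfl | ((try simp only [map_add, map_mul, map_pow, map_zero, H.hs]) <;> ring1)
    · first | with_reducible rfl | ((try simp only [map_add, map_mul, map_pow, map_zero, H.hs]) <;> ring1)
    ]
  rw [show F.E ⟨c.a1 + d.a1, c.a2 + d.a2 + c.a8 * d.a1, c.b2 + d.b2 + c.a2 * σ d.a2 + c.a4 * d.a1 + c.a6 * σ d.a1 + c.a2 * σ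
      c.a8 * σ d.a1 + c.a8 * d.a1 * σ d.a2 + c.b8 * d.a1 * σ d.a1, c.a3 + c.a4 * d.a2 + σ c.a6 * d.a1 + c.a7 * σ
      d.a1 + c.a8 * d.b2 + c.a4 * c.a8 * d.a1 + c.a8 * d.a2 * σ d.a2 + σ c.b8 * d.a1 * σ d.a1 + c.b8 * σ d.a1 * d.a2
      + c.a8 * c.b8 * d.a1 * σ d.a1 + c.a8 ^ 2 * σ c.a8 * d.a1 * σ d.a1, c.a4 + c.a8 * σ d.a2 + c.b8 * σ d.a1, c.b4
      + c.a5 * d.a2 + c.a7 * d.b2 + c.b6 * d.a1 + c.b8 * σ d.b2 + c.a5 * c.a8 * d.a1 + c.a6 * c.a7 * σ d.a1 + c.a6 *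
      c.a8 * d.b2 + σ c.a7 * d.a1 * d.a2 + c.a7 * d.a2 * σ d.a2 + σ c.b8 * d.a1 * d.b2 + c.b8 * d.a2 * d.b2 + c.a4 *
      σ c.a8 * d.a2 ^ 2 + c.a4 * σ c.b8 * d.a1 ^ 2 + c.a6 * c.a8 * d.a2 * σ d.a2 + c.a6 * σ c.b8 * d.a1 * σ d.a1 +
      c.a6 * c.b8 * σ d.a1 * d.a2 + σ c.a7 * c.a8 * d.a1 ^ 2 + c.a7 * σ c.a8 * σ d.a1 * d.a2 + c.a7 * c.b8 * d.a1 *
      σ d.a1 + c.a8 * σ c.a8 * d.a2 * d.b2 + σ c.b8 * d.a1 * d.a2 * σ d.a2 + c.b8 * d.a2 ^ 2 * σ d.a2 + c.a6 * c.a8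
      * c.b8 * d.a1 * σ d.a1 + c.a7 * c.a8 * σ c.a8 * d.a1 * σ d.a1 + σ c.a8 * σ c.b8 * d.a1 * σ d.a1 * d.a2 + σ
      c.a8 * c.b8 * σ d.a1 * d.a2 ^ 2 + c.a8 * σ c.a8 * d.a2 ^ 2 * σ d.a2 + c.b8 * σ c.b8 * d.a1 ^ 2 * σ d.a1 + c.b8
      ^ 2 * d.a1 * σ d.a1 * d.a2 + c.a6 * c.a8 ^ 2 * σ c.a8 * d.a1 * σ d.a1 + c.a8 * c.b8 ^ 2 * d.a1 ^ 2 * σ d.a1 +
      c.a8 * σ c.a8 * σ c.b8 * d.a1 ^ 2 * σ d.a1 + c.a8 ^ 2 * (σ c.a8) ^ 2 * d.a1 * σ d.a1 * d.a2 + c.a8 ^ 3 * (σ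
      c.a8) ^ 2 * d.a1 ^ 2 * σ d.a1, c.a5 + σ c.a7 * d.a1 + c.a7 * σ d.a2 + c.b8 * d.b2 + c.a6 * c.a8 * σ d.a2 +
      c.a6 * c.b8 * σ d.a1 + c.a7 * σ c.a8 * σ d.a1 + c.a8 * σ c.a8 * d.b2 + σ c.b8 * d.a1 * σ d.a2 + σ c.a8 * σ
      c.b8 * d.a1 * σ d.a1 + c.b8 ^ 2 * d.a1 * σ d.a1 + c.a8 ^ 2 * (σ c.a8) ^ 2 * d.a1 * σ d.a1, c.a6 + σ c.a8 *
      d.a2 + c.b8 * d.a1 + c.a8 * σ c.a8 * d.a1, c.b6 + σ c.a7 * d.a2 + σ c.b8 * d.b2 + c.a6 * σ c.b8 * σ d.a1 + σ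
      c.a7 * c.a8 * d.a1 + c.a7 * c.a8 * σ d.a2 + c.a7 * c.b8 * σ d.a1 + c.a8 * c.b8 * d.b2 + σ c.b8 * d.a2 * σ d.a2
      + c.a6 * c.a8 ^ 2 * σ d.a2 + σ c.a8 * σ c.b8 * σ d.a1 * d.a2 + c.a8 * σ c.b8 * d.a1 * σ d.a2 + c.a8 ^ 2 * σ
      c.a8 * d.b2 + c.b8 ^ 2 * σ d.a1 * d.a2 + c.a6 * c.a8 ^ 2 * σ c.a8 * σ d.a1 + c.a8 * c.b8 ^ 2 * d.a1 * σ d.a1 +
      c.a8 * σ c.a8 * σ c.b8 * d.a1 * σ d.a1 + c.a8 ^ 2 * (σ c.a8) ^ 2 * σ d.a1 * d.a2 + c.a8 ^ 3 * (σ c.a8) ^ 2 *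
      d.a1 * σ d.a1, c.a7 + σ c.b8 * d.a1 + c.b8 * d.a2 + c.a8 * c.b8 * d.a1 + c.a8 ^ 2 * σ c.a8 * d.a1, c.a8, c.b8⟩ *
      F.x3 d.a3 =
      F.E ⟨c.a1 + d.a1, c.a2 + d.a2 + c.a8 * d.a1, c.b2 + d.b2 + c.a2 * σ d.a2 + c.a4 * d.a1 + c.a6 * σ d.a1 + c.a2 * σ
      c.a8 * σ d.a1 + c.a8 * d.a1 * σ d.a2 + c.b8 * d.a1 * σ d.a1, c.a3 + d.a3 + c.a4 * d.a2 + σ c.a6 * d.a1 + c.a7
      * σ d.a1 + c.a8 * d.b2 + c.a4 * c.a8 * d.a1 + c.a8 * d.a2 * σ d.a2 + σ c.b8 * d.a1 * σ d.a1 + c.b8 * σ d.a1 *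
      d.a2 + c.a8 * c.b8 * d.a1 * σ d.a1 + c.a8 ^ 2 * σ c.a8 * d.a1 * σ d.a1, c.a4 + c.a8 * σ d.a2 + c.b8 * σ d.a1,
      c.b4 + c.a5 * d.a2 + c.a6 * d.a3 + c.a7 * d.b2 + c.a8 * σ d.a3 + c.b6 * d.a1 + c.b8 * σ d.b2 + c.a5 * c.a8 *
      d.a1 + c.a6 * c.a7 * σ d.a1 + c.a6 * c.a8 * d.b2 + σ c.a7 * d.a1 * d.a2 + c.a7 * d.a2 * σ d.a2 + σ c.a8 * d.a2
      * d.a3 + σ c.b8 * d.a1 * d.b2 + c.b8 * d.a1 * d.a3 + c.b8 * d.a2 * d.b2 + c.a4 * σ c.a8 * d.a2 ^ 2 + c.a4 * σ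
      c.b8 * d.a1 ^ 2 + c.a6 * c.a8 * d.a2 * σ d.a2 + c.a6 * σ c.b8 * d.a1 * σ d.a1 + c.a6 * c.b8 * σ d.a1 * d.a2 +
      σ c.a7 * c.a8 * d.a1 ^ 2 + c.a7 * σ c.a8 * σ d.a1 * d.a2 + c.a7 * c.b8 * d.a1 * σ d.a1 + c.a8 * σ c.a8 * d.a1
      * d.a3 + c.a8 * σ c.a8 * d.a2 * d.b2 + σ c.b8 * d.a1 * d.a2 * σ d.a2 + c.b8 * d.a2 ^ 2 * σ d.a2 + c.a6 * c.a8
      * c.b8 * d.a1 * σ d.a1 + c.a7 * c.a8 * σ c.a8 * d.a1 * σ d.a1 + σ c.a8 * σ c.b8 * d.a1 * σ d.a1 * d.a2 + σ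
      c.a8 * c.b8 * σ d.a1 * d.a2 ^ 2 + c.a8 * σ c.a8 * d.a2 ^ 2 * σ d.a2 + c.b8 * σ c.b8 * d.a1 ^ 2 * σ d.a1 + c.b8
      ^ 2 * d.a1 * σ d.a1 * d.a2 + c.a6 * c.a8 ^ 2 * σ c.a8 * d.a1 * σ d.a1 + c.a8 * c.b8 ^ 2 * d.a1 ^ 2 * σ d.a1 +
      c.a8 * σ c.a8 * σ c.b8 * d.a1 ^ 2 * σ d.a1 + c.a8 ^ 2 * (σ c.a8) ^ 2 * d.a1 * σ d.a1 * d.a2 + c.a8 ^ 3 * (σ
      c.a8) ^ 2 * d.a1 ^ 2 * σ d.a1, c.a5 + σ c.a7 * d.a1 + c.a7 * σ d.a2 + σ c.a8 * d.a3 + c.b8 * d.b2 + c.a6 *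
      c.a8 * σ d.a2 + c.a6 * c.b8 * σ d.a1 + c.a7 * σ c.a8 * σ d.a1 + c.a8 * σ c.a8 * d.b2 + σ c.b8 * d.a1 * σ d.a2
      + σ c.a8 * σ c.b8 * d.a1 * σ d.a1 + c.b8 ^ 2 * d.a1 * σ d.a1 + c.a8 ^ 2 * (σ c.a8) ^ 2 * d.a1 * σ d.a1, c.a6 +
      σ c.a8 * d.a2 + c.b8 * d.a1 + c.a8 * σ c.a8 * d.a1, c.b6 + σ c.a7 * d.a2 + σ c.b8 * d.b2 + c.b8 * d.a3 + c.a6
      * σ c.b8 * σ d.a1 + σ c.a7 * c.a8 * d.a1 + c.a7 * c.a8 * σ d.a2 + c.a7 * c.b8 * σ d.a1 + c.a8 * c.b8 * d.b2 +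
      σ c.b8 * d.a2 * σ d.a2 + c.a6 * c.a8 ^ 2 * σ d.a2 + σ c.a8 * σ c.b8 * σ d.a1 * d.a2 + c.a8 * σ c.b8 * d.a1 * σ
      d.a2 + c.a8 ^ 2 * σ c.a8 * d.b2 + c.b8 ^ 2 * σ d.a1 * d.a2 + c.a6 * c.a8 ^ 2 * σ c.a8 * σ d.a1 + c.a8 * c.b8 ^
      2 * d.a1 * σ d.a1 + c.a8 * σ c.a8 * σ c.b8 * d.a1 * σ d.a1 + c.a8 ^ 2 * (σ c.a8) ^ 2 * σ d.a1 * d.a2 + c.a8 ^
      3 * (σ c.a8) ^ 2 * d.a1 * σ d.a1, c.a7 + σ c.b8 * d.a1 + c.b8 * d.a2 + c.a8 * c.b8 * d.a1 + c.a8 ^ 2 * σ c.a8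
      * d.a1, c.a8, c.b8⟩ by
    refine (H.R3 _ _).trans ?_
    refine congrArg F.E (Cd.ext ?_ ?_ ?_ ?_ ?_ ?_ ?_ ?_ ?_ ?_ ?_ ?_)
    · first | with_reducible rfl | ((try simp only [map_add, map_mul, map_pow, map_zero, H.hs]) <;> ring1)
    · first | with_reducible rfl | ((try simp only [map_add, map_mul, map_pow, map_zero, H.hs]) <;> ring1)
    · first | with_reducible rfl | ((try simp only [map_add, map_mul, map_pow, map_zero, H.hs]) <;> ring1)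
    · first | with_reducible rfl | ((try simp only [map_add, map_mul, map_pow, map_zero, H.hs]) <;> ring1)
    · first | with_reducible rfl | ((try simp only [map_add, map_mul, map_pow, map_zero, H.hs]) <;> ring1)
    · first | with_reducible rfl | ((try simp only [map_add, map_mul, map_pow, map_zero, H.hs]) <;> ring1)
    · first | with_reducible rfl | ((try simp only [map_add, map_mul, map_pow, map_zero, H.hs]) <;> ring1)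
    · first | with_reducible rfl | ((try simp only [map_add, map_mul, map_pow, map_zero, H.hs]) <;> ring1)
    · first | with_reducible rfl | ((try simp only [map_add, map_mul, map_pow, map_zero, H.hs]) <;> ring1)
    · first | with_reducible rfl | ((try simp only [map_add, map_mul, map_pow, map_zero, H.hs]) <;> ring1)
    · first | with_reducible rfl | ((try simp only [map_add, map_mul, map_pow, map_zero, H.hs]) <;> ring1)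
    · first | with_reducible rfl | ((try simp only [map_add, map_mul, map_pow, map_zero, H.hs]) <;> ring1)
    ]
  rw [show F.E ⟨c.a1 + d.a1, c.a2 + d.a2 + c.a8 * d.a1, c.b2 + d.b2 + c.a2 * σ d.a2 + c.a4 * d.a1 + c.a6 * σ d.a1 + c.a2 * σ
      c.a8 * σ d.a1 + c.a8 * d.a1 * σ d.a2 + c.b8 * d.a1 * σ d.a1, c.a3 + d.a3 + c.a4 * d.a2 + σ c.a6 * d.a1 + c.a7
      * σ d.a1 + c.a8 * d.b2 + c.a4 * c.a8 * d.a1 + c.a8 * d.a2 * σ d.a2 + σ c.b8 * d.a1 * σ d.a1 + c.b8 * σ d.a1 *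
      d.a2 + c.a8 * c.b8 * d.a1 * σ d.a1 + c.a8 ^ 2 * σ c.a8 * d.a1 * σ d.a1, c.a4 + c.a8 * σ d.a2 + c.b8 * σ d.a1,
      c.b4 + c.a5 * d.a2 + c.a6 * d.a3 + c.a7 * d.b2 + c.a8 * σ d.a3 + c.b6 * d.a1 + c.b8 * σ d.b2 + c.a5 * c.a8 *
      d.a1 + c.a6 * c.a7 * σ d.a1 + c.a6 * c.a8 * d.b2 + σ c.a7 * d.a1 * d.a2 + c.a7 * d.a2 * σ d.a2 + σ c.a8 * d.a2
      * d.a3 + σ c.b8 * d.a1 * d.b2 + c.b8 * d.a1 * d.a3 + c.b8 * d.a2 * d.b2 + c.a4 * σ c.a8 * d.a2 ^ 2 + c.a4 * σ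
      c.b8 * d.a1 ^ 2 + c.a6 * c.a8 * d.a2 * σ d.a2 + c.a6 * σ c.b8 * d.a1 * σ d.a1 + c.a6 * c.b8 * σ d.a1 * d.a2 +
      σ c.a7 * c.a8 * d.a1 ^ 2 + c.a7 * σ c.a8 * σ d.a1 * d.a2 + c.a7 * c.b8 * d.a1 * σ d.a1 + c.a8 * σ c.a8 * d.a1
      * d.a3 + c.a8 * σ c.a8 * d.a2 * d.b2 + σ c.b8 * d.a1 * d.a2 * σ d.a2 + c.b8 * d.a2 ^ 2 * σ d.a2 + c.a6 * c.a8
      * c.b8 * d.a1 * σ d.a1 + c.a7 * c.a8 * σ c.a8 * d.a1 * σ d.a1 + σ c.a8 * σ c.b8 * d.a1 * σ d.a1 * d.a2 + σ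
      c.a8 * c.b8 * σ d.a1 * d.a2 ^ 2 + c.a8 * σ c.a8 * d.a2 ^ 2 * σ d.a2 + c.b8 * σ c.b8 * d.a1 ^ 2 * σ d.a1 + c.b8
      ^ 2 * d.a1 * σ d.a1 * d.a2 + c.a6 * c.a8 ^ 2 * σ c.a8 * d.a1 * σ d.a1 + c.a8 * c.b8 ^ 2 * d.a1 ^ 2 * σ d.a1 +
      c.a8 * σ c.a8 * σ c.b8 * d.a1 ^ 2 * σ d.a1 + c.a8 ^ 2 * (σ c.a8) ^ 2 * d.a1 * σ d.a1 * d.a2 + c.a8 ^ 3 * (σ
      c.a8) ^ 2 * d.a1 ^ 2 * σ d.a1, c.a5 + σ c.a7 * d.a1 + c.a7 * σ d.a2 + σ c.a8 * d.a3 + c.b8 * d.b2 + c.a6 *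
      c.a8 * σ d.a2 + c.a6 * c.b8 * σ d.a1 + c.a7 * σ c.a8 * σ d.a1 + c.a8 * σ c.a8 * d.b2 + σ c.b8 * d.a1 * σ d.a2
      + σ c.a8 * σ c.b8 * d.a1 * σ d.a1 + c.b8 ^ 2 * d.a1 * σ d.a1 + c.a8 ^ 2 * (σ c.a8) ^ 2 * d.a1 * σ d.a1, c.a6 +
      σ c.a8 * d.a2 + c.b8 * d.a1 + c.a8 * σ c.a8 * d.a1, c.b6 + σ c.a7 * d.a2 + σ c.b8 * d.b2 + c.b8 * d.a3 + c.a6
      * σ c.b8 * σ d.a1 + σ c.a7 * c.a8 * d.a1 + c.a7 * c.a8 * σ d.a2 + c.a7 * c.b8 * σ d.a1 + c.a8 * c.b8 * d.b2 +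
      σ c.b8 * d.a2 * σ d.a2 + c.a6 * c.a8 ^ 2 * σ d.a2 + σ c.a8 * σ c.b8 * σ d.a1 * d.a2 + c.a8 * σ c.b8 * d.a1 * σ
      d.a2 + c.a8 ^ 2 * σ c.a8 * d.b2 + c.b8 ^ 2 * σ d.a1 * d.a2 + c.a6 * c.a8 ^ 2 * σ c.a8 * σ d.a1 + c.a8 * c.b8 ^
      2 * d.a1 * σ d.a1 + c.a8 * σ c.a8 * σ c.b8 * d.a1 * σ d.a1 + c.a8 ^ 2 * (σ c.a8) ^ 2 * σ d.a1 * d.a2 + c.a8 ^
      3 * (σ c.a8) ^ 2 * d.a1 * σ d.a1, c.a7 + σ c.b8 * d.a1 + c.b8 * d.a2 + c.a8 * c.b8 * d.a1 + c.a8 ^ 2 * σ c.a8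
      * d.a1, c.a8, c.b8⟩ *
      F.x4 d.a4 d.b4 =
      F.E ⟨c.a1 + d.a1, c.a2 + d.a2 + c.a8 * d.a1, c.b2 + d.b2 + c.a2 * σ d.a2 + c.a4 * d.a1 + c.a6 * σ d.a1 + c.a2 * σ
      c.a8 * σ d.a1 + c.a8 * d.a1 * σ d.a2 + c.b8 * d.a1 * σ d.a1, c.a3 + d.a3 + c.a4 * d.a2 + σ c.a6 * d.a1 + c.a7
      * σ d.a1 + c.a8 * d.b2 + c.a4 * c.a8 * d.a1 + c.a8 * d.a2 * σ d.a2 + σ c.b8 * d.a1 * σ d.a1 + c.b8 * σ d.a1 *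
      d.a2 + c.a8 * c.b8 * d.a1 * σ d.a1 + c.a8 ^ 2 * σ c.a8 * d.a1 * σ d.a1, c.a4 + d.a4 + c.a8 * σ d.a2 + c.b8 * σ
      d.a1, c.b4 + d.b4 + c.a4 * σ d.a4 + c.a5 * d.a2 + c.a6 * d.a3 + c.a7 * d.b2 + c.a8 * σ d.a3 + c.b6 * d.a1 +
      c.b8 * σ d.b2 + c.a5 * c.a8 * d.a1 + c.a6 * c.a7 * σ d.a1 + c.a6 * c.a8 * d.b2 + σ c.a7 * d.a1 * d.a2 + c.a7 *
      d.a2 * σ d.a2 + σ c.a8 * d.a2 * d.a3 + c.a8 * σ d.a2 * σ d.a4 + σ c.b8 * d.a1 * d.b2 + c.b8 * σ d.a1 * σ d.a4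
      + c.b8 * d.a1 * d.a3 + c.b8 * d.a2 * d.b2 + c.a4 * σ c.a8 * d.a2 ^ 2 + c.a4 * σ c.b8 * d.a1 ^ 2 + c.a6 * c.a8
      * d.a2 * σ d.a2 + c.a6 * σ c.b8 * d.a1 * σ d.a1 + c.a6 * c.b8 * σ d.a1 * d.a2 + σ c.a7 * c.a8 * d.a1 ^ 2 +
      c.a7 * σ c.a8 * σ d.a1 * d.a2 + c.a7 * c.b8 * d.a1 * σ d.a1 + c.a8 * σ c.a8 * d.a1 * d.a3 + c.a8 * σ c.a8 *
      d.a2 * d.b2 + σ c.b8 * d.a1 * d.a2 * σ d.a2 + c.b8 * d.a2 ^ 2 * σ d.a2 + c.a6 * c.a8 * c.b8 * d.a1 * σ d.a1 +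
      c.a7 * c.a8 * σ c.a8 * d.a1 * σ d.a1 + σ c.a8 * σ c.b8 * d.a1 * σ d.a1 * d.a2 + σ c.a8 * c.b8 * σ d.a1 * d.a2
      ^ 2 + c.a8 * σ c.a8 * d.a2 ^ 2 * σ d.a2 + c.b8 * σ c.b8 * d.a1 ^ 2 * σ d.a1 + c.b8 ^ 2 * d.a1 * σ d.a1 * d.a2
      + c.a6 * c.a8 ^ 2 * σ c.a8 * d.a1 * σ d.a1 + c.a8 * c.b8 ^ 2 * d.a1 ^ 2 * σ d.a1 + c.a8 * σ c.a8 * σ c.b8 *
      d.a1 ^ 2 * σ d.a1 + c.a8 ^ 2 * (σ c.a8) ^ 2 * d.a1 * σ d.a1 * d.a2 + c.a8 ^ 3 * (σ c.a8) ^ 2 * d.a1 ^ 2 * σ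
      d.a1, c.a5 + c.a6 * d.a4 + σ c.a7 * d.a1 + c.a7 * σ d.a2 + σ c.a8 * d.a3 + c.b8 * d.b2 + c.a6 * c.a8 * σ d.a2
      + c.a6 * c.b8 * σ d.a1 + c.a7 * σ c.a8 * σ d.a1 + σ c.a8 * d.a2 * d.a4 + c.a8 * σ c.a8 * d.b2 + σ c.b8 * d.a1
      * σ d.a2 + c.b8 * d.a1 * d.a4 + σ c.a8 * σ c.b8 * d.a1 * σ d.a1 + c.a8 * σ c.a8 * d.a1 * d.a4 + c.b8 ^ 2 *
      d.a1 * σ d.a1 + c.a8 ^ 2 * (σ c.a8) ^ 2 * d.a1 * σ d.a1, c.a6 + σ c.a8 * d.a2 + c.b8 * d.a1 + c.a8 * σ c.a8 *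
      d.a1, c.b6 + σ c.a7 * d.a2 + c.a7 * d.a4 + σ c.b8 * d.b2 + c.b8 * d.a3 + c.a6 * σ c.b8 * σ d.a1 + σ c.a7 *
      c.a8 * d.a1 + c.a7 * c.a8 * σ d.a2 + c.a7 * c.b8 * σ d.a1 + c.a8 * c.b8 * d.b2 + σ c.b8 * d.a1 * d.a4 + σ c.b8
      * d.a2 * σ d.a2 + c.b8 * d.a2 * d.a4 + c.a6 * c.a8 ^ 2 * σ d.a2 + σ c.a8 * σ c.b8 * σ d.a1 * d.a2 + c.a8 * σ
      c.b8 * d.a1 * σ d.a2 + c.a8 * c.b8 * d.a1 * d.a4 + c.a8 ^ 2 * σ c.a8 * d.b2 + c.b8 ^ 2 * σ d.a1 * d.a2 + c.a6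
      * c.a8 ^ 2 * σ c.a8 * σ d.a1 + c.a8 * c.b8 ^ 2 * d.a1 * σ d.a1 + c.a8 * σ c.a8 * σ c.b8 * d.a1 * σ d.a1 + c.a8
      ^ 2 * σ c.a8 * d.a1 * d.a4 + c.a8 ^ 2 * (σ c.a8) ^ 2 * σ d.a1 * d.a2 + c.a8 ^ 3 * (σ c.a8) ^ 2 * d.a1 * σ
      d.a1, c.a7 + σ c.b8 * d.a1 + c.b8 * d.a2 + c.a8 * c.b8 * d.a1 + c.a8 ^ 2 * σ c.a8 * d.a1, c.a8, c.b8⟩ by
    refine (H.R4 _ _ _).trans ?_
    refine congrArg F.E (Cd.ext ?_ ?_ ?_ ?_ ?_ ?_ ?_ ?_ ?_ ?_ ?_ ?_)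
    · first | with_reducible rfl | ((try simp only [map_add, map_mul, map_pow, map_zero, H.hs]) <;> ring1)
    · first | with_reducible rfl | ((try simp only [map_add, map_mul, map_pow, map_zero, H.hs]) <;> ring1)
    · first | with_reducible rfl | ((try simp only [map_add, map_mul, map_pow, map_zero, H.hs]) <;> ring1)
    · first | with_reducible rfl | ((try simp only [map_add, map_mul, map_pow, map_zero, H.hs]) <;> ring1)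
    · first | with_reducible rfl | ((try simp only [map_add, map_mul, map_pow, map_zero, H.hs]) <;> ring1)
    · first | with_reducible rfl | ((try simp only [map_add, map_mul, map_pow, map_zero, H.hs]) <;> ring1)
    · first | with_reducible rfl | ((try simp only [map_add, map_mul, map_pow, map_zero, H.hs]) <;> ring1)
    · first | with_reducible rfl | ((try simp only [map_add, map_mul, map_pow, map_zero, H.hs]) <;> ring1)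
    · first | with_reducible rfl | ((try simp only [map_add, map_mul, map_pow, map_zero, H.hs]) <;> ring1)
    · first | with_reducible rfl | ((try simp only [map_add, map_mul, map_pow, map_zero, H.hs]) <;> ring1)
    · first | with_reducible rfl | ((try simp only [map_add, map_mul, map_pow, map_zero, H.hs]) <;> ring1)
    · first | with_reducible rfl | ((try simp only [map_add, map_mul, map_pow, map_zero, H.hs]) <;> ring1)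
    ]
  rw [show F.E ⟨c.a1 + d.a1, c.a2 + d.a2 + c.a8 * d.a1, c.b2 + d.b2 + c.a2 * σ d.a2 + c.a4 * d.a1 + c.a6 * σ d.a1 + c.a2 * σ
      c.a8 * σ d.a1 + c.a8 * d.a1 * σ d.a2 + c.b8 * d.a1 * σ d.a1, c.a3 + d.a3 + c.a4 * d.a2 + σ c.a6 * d.a1 + c.a7
      * σ d.a1 + c.a8 * d.b2 + c.a4 * c.a8 * d.a1 + c.a8 * d.a2 * σ d.a2 + σ c.b8 * d.a1 * σ d.a1 + c.b8 * σ d.a1 *
      d.a2 + c.a8 * c.b8 * d.a1 * σ d.a1 + c.a8 ^ 2 * σ c.a8 * d.a1 * σ d.a1, c.a4 + d.a4 + c.a8 * σ d.a2 + c.b8 * σ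
      d.a1, c.b4 + d.b4 + c.a4 * σ d.a4 + c.a5 * d.a2 + c.a6 * d.a3 + c.a7 * d.b2 + c.a8 * σ d.a3 + c.b6 * d.a1 +
      c.b8 * σ d.b2 + c.a5 * c.a8 * d.a1 + c.a6 * c.a7 * σ d.a1 + c.a6 * c.a8 * d.b2 + σ c.a7 * d.a1 * d.a2 + c.a7 *
      d.a2 * σ d.a2 + σ c.a8 * d.a2 * d.a3 + c.a8 * σ d.a2 * σ d.a4 + σ c.b8 * d.a1 * d.b2 + c.b8 * σ d.a1 * σ d.a4
      + c.b8 * d.a1 * d.a3 + c.b8 * d.a2 * d.b2 + c.a4 * σ c.a8 * d.a2 ^ 2 + c.a4 * σ c.b8 * d.a1 ^ 2 + c.a6 * c.a8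
      * d.a2 * σ d.a2 + c.a6 * σ c.b8 * d.a1 * σ d.a1 + c.a6 * c.b8 * σ d.a1 * d.a2 + σ c.a7 * c.a8 * d.a1 ^ 2 +
      c.a7 * σ c.a8 * σ d.a1 * d.a2 + c.a7 * c.b8 * d.a1 * σ d.a1 + c.a8 * σ c.a8 * d.a1 * d.a3 + c.a8 * σ c.a8 *
      d.a2 * d.b2 + σ c.b8 * d.a1 * d.a2 * σ d.a2 + c.b8 * d.a2 ^ 2 * σ d.a2 + c.a6 * c.a8 * c.b8 * d.a1 * σ d.a1 +
      c.a7 * c.a8 * σ c.a8 * d.a1 * σ d.a1 + σ c.a8 * σ c.b8 * d.a1 * σ d.a1 * d.a2 + σ c.a8 * c.b8 * σ d.a1 * d.a2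
      ^ 2 + c.a8 * σ c.a8 * d.a2 ^ 2 * σ d.a2 + c.b8 * σ c.b8 * d.a1 ^ 2 * σ d.a1 + c.b8 ^ 2 * d.a1 * σ d.a1 * d.a2
      + c.a6 * c.a8 ^ 2 * σ c.a8 * d.a1 * σ d.a1 + c.a8 * c.b8 ^ 2 * d.a1 ^ 2 * σ d.a1 + c.a8 * σ c.a8 * σ c.b8 *
      d.a1 ^ 2 * σ d.a1 + c.a8 ^ 2 * (σ c.a8) ^ 2 * d.a1 * σ d.a1 * d.a2 + c.a8 ^ 3 * (σ c.a8) ^ 2 * d.a1 ^ 2 * σ
      d.a1, c.a5 + c.a6 * d.a4 + σ c.a7 * d.a1 + c.a7 * σ d.a2 + σ c.a8 * d.a3 + c.b8 * d.b2 + c.a6 * c.a8 * σ d.a2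
      + c.a6 * c.b8 * σ d.a1 + c.a7 * σ c.a8 * σ d.a1 + σ c.a8 * d.a2 * d.a4 + c.a8 * σ c.a8 * d.b2 + σ c.b8 * d.a1
      * σ d.a2 + c.b8 * d.a1 * d.a4 + σ c.a8 * σ c.b8 * d.a1 * σ d.a1 + c.a8 * σ c.a8 * d.a1 * d.a4 + c.b8 ^ 2 *
      d.a1 * σ d.a1 + c.a8 ^ 2 * (σ c.a8) ^ 2 * d.a1 * σ d.a1, c.a6 + σ c.a8 * d.a2 + c.b8 * d.a1 + c.a8 * σ c.a8 *
      d.a1, c.b6 + σ c.a7 * d.a2 + c.a7 * d.a4 + σ c.b8 * d.b2 + c.b8 * d.a3 + c.a6 * σ c.b8 * σ d.a1 + σ c.a7 *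
      c.a8 * d.a1 + c.a7 * c.a8 * σ d.a2 + c.a7 * c.b8 * σ d.a1 + c.a8 * c.b8 * d.b2 + σ c.b8 * d.a1 * d.a4 + σ c.b8
      * d.a2 * σ d.a2 + c.b8 * d.a2 * d.a4 + c.a6 * c.a8 ^ 2 * σ d.a2 + σ c.a8 * σ c.b8 * σ d.a1 * d.a2 + c.a8 * σ
      c.b8 * d.a1 * σ d.a2 + c.a8 * c.b8 * d.a1 * d.a4 + c.a8 ^ 2 * σ c.a8 * d.b2 + c.b8 ^ 2 * σ d.a1 * d.a2 + c.a6
      * c.a8 ^ 2 * σ c.a8 * σ d.a1 + c.a8 * c.b8 ^ 2 * d.a1 * σ d.a1 + c.a8 * σ c.a8 * σ c.b8 * d.a1 * σ d.a1 + c.a8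
      ^ 2 * σ c.a8 * d.a1 * d.a4 + c.a8 ^ 2 * (σ c.a8) ^ 2 * σ d.a1 * d.a2 + c.a8 ^ 3 * (σ c.a8) ^ 2 * d.a1 * σ
      d.a1, c.a7 + σ c.b8 * d.a1 + c.b8 * d.a2 + c.a8 * c.b8 * d.a1 + c.a8 ^ 2 * σ c.a8 * d.a1, c.a8, c.b8⟩ *
      F.x5 d.a5 =
      F.E ⟨c.a1 + d.a1, c.a2 + d.a2 + c.a8 * d.a1, c.b2 + d.b2 + c.a2 * σ d.a2 + c.a4 * d.a1 + c.a6 * σ d.a1 + c.a2 * σ
      c.a8 * σ d.a1 + c.a8 * d.a1 * σ d.a2 + c.b8 * d.a1 * σ d.a1, c.a3 + d.a3 + c.a4 * d.a2 + σ c.a6 * d.a1 + c.a7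
      * σ d.a1 + c.a8 * d.b2 + c.a4 * c.a8 * d.a1 + c.a8 * d.a2 * σ d.a2 + σ c.b8 * d.a1 * σ d.a1 + c.b8 * σ d.a1 *
      d.a2 + c.a8 * c.b8 * d.a1 * σ d.a1 + c.a8 ^ 2 * σ c.a8 * d.a1 * σ d.a1, c.a4 + d.a4 + c.a8 * σ d.a2 + c.b8 * σ
      d.a1, c.b4 + d.b4 + c.a4 * σ d.a4 + c.a5 * d.a2 + c.a6 * d.a3 + c.a7 * d.b2 + c.a8 * σ d.a3 + c.b6 * d.a1 +
      c.b8 * σ d.b2 + c.a5 * c.a8 * d.a1 + c.a6 * c.a7 * σ d.a1 + c.a6 * c.a8 * d.b2 + σ c.a7 * d.a1 * d.a2 + c.a7 *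
      d.a2 * σ d.a2 + σ c.a8 * d.a2 * d.a3 + c.a8 * σ d.a2 * σ d.a4 + σ c.b8 * d.a1 * d.b2 + c.b8 * σ d.a1 * σ d.a4
      + c.b8 * d.a1 * d.a3 + c.b8 * d.a2 * d.b2 + c.a4 * σ c.a8 * d.a2 ^ 2 + c.a4 * σ c.b8 * d.a1 ^ 2 + c.a6 * c.a8
      * d.a2 * σ d.a2 + c.a6 * σ c.b8 * d.a1 * σ d.a1 + c.a6 * c.b8 * σ d.a1 * d.a2 + σ c.a7 * c.a8 * d.a1 ^ 2 +
      c.a7 * σ c.a8 * σ d.a1 * d.a2 + c.a7 * c.b8 * d.a1 * σ d.a1 + c.a8 * σ c.a8 * d.a1 * d.a3 + c.a8 * σ c.a8 *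
      d.a2 * d.b2 + σ c.b8 * d.a1 * d.a2 * σ d.a2 + c.b8 * d.a2 ^ 2 * σ d.a2 + c.a6 * c.a8 * c.b8 * d.a1 * σ d.a1 +
      c.a7 * c.a8 * σ c.a8 * d.a1 * σ d.a1 + σ c.a8 * σ c.b8 * d.a1 * σ d.a1 * d.a2 + σ c.a8 * c.b8 * σ d.a1 * d.a2
      ^ 2 + c.a8 * σ c.a8 * d.a2 ^ 2 * σ d.a2 + c.b8 * σ c.b8 * d.a1 ^ 2 * σ d.a1 + c.b8 ^ 2 * d.a1 * σ d.a1 * d.a2
      + c.a6 * c.a8 ^ 2 * σ c.a8 * d.a1 * σ d.a1 + c.a8 * c.b8 ^ 2 * d.a1 ^ 2 * σ d.a1 + c.a8 * σ c.a8 * σ c.b8 *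
      d.a1 ^ 2 * σ d.a1 + c.a8 ^ 2 * (σ c.a8) ^ 2 * d.a1 * σ d.a1 * d.a2 + c.a8 ^ 3 * (σ c.a8) ^ 2 * d.a1 ^ 2 * σ
      d.a1, c.a5 + d.a5 + c.a6 * d.a4 + σ c.a7 * d.a1 + c.a7 * σ d.a2 + σ c.a8 * d.a3 + c.b8 * d.b2 + c.a6 * c.a8 *
      σ d.a2 + c.a6 * c.b8 * σ d.a1 + c.a7 * σ c.a8 * σ d.a1 + σ c.a8 * d.a2 * d.a4 + c.a8 * σ c.a8 * d.b2 + σ c.b8
      * d.a1 * σ d.a2 + c.b8 * d.a1 * d.a4 + σ c.a8 * σ c.b8 * d.a1 * σ d.a1 + c.a8 * σ c.a8 * d.a1 * d.a4 + c.b8 ^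
      2 * d.a1 * σ d.a1 + c.a8 ^ 2 * (σ c.a8) ^ 2 * d.a1 * σ d.a1, c.a6 + σ c.a8 * d.a2 + c.b8 * d.a1 + c.a8 * σ
      c.a8 * d.a1, c.b6 + σ c.a7 * d.a2 + c.a7 * d.a4 + c.a8 * d.a5 + σ c.b8 * d.b2 + c.b8 * d.a3 + c.a6 * σ c.b8 *
      σ d.a1 + σ c.a7 * c.a8 * d.a1 + c.a7 * c.a8 * σ d.a2 + c.a7 * c.b8 * σ d.a1 + c.a8 * c.b8 * d.b2 + σ c.b8 *
      d.a1 * d.a4 + σ c.b8 * d.a2 * σ d.a2 + c.b8 * d.a2 * d.a4 + c.a6 * c.a8 ^ 2 * σ d.a2 + σ c.a8 * σ c.b8 * σ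
      d.a1 * d.a2 + c.a8 * σ c.b8 * d.a1 * σ d.a2 + c.a8 * c.b8 * d.a1 * d.a4 + c.a8 ^ 2 * σ c.a8 * d.b2 + c.b8 ^ 2
      * σ d.a1 * d.a2 + c.a6 * c.a8 ^ 2 * σ c.a8 * σ d.a1 + c.a8 * c.b8 ^ 2 * d.a1 * σ d.a1 + c.a8 * σ c.a8 * σ c.b8
      * d.a1 * σ d.a1 + c.a8 ^ 2 * σ c.a8 * d.a1 * d.a4 + c.a8 ^ 2 * (σ c.a8) ^ 2 * σ d.a1 * d.a2 + c.a8 ^ 3 * (σ
      c.a8) ^ 2 * d.a1 * σ d.a1, c.a7 + σ c.b8 * d.a1 + c.b8 * d.a2 + c.a8 * c.b8 * d.a1 + c.a8 ^ 2 * σ c.a8 * d.a1,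
      c.a8, c.b8⟩ by
    refine (H.R5 _ _).trans ?_
    refine congrArg F.E (Cd.ext ?_ ?_ ?_ ?_ ?_ ?_ ?_ ?_ ?_ ?_ ?_ ?_)
    · first | with_reducible rfl | ((try simp only [map_add, map_mul, map_pow, map_zero, H.hs]) <;> ring1)
    · first | with_reducible rfl | ((try simp only [map_add, map_mul, map_pow, map_zero, H.hs]) <;> ring1)
    · first | with_reducible rfl | ((try simp only [map_add, map_mul, map_pow, map_zero, H.hs]) <;> ring1)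
    · first | with_reducible rfl | ((try simp only [map_add, map_mul, map_pow, map_zero, H.hs]) <;> ring1)
    · first | with_reducible rfl | ((try simp only [map_add, map_mul, map_pow, map_zero, H.hs]) <;> ring1)
    · first | with_reducible rfl | ((try simp only [map_add, map_mul, map_pow, map_zero, H.hs]) <;> ring1)
    · first | with_reducible rfl | ((try simp only [map_add, map_mul, map_pow, map_zero, H.hs]) <;> ring1)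
    · first | with_reducible rfl | ((try simp only [map_add, map_mul, map_pow, map_zero, H.hs]) <;> ring1)
    · first | with_reducible rfl | ((try simp only [map_add, map_mul, map_pow, map_zero, H.hs]) <;> ring1)
    · first | with_reducible rfl | ((try simp only [map_add, map_mul, map_pow, map_zero, H.hs]) <;> ring1)
    · first | with_reducible rfl | ((try simp only [map_add, map_mul, map_pow, map_zero, H.hs]) <;> ring1)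
    · first | with_reducible rfl | ((try simp only [map_add, map_mul, map_pow, map_zero, H.hs]) <;> ring1)
    ]
  rw [show F.E ⟨c.a1 + d.a1, c.a2 + d.a2 + c.a8 * d.a1, c.b2 + d.b2 + c.a2 * σ d.a2 + c.a4 * d.a1 + c.a6 * σ d.a1 + c.a2 * σ
      c.a8 * σ d.a1 + c.a8 * d.a1 * σ d.a2 + c.b8 * d.a1 * σ d.a1, c.a3 + d.a3 + c.a4 * d.a2 + σ c.a6 * d.a1 + c.a7
      * σ d.a1 + c.a8 * d.b2 + c.a4 * c.a8 * d.a1 + c.a8 * d.a2 * σ d.a2 + σ c.b8 * d.a1 * σ d.a1 + c.b8 * σ d.a1 *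
      d.a2 + c.a8 * c.b8 * d.a1 * σ d.a1 + c.a8 ^ 2 * σ c.a8 * d.a1 * σ d.a1, c.a4 + d.a4 + c.a8 * σ d.a2 + c.b8 * σ
      d.a1, c.b4 + d.b4 + c.a4 * σ d.a4 + c.a5 * d.a2 + c.a6 * d.a3 + c.a7 * d.b2 + c.a8 * σ d.a3 + c.b6 * d.a1 +
      c.b8 * σ d.b2 + c.a5 * c.a8 * d.a1 + c.a6 * c.a7 * σ d.a1 + c.a6 * c.a8 * d.b2 + σ c.a7 * d.a1 * d.a2 + c.a7 *
      d.a2 * σ d.a2 + σ c.a8 * d.a2 * d.a3 + c.a8 * σ d.a2 * σ d.a4 + σ c.b8 * d.a1 * d.b2 + c.b8 * σ d.a1 * σ d.a4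
      + c.b8 * d.a1 * d.a3 + c.b8 * d.a2 * d.b2 + c.a4 * σ c.a8 * d.a2 ^ 2 + c.a4 * σ c.b8 * d.a1 ^ 2 + c.a6 * c.a8
      * d.a2 * σ d.a2 + c.a6 * σ c.b8 * d.a1 * σ d.a1 + c.a6 * c.b8 * σ d.a1 * d.a2 + σ c.a7 * c.a8 * d.a1 ^ 2 +
      c.a7 * σ c.a8 * σ d.a1 * d.a2 + c.a7 * c.b8 * d.a1 * σ d.a1 + c.a8 * σ c.a8 * d.a1 * d.a3 + c.a8 * σ c.a8 *
      d.a2 * d.b2 + σ c.b8 * d.a1 * d.a2 * σ d.a2 + c.b8 * d.a2 ^ 2 * σ d.a2 + c.a6 * c.a8 * c.b8 * d.a1 * σ d.a1 +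
      c.a7 * c.a8 * σ c.a8 * d.a1 * σ d.a1 + σ c.a8 * σ c.b8 * d.a1 * σ d.a1 * d.a2 + σ c.a8 * c.b8 * σ d.a1 * d.a2
      ^ 2 + c.a8 * σ c.a8 * d.a2 ^ 2 * σ d.a2 + c.b8 * σ c.b8 * d.a1 ^ 2 * σ d.a1 + c.b8 ^ 2 * d.a1 * σ d.a1 * d.a2
      + c.a6 * c.a8 ^ 2 * σ c.a8 * d.a1 * σ d.a1 + c.a8 * c.b8 ^ 2 * d.a1 ^ 2 * σ d.a1 + c.a8 * σ c.a8 * σ c.b8 *
      d.a1 ^ 2 * σ d.a1 + c.a8 ^ 2 * (σ c.a8) ^ 2 * d.a1 * σ d.a1 * d.a2 + c.a8 ^ 3 * (σ c.a8) ^ 2 * d.a1 ^ 2 * σ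
      d.a1, c.a5 + d.a5 + c.a6 * d.a4 + σ c.a7 * d.a1 + c.a7 * σ d.a2 + σ c.a8 * d.a3 + c.b8 * d.b2 + c.a6 * c.a8 *
      σ d.a2 + c.a6 * c.b8 * σ d.a1 + c.a7 * σ c.a8 * σ d.a1 + σ c.a8 * d.a2 * d.a4 + c.a8 * σ c.a8 * d.b2 + σ c.b8
      * d.a1 * σ d.a2 + c.b8 * d.a1 * d.a4 + σ c.a8 * σ c.b8 * d.a1 * σ d.a1 + c.a8 * σ c.a8 * d.a1 * d.a4 + c.b8 ^
      2 * d.a1 * σ d.a1 + c.a8 ^ 2 * (σ c.a8) ^ 2 * d.a1 * σ d.a1, c.a6 + σ c.a8 * d.a2 + c.b8 * d.a1 + c.a8 * σ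
      c.a8 * d.a1, c.b6 + σ c.a7 * d.a2 + c.a7 * d.a4 + c.a8 * d.a5 + σ c.b8 * d.b2 + c.b8 * d.a3 + c.a6 * σ c.b8 *
      σ d.a1 + σ c.a7 * c.a8 * d.a1 + c.a7 * c.a8 * σ d.a2 + c.a7 * c.b8 * σ d.a1 + c.a8 * c.b8 * d.b2 + σ c.b8 *
      d.a1 * d.a4 + σ c.b8 * d.a2 * σ d.a2 + c.b8 * d.a2 * d.a4 + c.a6 * c.a8 ^ 2 * σ d.a2 + σ c.a8 * σ c.b8 * σ
      d.a1 * d.a2 + c.a8 * σ c.b8 * d.a1 * σ d.a2 + c.a8 * c.b8 * d.a1 * d.a4 + c.a8 ^ 2 * σ c.a8 * d.b2 + c.b8 ^ 2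
      * σ d.a1 * d.a2 + c.a6 * c.a8 ^ 2 * σ c.a8 * σ d.a1 + c.a8 * c.b8 ^ 2 * d.a1 * σ d.a1 + c.a8 * σ c.a8 * σ c.b8
      * d.a1 * σ d.a1 + c.a8 ^ 2 * σ c.a8 * d.a1 * d.a4 + c.a8 ^ 2 * (σ c.a8) ^ 2 * σ d.a1 * d.a2 + c.a8 ^ 3 * (σ
      c.a8) ^ 2 * d.a1 * σ d.a1, c.a7 + σ c.b8 * d.a1 + c.b8 * d.a2 + c.a8 * c.b8 * d.a1 + c.a8 ^ 2 * σ c.a8 * d.a1,
      c.a8, c.b8⟩ *
      F.x6 d.a6 d.b6 =
      F.E ⟨c.a1 + d.a1, c.a2 + d.a2 + c.a8 * d.a1, c.b2 + d.b2 + c.a2 * σ d.a2 + c.a4 * d.a1 + c.a6 * σ d.a1 + c.a2 * σ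
      c.a8 * σ d.a1 + c.a8 * d.a1 * σ d.a2 + c.b8 * d.a1 * σ d.a1, c.a3 + d.a3 + c.a4 * d.a2 + σ c.a6 * d.a1 + c.a7
      * σ d.a1 + c.a8 * d.b2 + c.a4 * c.a8 * d.a1 + c.a8 * d.a2 * σ d.a2 + σ c.b8 * d.a1 * σ d.a1 + c.b8 * σ d.a1 *
      d.a2 + c.a8 * c.b8 * d.a1 * σ d.a1 + c.a8 ^ 2 * σ c.a8 * d.a1 * σ d.a1, c.a4 + d.a4 + c.a8 * σ d.a2 + c.b8 * σ
      d.a1, c.b4 + d.b4 + c.a4 * σ d.a4 + c.a5 * d.a2 + c.a6 * d.a3 + c.a7 * d.b2 + c.a8 * σ d.a3 + c.b6 * d.a1 +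
      c.b8 * σ d.b2 + c.a5 * c.a8 * d.a1 + c.a6 * c.a7 * σ d.a1 + c.a6 * c.a8 * d.b2 + σ c.a7 * d.a1 * d.a2 + c.a7 *
      d.a2 * σ d.a2 + σ c.a8 * d.a2 * d.a3 + c.a8 * σ d.a2 * σ d.a4 + σ c.b8 * d.a1 * d.b2 + c.b8 * σ d.a1 * σ d.a4
      + c.b8 * d.a1 * d.a3 + c.b8 * d.a2 * d.b2 + c.a4 * σ c.a8 * d.a2 ^ 2 + c.a4 * σ c.b8 * d.a1 ^ 2 + c.a6 * c.a8
      * d.a2 * σ d.a2 + c.a6 * σ c.b8 * d.a1 * σ d.a1 + c.a6 * c.b8 * σ d.a1 * d.a2 + σ c.a7 * c.a8 * d.a1 ^ 2 +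
      c.a7 * σ c.a8 * σ d.a1 * d.a2 + c.a7 * c.b8 * d.a1 * σ d.a1 + c.a8 * σ c.a8 * d.a1 * d.a3 + c.a8 * σ c.a8 *
      d.a2 * d.b2 + σ c.b8 * d.a1 * d.a2 * σ d.a2 + c.b8 * d.a2 ^ 2 * σ d.a2 + c.a6 * c.a8 * c.b8 * d.a1 * σ d.a1 +
      c.a7 * c.a8 * σ c.a8 * d.a1 * σ d.a1 + σ c.a8 * σ c.b8 * d.a1 * σ d.a1 * d.a2 + σ c.a8 * c.b8 * σ d.a1 * d.a2
      ^ 2 + c.a8 * σ c.a8 * d.a2 ^ 2 * σ d.a2 + c.b8 * σ c.b8 * d.a1 ^ 2 * σ d.a1 + c.b8 ^ 2 * d.a1 * σ d.a1 * d.a2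
      + c.a6 * c.a8 ^ 2 * σ c.a8 * d.a1 * σ d.a1 + c.a8 * c.b8 ^ 2 * d.a1 ^ 2 * σ d.a1 + c.a8 * σ c.a8 * σ c.b8 *
      d.a1 ^ 2 * σ d.a1 + c.a8 ^ 2 * (σ c.a8) ^ 2 * d.a1 * σ d.a1 * d.a2 + c.a8 ^ 3 * (σ c.a8) ^ 2 * d.a1 ^ 2 * σ
      d.a1, c.a5 + d.a5 + c.a6 * d.a4 + σ c.a7 * d.a1 + c.a7 * σ d.a2 + σ c.a8 * d.a3 + c.b8 * d.b2 + c.a6 * c.a8 *
      σ d.a2 + c.a6 * c.b8 * σ d.a1 + c.a7 * σ c.a8 * σ d.a1 + σ c.a8 * d.a2 * d.a4 + c.a8 * σ c.a8 * d.b2 + σ c.b8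
      * d.a1 * σ d.a2 + c.b8 * d.a1 * d.a4 + σ c.a8 * σ c.b8 * d.a1 * σ d.a1 + c.a8 * σ c.a8 * d.a1 * d.a4 + c.b8 ^
      2 * d.a1 * σ d.a1 + c.a8 ^ 2 * (σ c.a8) ^ 2 * d.a1 * σ d.a1, c.a6 + d.a6 + σ c.a8 * d.a2 + c.b8 * d.a1 + c.a8
      * σ c.a8 * d.a1, c.b6 + d.b6 + c.a6 * σ d.a6 + σ c.a7 * d.a2 + c.a7 * d.a4 + c.a8 * d.a5 + σ c.b8 * d.b2 +
      c.b8 * d.a3 + c.a6 * σ c.b8 * σ d.a1 + σ c.a7 * c.a8 * d.a1 + c.a7 * c.a8 * σ d.a2 + c.a7 * c.b8 * σ d.a1 + σ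
      c.a8 * d.a2 * σ d.a6 + c.a8 * c.b8 * d.b2 + σ c.b8 * d.a1 * d.a4 + σ c.b8 * d.a2 * σ d.a2 + c.b8 * d.a1 * σ
      d.a6 + c.b8 * d.a2 * d.a4 + c.a6 * c.a8 ^ 2 * σ d.a2 + σ c.a8 * σ c.b8 * σ d.a1 * d.a2 + c.a8 * σ c.b8 * d.a1
      * σ d.a2 + c.a8 * c.b8 * d.a1 * d.a4 + c.a8 * σ c.a8 * d.a1 * σ d.a6 + c.a8 ^ 2 * σ c.a8 * d.b2 + c.b8 ^ 2 * σ
      d.a1 * d.a2 + c.a6 * c.a8 ^ 2 * σ c.a8 * σ d.a1 + c.a8 * c.b8 ^ 2 * d.a1 * σ d.a1 + c.a8 * σ c.a8 * σ c.b8 *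
      d.a1 * σ d.a1 + c.a8 ^ 2 * σ c.a8 * d.a1 * d.a4 + c.a8 ^ 2 * (σ c.a8) ^ 2 * σ d.a1 * d.a2 + c.a8 ^ 3 * (σ
      c.a8) ^ 2 * d.a1 * σ d.a1, c.a7 + c.a8 * d.a6 + σ c.b8 * d.a1 + c.b8 * d.a2 + c.a8 * c.b8 * d.a1 + c.a8 ^ 2 *
      σ c.a8 * d.a1, c.a8, c.b8⟩ by
    refine (H.R6 _ _ _).trans ?_
    refine congrArg F.E (Cd.ext ?_ ?_ ?_ ?_ ?_ ?_ ?_ ?_ ?_ ?_ ?_ ?_)
    · first | with_reducible rfl | ((try simp only [map_add, map_mul, map_pow, map_zero, H.hs]) <;> ring1)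
    · first | with_reducible rfl | ((try simp only [map_add, map_mul, map_pow, map_zero, H.hs]) <;> ring1)
    · first | with_reducible rfl | ((try simp only [map_add, map_mul, map_pow, map_zero, H.hs]) <;> ring1)
    · first | with_reducible rfl | ((try simp only [map_add, map_mul, map_pow, map_zero, H.hs]) <;> ring1)
    · first | with_reducible rfl | ((try simp only [map_add, map_mul, map_pow, map_zero, H.hs]) <;> ring1)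
    · first | with_reducible rfl | ((try simp only [map_add, map_mul, map_pow, map_zero, H.hs]) <;> ring1)
    · first | with_reducible rfl | ((try simp only [map_add, map_mul, map_pow, map_zero, H.hs]) <;> ring1)
    · first | with_reducible rfl | ((try simp only [map_add, map_mul, map_pow, map_zero, H.hs]) <;> ring1)
    · first | with_reducible rfl | ((try simp only [map_add, map_mul, map_pow, map_zero, H.hs]) <;> ring1)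
    · first | with_reducible rfl | ((try simp only [map_add, map_mul, map_pow, map_zero, H.hs]) <;> ring1)
    · first | with_reducible rfl | ((try simp only [map_add, map_mul, map_pow, map_zero, H.hs]) <;> ring1)
    · first | with_reducible rfl | ((try simp only [map_add, map_mul, map_pow, map_zero, H.hs]) <;> ring1)
    ]
  rw [show F.E ⟨c.a1 + d.a1, c.a2 + d.a2 + c.a8 * d.a1, c.b2 + d.b2 + c.a2 * σ d.a2 + c.a4 * d.a1 + c.a6 * σ d.a1 + c.a2 * σ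
      c.a8 * σ d.a1 + c.a8 * d.a1 * σ d.a2 + c.b8 * d.a1 * σ d.a1, c.a3 + d.a3 + c.a4 * d.a2 + σ c.a6 * d.a1 + c.a7
      * σ d.a1 + c.a8 * d.b2 + c.a4 * c.a8 * d.a1 + c.a8 * d.a2 * σ d.a2 + σ c.b8 * d.a1 * σ d.a1 + c.b8 * σ d.a1 *
      d.a2 + c.a8 * c.b8 * d.a1 * σ d.a1 + c.a8 ^ 2 * σ c.a8 * d.a1 * σ d.a1, c.a4 + d.a4 + c.a8 * σ d.a2 + c.b8 * σ
      d.a1, c.b4 + d.b4 + c.a4 * σ d.a4 + c.a5 * d.a2 + c.a6 * d.a3 + c.a7 * d.b2 + c.a8 * σ d.a3 + c.b6 * d.a1 +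
      c.b8 * σ d.b2 + c.a5 * c.a8 * d.a1 + c.a6 * c.a7 * σ d.a1 + c.a6 * c.a8 * d.b2 + σ c.a7 * d.a1 * d.a2 + c.a7 *
      d.a2 * σ d.a2 + σ c.a8 * d.a2 * d.a3 + c.a8 * σ d.a2 * σ d.a4 + σ c.b8 * d.a1 * d.b2 + c.b8 * σ d.a1 * σ d.a4
      + c.b8 * d.a1 * d.a3 + c.b8 * d.a2 * d.b2 + c.a4 * σ c.a8 * d.a2 ^ 2 + c.a4 * σ c.b8 * d.a1 ^ 2 + c.a6 * c.a8
      * d.a2 * σ d.a2 + c.a6 * σ c.b8 * d.a1 * σ d.a1 + c.a6 * c.b8 * σ d.a1 * d.a2 + σ c.a7 * c.a8 * d.a1 ^ 2 +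
      c.a7 * σ c.a8 * σ d.a1 * d.a2 + c.a7 * c.b8 * d.a1 * σ d.a1 + c.a8 * σ c.a8 * d.a1 * d.a3 + c.a8 * σ c.a8 *
      d.a2 * d.b2 + σ c.b8 * d.a1 * d.a2 * σ d.a2 + c.b8 * d.a2 ^ 2 * σ d.a2 + c.a6 * c.a8 * c.b8 * d.a1 * σ d.a1 +
      c.a7 * c.a8 * σ c.a8 * d.a1 * σ d.a1 + σ c.a8 * σ c.b8 * d.a1 * σ d.a1 * d.a2 + σ c.a8 * c.b8 * σ d.a1 * d.a2
      ^ 2 + c.a8 * σ c.a8 * d.a2 ^ 2 * σ d.a2 + c.b8 * σ c.b8 * d.a1 ^ 2 * σ d.a1 + c.b8 ^ 2 * d.a1 * σ d.a1 * d.a2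
      + c.a6 * c.a8 ^ 2 * σ c.a8 * d.a1 * σ d.a1 + c.a8 * c.b8 ^ 2 * d.a1 ^ 2 * σ d.a1 + c.a8 * σ c.a8 * σ c.b8 *
      d.a1 ^ 2 * σ d.a1 + c.a8 ^ 2 * (σ c.a8) ^ 2 * d.a1 * σ d.a1 * d.a2 + c.a8 ^ 3 * (σ c.a8) ^ 2 * d.a1 ^ 2 * σ
      d.a1, c.a5 + d.a5 + c.a6 * d.a4 + σ c.a7 * d.a1 + c.a7 * σ d.a2 + σ c.a8 * d.a3 + c.b8 * d.b2 + c.a6 * c.a8 *
      σ d.a2 + c.a6 * c.b8 * σ d.a1 + c.a7 * σ c.a8 * σ d.a1 + σ c.a8 * d.a2 * d.a4 + c.a8 * σ c.a8 * d.b2 + σ c.b8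
      * d.a1 * σ d.a2 + c.b8 * d.a1 * d.a4 + σ c.a8 * σ c.b8 * d.a1 * σ d.a1 + c.a8 * σ c.a8 * d.a1 * d.a4 + c.b8 ^
      2 * d.a1 * σ d.a1 + c.a8 ^ 2 * (σ c.a8) ^ 2 * d.a1 * σ d.a1, c.a6 + d.a6 + σ c.a8 * d.a2 + c.b8 * d.a1 + c.a8
      * σ c.a8 * d.a1, c.b6 + d.b6 + c.a6 * σ d.a6 + σ c.a7 * d.a2 + c.a7 * d.a4 + c.a8 * d.a5 + σ c.b8 * d.b2 +
      c.b8 * d.a3 + c.a6 * σ c.b8 * σ d.a1 + σ c.a7 * c.a8 * d.a1 + c.a7 * c.a8 * σ d.a2 + c.a7 * c.b8 * σ d.a1 + σ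
      c.a8 * d.a2 * σ d.a6 + c.a8 * c.b8 * d.b2 + σ c.b8 * d.a1 * d.a4 + σ c.b8 * d.a2 * σ d.a2 + c.b8 * d.a1 * σ
      d.a6 + c.b8 * d.a2 * d.a4 + c.a6 * c.a8 ^ 2 * σ d.a2 + σ c.a8 * σ c.b8 * σ d.a1 * d.a2 + c.a8 * σ c.b8 * d.a1
      * σ d.a2 + c.a8 * c.b8 * d.a1 * d.a4 + c.a8 * σ c.a8 * d.a1 * σ d.a6 + c.a8 ^ 2 * σ c.a8 * d.b2 + c.b8 ^ 2 * σ
      d.a1 * d.a2 + c.a6 * c.a8 ^ 2 * σ c.a8 * σ d.a1 + c.a8 * c.b8 ^ 2 * d.a1 * σ d.a1 + c.a8 * σ c.a8 * σ c.b8 *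
      d.a1 * σ d.a1 + c.a8 ^ 2 * σ c.a8 * d.a1 * d.a4 + c.a8 ^ 2 * (σ c.a8) ^ 2 * σ d.a1 * d.a2 + c.a8 ^ 3 * (σ
      c.a8) ^ 2 * d.a1 * σ d.a1, c.a7 + c.a8 * d.a6 + σ c.b8 * d.a1 + c.b8 * d.a2 + c.a8 * c.b8 * d.a1 + c.a8 ^ 2 *
      σ c.a8 * d.a1, c.a8, c.b8⟩ *
      F.x7 d.a7 =
      F.E ⟨c.a1 + d.a1, c.a2 + d.a2 + c.a8 * d.a1, c.b2 + d.b2 + c.a2 * σ d.a2 + c.a4 * d.a1 + c.a6 * σ d.a1 + c.a2 * σ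
      c.a8 * σ d.a1 + c.a8 * d.a1 * σ d.a2 + c.b8 * d.a1 * σ d.a1, c.a3 + d.a3 + c.a4 * d.a2 + σ c.a6 * d.a1 + c.a7
      * σ d.a1 + c.a8 * d.b2 + c.a4 * c.a8 * d.a1 + c.a8 * d.a2 * σ d.a2 + σ c.b8 * d.a1 * σ d.a1 + c.b8 * σ d.a1 *
      d.a2 + c.a8 * c.b8 * d.a1 * σ d.a1 + c.a8 ^ 2 * σ c.a8 * d.a1 * σ d.a1, c.a4 + d.a4 + c.a8 * σ d.a2 + c.b8 * σ
      d.a1, c.b4 + d.b4 + c.a4 * σ d.a4 + c.a5 * d.a2 + c.a6 * d.a3 + c.a7 * d.b2 + c.a8 * σ d.a3 + c.b6 * d.a1 +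
      c.b8 * σ d.b2 + c.a5 * c.a8 * d.a1 + c.a6 * c.a7 * σ d.a1 + c.a6 * c.a8 * d.b2 + σ c.a7 * d.a1 * d.a2 + c.a7 *
      d.a2 * σ d.a2 + σ c.a8 * d.a2 * d.a3 + c.a8 * σ d.a2 * σ d.a4 + σ c.b8 * d.a1 * d.b2 + c.b8 * σ d.a1 * σ d.a4
      + c.b8 * d.a1 * d.a3 + c.b8 * d.a2 * d.b2 + c.a4 * σ c.a8 * d.a2 ^ 2 + c.a4 * σ c.b8 * d.a1 ^ 2 + c.a6 * c.a8
      * d.a2 * σ d.a2 + c.a6 * σ c.b8 * d.a1 * σ d.a1 + c.a6 * c.b8 * σ d.a1 * d.a2 + σ c.a7 * c.a8 * d.a1 ^ 2 +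
      c.a7 * σ c.a8 * σ d.a1 * d.a2 + c.a7 * c.b8 * d.a1 * σ d.a1 + c.a8 * σ c.a8 * d.a1 * d.a3 + c.a8 * σ c.a8 *
      d.a2 * d.b2 + σ c.b8 * d.a1 * d.a2 * σ d.a2 + c.b8 * d.a2 ^ 2 * σ d.a2 + c.a6 * c.a8 * c.b8 * d.a1 * σ d.a1 +
      c.a7 * c.a8 * σ c.a8 * d.a1 * σ d.a1 + σ c.a8 * σ c.b8 * d.a1 * σ d.a1 * d.a2 + σ c.a8 * c.b8 * σ d.a1 * d.a2
      ^ 2 + c.a8 * σ c.a8 * d.a2 ^ 2 * σ d.a2 + c.b8 * σ c.b8 * d.a1 ^ 2 * σ d.a1 + c.b8 ^ 2 * d.a1 * σ d.a1 * d.a2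
      + c.a6 * c.a8 ^ 2 * σ c.a8 * d.a1 * σ d.a1 + c.a8 * c.b8 ^ 2 * d.a1 ^ 2 * σ d.a1 + c.a8 * σ c.a8 * σ c.b8 *
      d.a1 ^ 2 * σ d.a1 + c.a8 ^ 2 * (σ c.a8) ^ 2 * d.a1 * σ d.a1 * d.a2 + c.a8 ^ 3 * (σ c.a8) ^ 2 * d.a1 ^ 2 * σ
      d.a1, c.a5 + d.a5 + c.a6 * d.a4 + σ c.a7 * d.a1 + c.a7 * σ d.a2 + σ c.a8 * d.a3 + c.b8 * d.b2 + c.a6 * c.a8 *
      σ d.a2 + c.a6 * c.b8 * σ d.a1 + c.a7 * σ c.a8 * σ d.a1 + σ c.a8 * d.a2 * d.a4 + c.a8 * σ c.a8 * d.b2 + σ c.b8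
      * d.a1 * σ d.a2 + c.b8 * d.a1 * d.a4 + σ c.a8 * σ c.b8 * d.a1 * σ d.a1 + c.a8 * σ c.a8 * d.a1 * d.a4 + c.b8 ^
      2 * d.a1 * σ d.a1 + c.a8 ^ 2 * (σ c.a8) ^ 2 * d.a1 * σ d.a1, c.a6 + d.a6 + σ c.a8 * d.a2 + c.b8 * d.a1 + c.a8
      * σ c.a8 * d.a1, c.b6 + d.b6 + c.a6 * σ d.a6 + σ c.a7 * d.a2 + c.a7 * d.a4 + c.a8 * d.a5 + σ c.b8 * d.b2 +
      c.b8 * d.a3 + c.a6 * σ c.b8 * σ d.a1 + σ c.a7 * c.a8 * d.a1 + c.a7 * c.a8 * σ d.a2 + c.a7 * c.b8 * σ d.a1 + σ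
      c.a8 * d.a2 * σ d.a6 + c.a8 * c.b8 * d.b2 + σ c.b8 * d.a1 * d.a4 + σ c.b8 * d.a2 * σ d.a2 + c.b8 * d.a1 * σ
      d.a6 + c.b8 * d.a2 * d.a4 + c.a6 * c.a8 ^ 2 * σ d.a2 + σ c.a8 * σ c.b8 * σ d.a1 * d.a2 + c.a8 * σ c.b8 * d.a1
      * σ d.a2 + c.a8 * c.b8 * d.a1 * d.a4 + c.a8 * σ c.a8 * d.a1 * σ d.a6 + c.a8 ^ 2 * σ c.a8 * d.b2 + c.b8 ^ 2 * σ
      d.a1 * d.a2 + c.a6 * c.a8 ^ 2 * σ c.a8 * σ d.a1 + c.a8 * c.b8 ^ 2 * d.a1 * σ d.a1 + c.a8 * σ c.a8 * σ c.b8 *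
      d.a1 * σ d.a1 + c.a8 ^ 2 * σ c.a8 * d.a1 * d.a4 + c.a8 ^ 2 * (σ c.a8) ^ 2 * σ d.a1 * d.a2 + c.a8 ^ 3 * (σ
      c.a8) ^ 2 * d.a1 * σ d.a1, c.a7 + d.a7 + c.a8 * d.a6 + σ c.b8 * d.a1 + c.b8 * d.a2 + c.a8 * c.b8 * d.a1 + c.a8
      ^ 2 * σ c.a8 * d.a1, c.a8, c.b8⟩ by
    refine (H.R7 _ _).trans ?_
    refine congrArg F.E (Cd.ext ?_ ?_ ?_ ?_ ?_ ?_ ?_ ?_ ?_ ?_ ?_ ?_)
    · first | with_reducible rfl | ((try simp only [map_add, map_mul, map_pow, map_zero, H.hs]) <;> ring1)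
    · first | with_reducible rfl | ((try simp only [map_add, map_mul, map_pow, map_zero, H.hs]) <;> ring1)
    · first | with_reducible rfl | ((try simp only [map_add, map_mul, map_pow, map_zero, H.hs]) <;> ring1)
    · first | with_reducible rfl | ((try simp only [map_add, map_mul, map_pow, map_zero, H.hs]) <;> ring1)
    · first | with_reducible rfl | ((try simp only [map_add, map_mul, map_pow, map_zero, H.hs]) <;> ring1)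
    · first | with_reducible rfl | ((try simp only [map_add, map_mul, map_pow, map_zero, H.hs]) <;> ring1)
    · first | with_reducible rfl | ((try simp only [map_add, map_mul, map_pow, map_zero, H.hs]) <;> ring1)
    · first | with_reducible rfl | ((try simp only [map_add, map_mul, map_pow, map_zero, H.hs]) <;> ring1)
    · first | with_reducible rfl | ((try simp only [map_add, map_mul, map_pow, map_zero, H.hs]) <;> ring1)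
    · first | with_reducible rfl | ((try simp only [map_add, map_mul, map_pow, map_zero, H.hs]) <;> ring1)
    · first | with_reducible rfl | ((try simp only [map_add, map_mul, map_pow, map_zero, H.hs]) <;> ring1)
    · first | with_reducible rfl | ((try simp only [map_add, map_mul, map_pow, map_zero, H.hs]) <;> ring1)
    ]
  rw [show F.E ⟨c.a1 + d.a1, c.a2 + d.a2 + c.a8 * d.a1, c.b2 + d.b2 + c.a2 * σ d.a2 + c.a4 * d.a1 + c.a6 * σ d.a1 + c.a2 * σ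
      c.a8 * σ d.a1 + c.a8 * d.a1 * σ d.a2 + c.b8 * d.a1 * σ d.a1, c.a3 + d.a3 + c.a4 * d.a2 + σ c.a6 * d.a1 + c.a7
      * σ d.a1 + c.a8 * d.b2 + c.a4 * c.a8 * d.a1 + c.a8 * d.a2 * σ d.a2 + σ c.b8 * d.a1 * σ d.a1 + c.b8 * σ d.a1 *
      d.a2 + c.a8 * c.b8 * d.a1 * σ d.a1 + c.a8 ^ 2 * σ c.a8 * d.a1 * σ d.a1, c.a4 + d.a4 + c.a8 * σ d.a2 + c.b8 * σ
      d.a1, c.b4 + d.b4 + c.a4 * σ d.a4 + c.a5 * d.a2 + c.a6 * d.a3 + c.a7 * d.b2 + c.a8 * σ d.a3 + c.b6 * d.a1 +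
      c.b8 * σ d.b2 + c.a5 * c.a8 * d.a1 + c.a6 * c.a7 * σ d.a1 + c.a6 * c.a8 * d.b2 + σ c.a7 * d.a1 * d.a2 + c.a7 *
      d.a2 * σ d.a2 + σ c.a8 * d.a2 * d.a3 + c.a8 * σ d.a2 * σ d.a4 + σ c.b8 * d.a1 * d.b2 + c.b8 * σ d.a1 * σ d.a4
      + c.b8 * d.a1 * d.a3 + c.b8 * d.a2 * d.b2 + c.a4 * σ c.a8 * d.a2 ^ 2 + c.a4 * σ c.b8 * d.a1 ^ 2 + c.a6 * c.a8
      * d.a2 * σ d.a2 + c.a6 * σ c.b8 * d.a1 * σ d.a1 + c.a6 * c.b8 * σ d.a1 * d.a2 + σ c.a7 * c.a8 * d.a1 ^ 2 +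
      c.a7 * σ c.a8 * σ d.a1 * d.a2 + c.a7 * c.b8 * d.a1 * σ d.a1 + c.a8 * σ c.a8 * d.a1 * d.a3 + c.a8 * σ c.a8 *
      d.a2 * d.b2 + σ c.b8 * d.a1 * d.a2 * σ d.a2 + c.b8 * d.a2 ^ 2 * σ d.a2 + c.a6 * c.a8 * c.b8 * d.a1 * σ d.a1 +
      c.a7 * c.a8 * σ c.a8 * d.a1 * σ d.a1 + σ c.a8 * σ c.b8 * d.a1 * σ d.a1 * d.a2 + σ c.a8 * c.b8 * σ d.a1 * d.a2
      ^ 2 + c.a8 * σ c.a8 * d.a2 ^ 2 * σ d.a2 + c.b8 * σ c.b8 * d.a1 ^ 2 * σ d.a1 + c.b8 ^ 2 * d.a1 * σ d.a1 * d.a2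
      + c.a6 * c.a8 ^ 2 * σ c.a8 * d.a1 * σ d.a1 + c.a8 * c.b8 ^ 2 * d.a1 ^ 2 * σ d.a1 + c.a8 * σ c.a8 * σ c.b8 *
      d.a1 ^ 2 * σ d.a1 + c.a8 ^ 2 * (σ c.a8) ^ 2 * d.a1 * σ d.a1 * d.a2 + c.a8 ^ 3 * (σ c.a8) ^ 2 * d.a1 ^ 2 * σ
      d.a1, c.a5 + d.a5 + c.a6 * d.a4 + σ c.a7 * d.a1 + c.a7 * σ d.a2 + σ c.a8 * d.a3 + c.b8 * d.b2 + c.a6 * c.a8 *
      σ d.a2 + c.a6 * c.b8 * σ d.a1 + c.a7 * σ c.a8 * σ d.a1 + σ c.a8 * d.a2 * d.a4 + c.a8 * σ c.a8 * d.b2 + σ c.b8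
      * d.a1 * σ d.a2 + c.b8 * d.a1 * d.a4 + σ c.a8 * σ c.b8 * d.a1 * σ d.a1 + c.a8 * σ c.a8 * d.a1 * d.a4 + c.b8 ^
      2 * d.a1 * σ d.a1 + c.a8 ^ 2 * (σ c.a8) ^ 2 * d.a1 * σ d.a1, c.a6 + d.a6 + σ c.a8 * d.a2 + c.b8 * d.a1 + c.a8
      * σ c.a8 * d.a1, c.b6 + d.b6 + c.a6 * σ d.a6 + σ c.a7 * d.a2 + c.a7 * d.a4 + c.a8 * d.a5 + σ c.b8 * d.b2 +
      c.b8 * d.a3 + c.a6 * σ c.b8 * σ d.a1 + σ c.a7 * c.a8 * d.a1 + c.a7 * c.a8 * σ d.a2 + c.a7 * c.b8 * σ d.a1 + σ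
      c.a8 * d.a2 * σ d.a6 + c.a8 * c.b8 * d.b2 + σ c.b8 * d.a1 * d.a4 + σ c.b8 * d.a2 * σ d.a2 + c.b8 * d.a1 * σ
      d.a6 + c.b8 * d.a2 * d.a4 + c.a6 * c.a8 ^ 2 * σ d.a2 + σ c.a8 * σ c.b8 * σ d.a1 * d.a2 + c.a8 * σ c.b8 * d.a1
      * σ d.a2 + c.a8 * c.b8 * d.a1 * d.a4 + c.a8 * σ c.a8 * d.a1 * σ d.a6 + c.a8 ^ 2 * σ c.a8 * d.b2 + c.b8 ^ 2 * σ
      d.a1 * d.a2 + c.a6 * c.a8 ^ 2 * σ c.a8 * σ d.a1 + c.a8 * c.b8 ^ 2 * d.a1 * σ d.a1 + c.a8 * σ c.a8 * σ c.b8 *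
      d.a1 * σ d.a1 + c.a8 ^ 2 * σ c.a8 * d.a1 * d.a4 + c.a8 ^ 2 * (σ c.a8) ^ 2 * σ d.a1 * d.a2 + c.a8 ^ 3 * (σ
      c.a8) ^ 2 * d.a1 * σ d.a1, c.a7 + d.a7 + c.a8 * d.a6 + σ c.b8 * d.a1 + c.b8 * d.a2 + c.a8 * c.b8 * d.a1 + c.a8
      ^ 2 * σ c.a8 * d.a1, c.a8, c.b8⟩ *
      F.x8 d.a8 d.b8 =
      F.E ⟨c.a1 + d.a1, c.a2 + d.a2 + c.a8 * d.a1, c.b2 + d.b2 + c.a2 * σ d.a2 + c.a4 * d.a1 + c.a6 * σ d.a1 + c.a2 * σ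
      c.a8 * σ d.a1 + c.a8 * d.a1 * σ d.a2 + c.b8 * d.a1 * σ d.a1, c.a3 + d.a3 + c.a4 * d.a2 + σ c.a6 * d.a1 + c.a7
      * σ d.a1 + c.a8 * d.b2 + c.a4 * c.a8 * d.a1 + c.a8 * d.a2 * σ d.a2 + σ c.b8 * d.a1 * σ d.a1 + c.b8 * σ d.a1 *
      d.a2 + c.a8 * c.b8 * d.a1 * σ d.a1 + c.a8 ^ 2 * σ c.a8 * d.a1 * σ d.a1, c.a4 + d.a4 + c.a8 * σ d.a2 + c.b8 * σ
      d.a1, c.b4 + d.b4 + c.a4 * σ d.a4 + c.a5 * d.a2 + c.a6 * d.a3 + c.a7 * d.b2 + c.a8 * σ d.a3 + c.b6 * d.a1 +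
      c.b8 * σ d.b2 + c.a5 * c.a8 * d.a1 + c.a6 * c.a7 * σ d.a1 + c.a6 * c.a8 * d.b2 + σ c.a7 * d.a1 * d.a2 + c.a7 *
      d.a2 * σ d.a2 + σ c.a8 * d.a2 * d.a3 + c.a8 * σ d.a2 * σ d.a4 + σ c.b8 * d.a1 * d.b2 + c.b8 * σ d.a1 * σ d.a4
      + c.b8 * d.a1 * d.a3 + c.b8 * d.a2 * d.b2 + c.a4 * σ c.a8 * d.a2 ^ 2 + c.a4 * σ c.b8 * d.a1 ^ 2 + c.a6 * c.a8
      * d.a2 * σ d.a2 + c.a6 * σ c.b8 * d.a1 * σ d.a1 + c.a6 * c.b8 * σ d.a1 * d.a2 + σ c.a7 * c.a8 * d.a1 ^ 2 +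
      c.a7 * σ c.a8 * σ d.a1 * d.a2 + c.a7 * c.b8 * d.a1 * σ d.a1 + c.a8 * σ c.a8 * d.a1 * d.a3 + c.a8 * σ c.a8 *
      d.a2 * d.b2 + σ c.b8 * d.a1 * d.a2 * σ d.a2 + c.b8 * d.a2 ^ 2 * σ d.a2 + c.a6 * c.a8 * c.b8 * d.a1 * σ d.a1 +
      c.a7 * c.a8 * σ c.a8 * d.a1 * σ d.a1 + σ c.a8 * σ c.b8 * d.a1 * σ d.a1 * d.a2 + σ c.a8 * c.b8 * σ d.a1 * d.a2
      ^ 2 + c.a8 * σ c.a8 * d.a2 ^ 2 * σ d.a2 + c.b8 * σ c.b8 * d.a1 ^ 2 * σ d.a1 + c.b8 ^ 2 * d.a1 * σ d.a1 * d.a2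
      + c.a6 * c.a8 ^ 2 * σ c.a8 * d.a1 * σ d.a1 + c.a8 * c.b8 ^ 2 * d.a1 ^ 2 * σ d.a1 + c.a8 * σ c.a8 * σ c.b8 *
      d.a1 ^ 2 * σ d.a1 + c.a8 ^ 2 * (σ c.a8) ^ 2 * d.a1 * σ d.a1 * d.a2 + c.a8 ^ 3 * (σ c.a8) ^ 2 * d.a1 ^ 2 * σ
      d.a1, c.a5 + d.a5 + c.a6 * d.a4 + σ c.a7 * d.a1 + c.a7 * σ d.a2 + σ c.a8 * d.a3 + c.b8 * d.b2 + c.a6 * c.a8 *
      σ d.a2 + c.a6 * c.b8 * σ d.a1 + c.a7 * σ c.a8 * σ d.a1 + σ c.a8 * d.a2 * d.a4 + c.a8 * σ c.a8 * d.b2 + σ c.b8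
      * d.a1 * σ d.a2 + c.b8 * d.a1 * d.a4 + σ c.a8 * σ c.b8 * d.a1 * σ d.a1 + c.a8 * σ c.a8 * d.a1 * d.a4 + c.b8 ^
      2 * d.a1 * σ d.a1 + c.a8 ^ 2 * (σ c.a8) ^ 2 * d.a1 * σ d.a1, c.a6 + d.a6 + σ c.a8 * d.a2 + c.b8 * d.a1 + c.a8
      * σ c.a8 * d.a1, c.b6 + d.b6 + c.a6 * σ d.a6 + σ c.a7 * d.a2 + c.a7 * d.a4 + c.a8 * d.a5 + σ c.b8 * d.b2 +
      c.b8 * d.a3 + c.a6 * σ c.b8 * σ d.a1 + σ c.a7 * c.a8 * d.a1 + c.a7 * c.a8 * σ d.a2 + c.a7 * c.b8 * σ d.a1 + σ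
      c.a8 * d.a2 * σ d.a6 + c.a8 * c.b8 * d.b2 + σ c.b8 * d.a1 * d.a4 + σ c.b8 * d.a2 * σ d.a2 + c.b8 * d.a1 * σ
      d.a6 + c.b8 * d.a2 * d.a4 + c.a6 * c.a8 ^ 2 * σ d.a2 + σ c.a8 * σ c.b8 * σ d.a1 * d.a2 + c.a8 * σ c.b8 * d.a1
      * σ d.a2 + c.a8 * c.b8 * d.a1 * d.a4 + c.a8 * σ c.a8 * d.a1 * σ d.a6 + c.a8 ^ 2 * σ c.a8 * d.b2 + c.b8 ^ 2 * σ
      d.a1 * d.a2 + c.a6 * c.a8 ^ 2 * σ c.a8 * σ d.a1 + c.a8 * c.b8 ^ 2 * d.a1 * σ d.a1 + c.a8 * σ c.a8 * σ c.b8 *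
      d.a1 * σ d.a1 + c.a8 ^ 2 * σ c.a8 * d.a1 * d.a4 + c.a8 ^ 2 * (σ c.a8) ^ 2 * σ d.a1 * d.a2 + c.a8 ^ 3 * (σ
      c.a8) ^ 2 * d.a1 * σ d.a1, c.a7 + d.a7 + c.a8 * d.a6 + σ c.b8 * d.a1 + c.b8 * d.a2 + c.a8 * c.b8 * d.a1 + c.a8
      ^ 2 * σ c.a8 * d.a1, c.a8 + d.a8, c.b8 + d.b8 + c.a8 * σ d.a8⟩ by
    refine (H.R8 _ _ _).trans ?_
    refine congrArg F.E (Cd.ext ?_ ?_ ?_ ?_ ?_ ?_ ?_ ?_ ?_ ?_ ?_ ?_)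
    · first | with_reducible rfl | ((try simp only [map_add, map_mul, map_pow, map_zero, H.hs]) <;> ring1)
    · first | with_reducible rfl | ((try simp only [map_add, map_mul, map_pow, map_zero, H.hs]) <;> ring1)
    · first | with_reducible rfl | ((try simp only [map_add, map_mul, map_pow, map_zero, H.hs]) <;> ring1)
    · first | with_reducible rfl | ((try simp only [map_add, map_mul, map_pow, map_zero, H.hs]) <;> ring1)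
    · first | with_reducible rfl | ((try simp only [map_add, map_mul, map_pow, map_zero, H.hs]) <;> ring1)
    · first | with_reducible rfl | ((try simp only [map_add, map_mul, map_pow, map_zero, H.hs]) <;> ring1)
    · first | with_reducible rfl | ((try simp only [map_add, map_mul, map_pow, map_zero, H.hs]) <;> ring1)
    · first | with_reducible rfl | ((try simp only [map_add, map_mul, map_pow, map_zero, H.hs]) <;> ring1)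
    · first | with_reducible rfl | ((try simp only [map_add, map_mul, map_pow, map_zero, H.hs]) <;> ring1)
    · first | with_reducible rfl | ((try simp only [map_add, map_mul, map_pow, map_zero, H.hs]) <;> ring1)
    · first | with_reducible rfl | ((try simp only [map_add, map_mul, map_pow, map_zero, H.hs]) <;> ring1)
    · first | with_reducible rfl | ((try simp only [map_add, map_mul, map_pow, map_zero, H.hs]) <;> ring1)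
    ]
  rfl

theorem E_inv (c : Cd K) : (F.E c)⁻¹ = F.E (minv σ c) := by
  rw [Fam.E]
  simp only [mul_inv_rev, H.i1, H.i2, H.i3, H.i4, H.i5, H.i6, H.i7, H.i8, ← mul_assoc]
  rw [show F.x8 c.a8 (c.b8 + c.a8 * σ c.a8) = F.E ⟨0, 0, 0, 0, 0, 0, 0, 0, 0, 0, c.a8, c.b8 + c.a8 * σ c.a8⟩ by
    simp only [Fam.E, H.z1, H.z2, H.z3, H.z4, H.z5, H.z6, H.z7, one_mul]]
  rw [show F.E ⟨0, 0, 0, 0, 0, 0, 0, 0, 0, 0, c.a8, c.b8 + c.a8 * σ c.a8⟩ *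
      F.x7 c.a7 =
      F.E ⟨0, 0, 0, 0, 0, 0, 0, 0, 0, c.a7, c.a8, c.b8 + c.a8 * σ c.a8⟩ by
    refine (H.R7 _ _).trans ?_
    refine congrArg F.E (Cd.ext ?_ ?_ ?_ ?_ ?_ ?_ ?_ ?_ ?_ ?_ ?_ ?_)
    · first | with_reducible rfl | ((try simp only [map_add, map_mul, map_pow, map_zero, H.hs]) <;> ring1)
    · first | with_reducible rfl | ((try simp only [map_add, map_mul, map_pow, map_zero, H.hs]) <;> ring1)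
    · first | with_reducible rfl | ((try simp only [map_add, map_mul, map_pow, map_zero, H.hs]) <;> ring1)
    · first | with_reducible rfl | ((try simp only [map_add, map_mul, map_pow, map_zero, H.hs]) <;> ring1)
    · first | with_reducible rfl | ((try simp only [map_add, map_mul, map_pow, map_zero, H.hs]) <;> ring1)
    · first | with_reducible rfl | ((try simp only [map_add, map_mul, map_pow, map_zero, H.hs]) <;> ring1)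
    · first | with_reducible rfl | ((try simp only [map_add, map_mul, map_pow, map_zero, H.hs]) <;> ring1)
    · first | with_reducible rfl | ((try simp only [map_add, map_mul, map_pow, map_zero, H.hs]) <;> ring1)
    · first | with_reducible rfl | ((try simp only [map_add, map_mul, map_pow, map_zero, H.hs]) <;> ring1)
    · first | with_reducible rfl | ((try simp only [map_add, map_mul, map_pow, map_zero, H.hs]) <;> ring1)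
    · first | with_reducible rfl | ((try simp only [map_add, map_mul, map_pow, map_zero, H.hs]) <;> ring1)
    · first | with_reducible rfl | ((try simp only [map_add, map_mul, map_pow, map_zero, H.hs]) <;> ring1)
    ]
  rw [show F.E ⟨0, 0, 0, 0, 0, 0, 0, 0, 0, c.a7, c.a8, c.b8 + c.a8 * σ c.a8⟩ *
      F.x6 c.a6 (c.b6 + c.a6 * σ c.a6) =
      F.E ⟨0, 0, 0, 0, 0, 0, 0, c.a6, c.b6 + c.a6 * σ c.a6, c.a7 + c.a6 * c.a8, c.a8, c.b8 + c.a8 * σ c.a8⟩ by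
    refine (H.R6 _ _ _).trans ?_
    refine congrArg F.E (Cd.ext ?_ ?_ ?_ ?_ ?_ ?_ ?_ ?_ ?_ ?_ ?_ ?_)
    · first | with_reducible rfl | ((try simp only [map_add, map_mul, map_pow, map_zero, H.hs]) <;> ring1)
    · first | with_reducible rfl | ((try simp only [map_add, map_mul, map_pow, map_zero, H.hs]) <;> ring1)
    · first | with_reducible rfl | ((try simp only [map_add, map_mul, map_pow, map_zero, H.hs]) <;> ring1)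
    · first | with_reducible rfl | ((try simp only [map_add, map_mul, map_pow, map_zero, H.hs]) <;> ring1)
    · first | with_reducible rfl | ((try simp only [map_add, map_mul, map_pow, map_zero, H.hs]) <;> ring1)
    · first | with_reducible rfl | ((try simp only [map_add, map_mul, map_pow, map_zero, H.hs]) <;> ring1)
    · first | with_reducible rfl | ((try simp only [map_add, map_mul, map_pow, map_zero, H.hs]) <;> ring1)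
    · first | with_reducible rfl | ((try simp only [map_add, map_mul, map_pow, map_zero, H.hs]) <;> ring1)
    · first | with_reducible rfl | ((try simp only [map_add, map_mul, map_pow, map_zero, H.hs]) <;> ring1)
    · first | with_reducible rfl | ((try simp only [map_add, map_mul, map_pow, map_zero, H.hs]) <;> ring1)
    · first | with_reducible rfl | ((try simp only [map_add, map_mul, map_pow, map_zero, H.hs]) <;> ring1)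
    · first | with_reducible rfl | ((try simp only [map_add, map_mul, map_pow, map_zero, H.hs]) <;> ring1)
    ]
  rw [show F.E ⟨0, 0, 0, 0, 0, 0, 0, c.a6, c.b6 + c.a6 * σ c.a6, c.a7 + c.a6 * c.a8, c.a8, c.b8 + c.a8 * σ c.a8⟩ *
      F.x5 c.a5 =
      F.E ⟨0, 0, 0, 0, 0, 0, c.a5, c.a6, c.b6 + c.a5 * c.a8 + c.a6 * σ c.a6, c.a7 + c.a6 * c.a8, c.a8, c.b8 + c.a8 * σ
      c.a8⟩ by
    refine (H.R5 _ _).trans ?_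
    refine congrArg F.E (Cd.ext ?_ ?_ ?_ ?_ ?_ ?_ ?_ ?_ ?_ ?_ ?_ ?_)
    · first | with_reducible rfl | ((try simp only [map_add, map_mul, map_pow, map_zero, H.hs]) <;> ring1)
    · first | with_reducible rfl | ((try simp only [map_add, map_mul, map_pow, map_zero, H.hs]) <;> ring1)
    · first | with_reducible rfl | ((try simp only [map_add, map_mul, map_pow, map_zero, H.hs]) <;> ring1)
    · first | with_reducible rfl | ((try simp only [map_add, map_mul, map_pow, map_zero, H.hs]) <;> ring1)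
    · first | with_reducible rfl | ((try simp only [map_add, map_mul, map_pow, map_zero, H.hs]) <;> ring1)
    · first | with_reducible rfl | ((try simp only [map_add, map_mul, map_pow, map_zero, H.hs]) <;> ring1)
    · first | with_reducible rfl | ((try simp only [map_add, map_mul, map_pow, map_zero, H.hs]) <;> ring1)
    · first | with_reducible rfl | ((try simp only [map_add, map_mul, map_pow, map_zero, H.hs]) <;> ring1)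
    · first | with_reducible rfl | ((try simp only [map_add, map_mul, map_pow, map_zero, H.hs]) <;> ring1)
    · first | with_reducible rfl | ((try simp only [map_add, map_mul, map_pow, map_zero, H.hs]) <;> ring1)
    · first | with_reducible rfl | ((try simp only [map_add, map_mul, map_pow, map_zero, H.hs]) <;> ring1)
    · first | with_reducible rfl | ((try simp only [map_add, map_mul, map_pow, map_zero, H.hs]) <;> ring1)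
    ]
  rw [show F.E ⟨0, 0, 0, 0, 0, 0, c.a5, c.a6, c.b6 + c.a5 * c.a8 + c.a6 * σ c.a6, c.a7 + c.a6 * c.a8, c.a8, c.b8 + c.a8 * σ
      c.a8⟩ *
      F.x4 c.a4 (c.b4 + c.a4 * σ c.a4) =
      F.E ⟨0, 0, 0, 0, c.a4, c.b4 + c.a4 * σ c.a4, c.a5 + c.a4 * c.a6, c.a6, c.b6 + c.a4 * c.a7 + c.a5 * c.a8 + c.a6 * σ
      c.a6 + c.a4 * c.a6 * c.a8, c.a7 + c.a6 * c.a8, c.a8, c.b8 + c.a8 * σ c.a8⟩ by
    refine (H.R4 _ _ _).trans ?_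
    refine congrArg F.E (Cd.ext ?_ ?_ ?_ ?_ ?_ ?_ ?_ ?_ ?_ ?_ ?_ ?_)
    · first | with_reducible rfl | ((try simp only [map_add, map_mul, map_pow, map_zero, H.hs]) <;> ring1)
    · first | with_reducible rfl | ((try simp only [map_add, map_mul, map_pow, map_zero, H.hs]) <;> ring1)
    · first | with_reducible rfl | ((try simp only [map_add, map_mul, map_pow, map_zero, H.hs]) <;> ring1)
    · first | with_reducible rfl | ((try simp only [map_add, map_mul, map_pow, map_zero, H.hs]) <;> ring1)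
    · first | with_reducible rfl | ((try simp only [map_add, map_mul, map_pow, map_zero, H.hs]) <;> ring1)
    · first | with_reducible rfl | ((try simp only [map_add, map_mul, map_pow, map_zero, H.hs]) <;> ring1)
    · first | with_reducible rfl | ((try simp only [map_add, map_mul, map_pow, map_zero, H.hs]) <;> ring1)
    · first | with_reducible rfl | ((try simp only [map_add, map_mul, map_pow, map_zero, H.hs]) <;> ring1)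
    · first | with_reducible rfl | ((try simp only [map_add, map_mul, map_pow, map_zero, H.hs]) <;> ring1)
    · first | with_reducible rfl | ((try simp only [map_add, map_mul, map_pow, map_zero, H.hs]) <;> ring1)
    · first | with_reducible rfl | ((try simp only [map_add, map_mul, map_pow, map_zero, H.hs]) <;> ring1)
    · first | with_reducible rfl | ((try simp only [map_add, map_mul, map_pow, map_zero, H.hs]) <;> ring1)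
    ]
  rw [show F.E ⟨0, 0, 0, 0, c.a4, c.b4 + c.a4 * σ c.a4, c.a5 + c.a4 * c.a6, c.a6, c.b6 + c.a4 * c.a7 + c.a5 * c.a8 + c.a6 * σ
      c.a6 + c.a4 * c.a6 * c.a8, c.a7 + c.a6 * c.a8, c.a8, c.b8 + c.a8 * σ c.a8⟩ *
      F.x3 c.a3 =
      F.E ⟨0, 0, 0, c.a3, c.a4, c.b4 + σ c.a3 * c.a8 + c.a3 * c.a6 + c.a4 * σ c.a4, c.a5 + c.a3 * σ c.a8 + c.a4 * c.a6,
      c.a6, c.b6 + c.a3 * c.b8 + c.a4 * c.a7 + c.a5 * c.a8 + c.a6 * σ c.a6 + c.a3 * c.a8 * σ c.a8 + c.a4 * c.a6 *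
      c.a8, c.a7 + c.a6 * c.a8, c.a8, c.b8 + c.a8 * σ c.a8⟩ by
    refine (H.R3 _ _).trans ?_
    refine congrArg F.E (Cd.ext ?_ ?_ ?_ ?_ ?_ ?_ ?_ ?_ ?_ ?_ ?_ ?_)
    · first | with_reducible rfl | ((try simp only [map_add, map_mul, map_pow, map_zero, H.hs]) <;> ring1)
    · first | with_reducible rfl | ((try simp only [map_add, map_mul, map_pow, map_zero, H.hs]) <;> ring1)
    · first | with_reducible rfl | ((try simp only [map_add, map_mul, map_pow, map_zero, H.hs]) <;> ring1)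
    · first | with_reducible rfl | ((try simp only [map_add, map_mul, map_pow, map_zero, H.hs]) <;> ring1)
    · first | with_reducible rfl | ((try simp only [map_add, map_mul, map_pow, map_zero, H.hs]) <;> ring1)
    · first | with_reducible rfl | ((try simp only [map_add, map_mul, map_pow, map_zero, H.hs]) <;> ring1)
    · first | with_reducible rfl | ((try simp only [map_add, map_mul, map_pow, map_zero, H.hs]) <;> ring1)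
    · first | with_reducible rfl | ((try simp only [map_add, map_mul, map_pow, map_zero, H.hs]) <;> ring1)
    · first | with_reducible rfl | ((try simp only [map_add, map_mul, map_pow, map_zero, H.hs]) <;> ring1)
    · first | with_reducible rfl | ((try simp only [map_add, map_mul, map_pow, map_zero, H.hs]) <;> ring1)
    · first | with_reducible rfl | ((try simp only [map_add, map_mul, map_pow, map_zero, H.hs]) <;> ring1)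
    · first | with_reducible rfl | ((try simp only [map_add, map_mul, map_pow, map_zero, H.hs]) <;> ring1)
    ]
  rw [show F.E ⟨0, 0, 0, c.a3, c.a4, c.b4 + σ c.a3 * c.a8 + c.a3 * c.a6 + c.a4 * σ c.a4, c.a5 + c.a3 * σ c.a8 + c.a4 * c.a6,
      c.a6, c.b6 + c.a3 * c.b8 + c.a4 * c.a7 + c.a5 * c.a8 + c.a6 * σ c.a6 + c.a3 * c.a8 * σ c.a8 + c.a4 * c.a6 *
      c.a8, c.a7 + c.a6 * c.a8, c.a8, c.b8 + c.a8 * σ c.a8⟩ *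
      F.x2 c.a2 (c.b2 + c.a2 * σ c.a2) =
      F.E ⟨0, c.a2, c.b2 + c.a2 * σ c.a2, c.a3 + c.a2 * c.a4 + c.a8 * c.b2, c.a4 + σ c.a2 * c.a8, c.b4 + c.a2 * c.a5 + σ
      c.a3 * c.a8 + c.a3 * c.a6 + c.a4 * σ c.a4 + c.a7 * c.b2 + σ c.b2 * c.b8 + c.a2 * c.a3 * σ c.a8 + c.a2 * c.a4 *
      c.a6 + c.a2 * c.b2 * c.b8 + c.a8 * σ c.a8 * σ c.b2 + c.a2 ^ 2 * c.a4 * σ c.a8 + c.a2 ^ 2 * σ c.a2 * c.b8 +
      c.a2 ^ 2 * σ c.a2 * c.a8 * σ c.a8, c.a5 + σ c.a2 * c.a7 + c.a3 * σ c.a8 + c.a4 * c.a6 + c.b2 * c.b8 + c.a2 * σ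
      c.a2 * c.b8, c.a6 + c.a2 * σ c.a8, c.b6 + c.a2 * σ c.a7 + c.a3 * c.b8 + c.a4 * c.a7 + c.a5 * c.a8 + c.a6 * σ
      c.a6 + c.b2 * σ c.b8 + σ c.a2 * c.a7 * c.a8 + c.a2 * σ c.a6 * σ c.a8 + c.a3 * c.a8 * σ c.a8 + c.a4 * c.a6 *
      c.a8 + c.a8 * c.b2 * c.b8 + c.a2 * σ c.a2 * c.a8 * c.b8 + c.a8 ^ 2 * σ c.a8 * c.b2, c.a7 + c.a2 * c.b8 + c.a6
      * c.a8 + c.a2 * c.a8 * σ c.a8, c.a8, c.b8 + c.a8 * σ c.a8⟩ by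
    refine (H.R2 _ _ _).trans ?_
    refine congrArg F.E (Cd.ext ?_ ?_ ?_ ?_ ?_ ?_ ?_ ?_ ?_ ?_ ?_ ?_)
    · first | with_reducible rfl | ((try simp only [map_add, map_mul, map_pow, map_zero, H.hs]) <;> ring1)
    · first | with_reducible rfl | ((try simp only [map_add, map_mul, map_pow, map_zero, H.hs]) <;> ring1)
    · first | with_reducible rfl | ((try simp only [map_add, map_mul, map_pow, map_zero, H.hs]) <;> ring1)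
    · try simp only [map_add, map_mul, map_pow, map_zero, H.hs]
      linear_combination (c.a2 * σ c.a2 * c.a8) * H.h2
    · first | with_reducible rfl | ((try simp only [map_add, map_mul, map_pow, map_zero, H.hs]) <;> ring1)
    · try simp only [map_add, map_mul, map_pow, map_zero, H.hs]
      linear_combination (c.a2 * c.a8 * σ c.a8 * c.b2 + 2 * c.a2 * σ c.a2 * c.a6 * c.a8 + c.a2 * σ c.a2 * c.a7 + 2 * c.a2 ^ 2 * σ c.a2 *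
      c.a8 * σ c.a8 + c.a2 ^ 2 * σ c.a2 * c.b8 + c.a6 * c.a8 * c.b2) * H.h2
    · try simp only [map_add, map_mul, map_pow, map_zero, H.hs]
      linear_combination (σ c.a2 * c.a6 * c.a8 + c.a2 * σ c.a2 * c.a8 * σ c.a8 + c.a8 * σ c.a8 * c.b2) * H.h2
    · first | with_reducible rfl | ((try simp only [map_add, map_mul, map_pow, map_zero, H.hs]) <;> ring1)
    · try simp only [map_add, map_mul, map_pow, map_zero, H.hs]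
      linear_combination (σ c.a2 * c.a6 * c.a8 ^ 2 + 2 * c.a2 * σ c.a2 * c.a8 ^ 2 * σ c.a8 + c.a2 * σ c.a2 * σ c.b8 + c.a8 ^ 2 * σ c.a8
      * c.b2) * H.h2
    · first | with_reducible rfl | ((try simp only [map_add, map_mul, map_pow, map_zero, H.hs]) <;> ring1)
    · first | with_reducible rfl | ((try simp only [map_add, map_mul, map_pow, map_zero, H.hs]) <;> ring1)
    · first | with_reducible rfl | ((try simp only [map_add, map_mul, map_pow, map_zero, H.hs]) <;> ring1)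
    ]
  rw [show F.E ⟨0, c.a2, c.b2 + c.a2 * σ c.a2, c.a3 + c.a2 * c.a4 + c.a8 * c.b2, c.a4 + σ c.a2 * c.a8, c.b4 + c.a2 * c.a5 + σ
      c.a3 * c.a8 + c.a3 * c.a6 + c.a4 * σ c.a4 + c.a7 * c.b2 + σ c.b2 * c.b8 + c.a2 * c.a3 * σ c.a8 + c.a2 * c.a4 *
      c.a6 + c.a2 * c.b2 * c.b8 + c.a8 * σ c.a8 * σ c.b2 + c.a2 ^ 2 * c.a4 * σ c.a8 + c.a2 ^ 2 * σ c.a2 * c.b8 +
      c.a2 ^ 2 * σ c.a2 * c.a8 * σ c.a8, c.a5 + σ c.a2 * c.a7 + c.a3 * σ c.a8 + c.a4 * c.a6 + c.b2 * c.b8 + c.a2 * σ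
      c.a2 * c.b8, c.a6 + c.a2 * σ c.a8, c.b6 + c.a2 * σ c.a7 + c.a3 * c.b8 + c.a4 * c.a7 + c.a5 * c.a8 + c.a6 * σ
      c.a6 + c.b2 * σ c.b8 + σ c.a2 * c.a7 * c.a8 + c.a2 * σ c.a6 * σ c.a8 + c.a3 * c.a8 * σ c.a8 + c.a4 * c.a6 *
      c.a8 + c.a8 * c.b2 * c.b8 + c.a2 * σ c.a2 * c.a8 * c.b8 + c.a8 ^ 2 * σ c.a8 * c.b2, c.a7 + c.a2 * c.b8 + c.a6
      * c.a8 + c.a2 * c.a8 * σ c.a8, c.a8, c.b8 + c.a8 * σ c.a8⟩ *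
      F.x1 c.a1 =
      F.E ⟨c.a1, c.a2 + c.a1 * c.a8, c.b2 + σ c.a1 * c.a6 + c.a1 * c.a4 + c.a2 * σ c.a2 + c.a1 * σ c.a2 * c.a8 + c.a1 *
      σ c.a1 * c.b8 + c.a1 * σ c.a1 * c.a8 * σ c.a8, c.a3 + σ c.a1 * c.a7 + c.a1 * σ c.a6 + c.a2 * c.a4 + c.a8 *
      c.b2 + σ c.a1 * c.a2 * c.b8 + σ c.a1 * c.a6 * c.a8 + c.a1 * c.a4 * c.a8 + c.a1 * σ c.a1 * σ c.b8 + σ c.a1 *
      c.a2 * c.a8 * σ c.a8 + c.a1 * σ c.a1 * c.a8 * c.b8 + c.a1 * σ c.a1 * c.a8 ^ 2 * σ c.a8, c.a4 + σ c.a1 * c.b8 +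
      σ c.a2 * c.a8 + σ c.a1 * c.a8 * σ c.a8, c.b4 + c.a1 * c.b6 + c.a2 * c.a5 + σ c.a3 * c.a8 + c.a3 * c.a6 + c.a4
      * σ c.a4 + c.a7 * c.b2 + σ c.b2 * c.b8 + σ c.a1 * c.a6 * c.a7 + c.a1 * c.a2 * σ c.a7 + c.a1 * c.a3 * c.b8 +
      c.a1 * c.a4 * c.a7 + c.a1 * c.a6 * σ c.a6 + c.a1 * c.b2 * σ c.b8 + c.a2 * c.a3 * σ c.a8 + c.a2 * c.a4 * c.a6 +
      c.a2 * c.b2 * c.b8 + c.a8 * σ c.a8 * σ c.b2 + σ c.a1 * c.a2 * c.a6 * c.b8 + σ c.a1 * c.a2 * c.a7 * σ c.a8 + σ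
      c.a1 * c.a6 ^ 2 * c.a8 + c.a1 * c.a2 * σ c.a6 * σ c.a8 + c.a1 * σ c.a1 * c.a6 * σ c.b8 + c.a1 * σ c.a1 * c.a7
      * c.b8 + c.a1 ^ 2 * c.a4 * σ c.b8 + c.a1 ^ 2 * σ c.a7 * c.a8 + c.a2 ^ 2 * c.a4 * σ c.a8 + c.a2 ^ 2 * σ c.a2 *
      c.b8 + σ c.a1 * c.a2 ^ 2 * σ c.a8 * c.b8 + c.a1 * c.a8 ^ 2 * σ c.a8 * c.b2 + c.a1 * σ c.a1 * c.a2 * σ c.a8 * σ
      c.b8 + c.a1 * σ c.a1 * c.a2 * c.b8 ^ 2 + c.a1 ^ 2 * σ c.a6 * c.a8 * σ c.a8 + c.a1 ^ 2 * σ c.a1 * c.b8 * σ c.b8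
      + c.a2 ^ 2 * σ c.a2 * c.a8 * σ c.a8 + σ c.a1 * c.a2 ^ 2 * c.a8 * (σ c.a8) ^ 2 + c.a1 * σ c.a1 * c.a6 * c.a8 ^
      2 * σ c.a8 + c.a1 ^ 2 * c.a4 * c.a8 ^ 2 * σ c.a8 + c.a1 ^ 2 * σ c.a1 * c.a8 * c.b8 ^ 2 + c.a1 * σ c.a1 * c.a2
      * c.a8 ^ 2 * (σ c.a8) ^ 2 + c.a1 ^ 2 * σ c.a1 * c.a8 ^ 2 * σ c.a8 * c.b8, c.a5 + c.a1 * σ c.a7 + σ c.a2 * c.a7
      + c.a3 * σ c.a8 + c.a4 * c.a6 + c.b2 * c.b8 + σ c.a1 * c.a6 * c.b8 + σ c.a1 * c.a7 * σ c.a8 + c.a1 * σ c.a2 *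
      σ c.b8 + c.a1 * σ c.a6 * σ c.a8 + c.a2 * σ c.a2 * c.b8 + c.a1 * σ c.a1 * σ c.a8 * σ c.b8 + c.a1 * σ c.a1 *
      c.b8 ^ 2 + c.a1 * σ c.a2 * c.a8 ^ 2 * σ c.a8 + c.a1 * σ c.a1 * c.a8 ^ 2 * (σ c.a8) ^ 2, c.a6 + c.a1 * c.b8 +
      c.a2 * σ c.a8, c.b6 + c.a2 * σ c.a7 + c.a3 * c.b8 + c.a4 * c.a7 + c.a5 * c.a8 + c.a6 * σ c.a6 + c.b2 * σ c.b8
      + σ c.a1 * c.a6 * σ c.b8 + σ c.a1 * c.a7 * c.b8 + c.a1 * σ c.a7 * c.a8 + σ c.a2 * c.a7 * c.a8 + c.a2 * σ c.a6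
      * σ c.a8 + c.a3 * c.a8 * σ c.a8 + c.a4 * c.a6 * c.a8 + c.a8 * c.b2 * c.b8 + σ c.a1 * c.a2 * σ c.a8 * σ c.b8 +
      σ c.a1 * c.a2 * c.b8 ^ 2 + σ c.a1 * c.a6 * c.a8 * c.b8 + σ c.a1 * c.a7 * c.a8 * σ c.a8 + c.a1 * σ c.a2 * c.a8
      * σ c.b8 + c.a1 * σ c.a6 * c.a8 * σ c.a8 + c.a2 * σ c.a2 * c.a8 * c.b8 + c.a8 ^ 2 * σ c.a8 * c.b2 + σ c.a1 *
      c.a6 * c.a8 ^ 2 * σ c.a8 + c.a1 * σ c.a1 * c.a8 * c.b8 ^ 2 + c.a1 * σ c.a1 * c.a8 * σ c.a8 * σ c.b8 + σ c.a1 *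
      c.a2 * c.a8 ^ 2 * (σ c.a8) ^ 2 + c.a1 * σ c.a2 * c.a8 ^ 3 * σ c.a8 + c.a1 * σ c.a1 * c.a8 ^ 3 * (σ c.a8) ^ 2,
      c.a7 + c.a1 * σ c.b8 + c.a2 * c.b8 + c.a6 * c.a8 + c.a1 * c.a8 * c.b8 + c.a2 * c.a8 * σ c.a8 + c.a1 * c.a8 ^ 2
      * σ c.a8, c.a8, c.b8 + c.a8 * σ c.a8⟩ by
    refine (H.R1 _ _).trans ?_
    refine congrArg F.E (Cd.ext ?_ ?_ ?_ ?_ ?_ ?_ ?_ ?_ ?_ ?_ ?_ ?_)
    · first | with_reducible rfl | ((try simp only [map_add, map_mul, map_pow, map_zero, H.hs]) <;> ring1)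
    · first | with_reducible rfl | ((try simp only [map_add, map_mul, map_pow, map_zero, H.hs]) <;> ring1)
    · try simp only [map_add, map_mul, map_pow, map_zero, H.hs]
      linear_combination (σ c.a1 * c.a2 * σ c.a8) * H.h2
    · try simp only [map_add, map_mul, map_pow, map_zero, H.hs]
      linear_combination (c.a1 * σ c.a2 * c.a8 ^ 2 + c.a1 * σ c.a1 * c.a8 ^ 2 * σ c.a8) * H.h2
    · first | with_reducible rfl | ((try simp only [map_add, map_mul, map_pow, map_zero, H.hs]) <;> ring1)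
    · try simp only [map_add, map_mul, map_pow, map_zero, H.hs]
      linear_combination (σ c.a1 * c.a2 * c.a6 * c.a8 * σ c.a8 + c.a1 * σ c.a2 * c.a7 * c.a8 + c.a1 * c.a2 * σ c.a2 * c.a8 * c.b8 + c.a1
      * c.a3 * c.a8 * σ c.a8 + c.a1 * c.a4 * c.a6 * c.a8 + c.a1 * c.a5 * c.a8 + c.a1 * c.a8 * c.b2 * c.b8 + 2 * c.a1
      * σ c.a1 * c.a2 * c.a8 * σ c.a8 * c.b8 + 2 * c.a1 * σ c.a1 * c.a2 * c.a8 ^ 2 * (σ c.a8) ^ 2 + c.a1 * σ c.a1 *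
      c.a6 * c.a8 * c.b8 + 2 * c.a1 * σ c.a1 * c.a6 * c.a8 ^ 2 * σ c.a8 + c.a1 * σ c.a1 * c.a7 * c.a8 * σ c.a8 +
      c.a1 ^ 2 * σ c.a2 * c.a8 * σ c.b8 + c.a1 ^ 2 * σ c.a2 * c.a8 ^ 3 * σ c.a8 + c.a1 ^ 2 * σ c.a1 * c.a8 * σ c.a8
      * σ c.b8 + c.a1 ^ 2 * σ c.a1 * c.a8 ^ 2 * σ c.a8 * c.b8 + 2 * c.a1 ^ 2 * σ c.a1 * c.a8 ^ 3 * (σ c.a8) ^ 2) * H.h2
    · try simp only [map_add, map_mul, map_pow, map_zero, H.hs]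
      linear_combination (σ c.a1 * c.a2 * σ c.a8 * c.b8 + σ c.a1 * c.a2 * c.a8 * (σ c.a8) ^ 2 + σ c.a1 * c.a6 * c.a8 * σ c.a8 + c.a1 * σ
      c.a1 * c.a8 * σ c.a8 * c.b8 + c.a1 * σ c.a1 * c.a8 ^ 2 * (σ c.a8) ^ 2) * H.h2
    · try simp only [map_add, map_mul, map_pow, map_zero, H.hs]
      linear_combination (c.a1 * c.a8 * σ c.a8) * H.h2
    · try simp only [map_add, map_mul, map_pow, map_zero, H.hs]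
      linear_combination (σ c.a1 * c.a2 * c.a8 * σ c.a8 * c.b8 + σ c.a1 * c.a2 * c.a8 ^ 2 * (σ c.a8) ^ 2 + σ c.a1 * c.a6 * c.a8 ^ 2 * σ
      c.a8 + c.a1 * σ c.a1 * c.a8 ^ 2 * σ c.a8 * c.b8 + c.a1 * σ c.a1 * c.a8 ^ 3 * (σ c.a8) ^ 2) * H.h2
    · try simp only [map_add, map_mul, map_pow, map_zero, H.hs]
      linear_combination (c.a1 * c.a8 ^ 2 * σ c.a8) * H.h2
    · first | with_reducible rfl | ((try simp only [map_add, map_mul, map_pow, map_zero, H.hs]) <;> ring1)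
    · first | with_reducible rfl | ((try simp only [map_add, map_mul, map_pow, map_zero, H.hs]) <;> ring1)
    ]
  rfl

end Ok

variable {K : Type u} [Field K] {σ : K →+* K} {U : Type v} [Group U]

/-- the family of a group with coordinates -/
def fam (T : TF σ U) : Fam K U := ⟨T.x1, T.x3, T.x5, T.x7, T.x2, T.x4, T.x6, T.x8⟩

theorem fam_ok (T : TF σ U) (h2 : (2 : K) = 0) (hs : ∀ x, σ (σ x) = x ^ 2) : Ok σ (fam T) := ⟨T.rel, h2, hs⟩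

theorem fam_E (T : TF σ U) (c : Cd K) : (fam T).E c = T.el c := rfl

/-- the product in coordinates -/
theorem el_mul (T : TF σ U) (h2 : (2 : K) = 0) (hs : ∀ x, σ (σ x) = x ^ 2) (c d : Cd K) :
    T.el c * T.el d = T.el (mul σ c d) := (fam_ok T h2 hs).E_mul c d

/-- the inverse in coordinates -/
theorem el_inv (T : TF σ U) (h2 : (2 : K) = 0) (hs : ∀ x, σ (σ x) = x ^ 2) (c : Cd K) :
    (T.el c)⁻¹ = T.el (minv σ c) := (fam_ok T h2 hs).E_inv c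

theorem el_one (T : TF σ U) (h2 : (2 : K) = 0) (hs : ∀ x, σ (σ x) = x ^ 2) :
    T.el ⟨0, 0, 0, 0, 0, 0, 0, 0, 0, 0, 0, 0⟩ = 1 := (fam_ok T h2 hs).E_one

theorem el_injective (T : TF σ U) : Function.Injective T.el := T.bij.1

theorem el_surjective (T : TF σ U) : Function.Surjective T.el := T.bij.2

theorem el_inj (T : TF σ U) {c d : Cd K} : T.el c = T.el d ↔ c = d := T.bij.1.eq_iff

end Cfsg.Agent.H181.TF
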