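import Cfsg.Agent.H745.TF.Def

/-!
# S5262: the product in coordinates, definitions (helper181)

`T.el c * T.el d = T.el (mul σ c d)` and `(T.el c)⁻¹ = T.el (minv σ c)` (characteristic 2, `σ (σ x) = x²`); computed by
collection from `OctRel`, proved in `H181/TF/Mul.lean`.
-/

set_option autoImplicit false

namespace Cfsg.Agent.H181.TF

open Cfsg.Agent.H745.TF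

universe u

variable {K : Type u} [Field K]

/-- the product in coordinates -/
def mul (σ : K →+* K) (c d : Cd K) : Cd K where
  a1 := c.a1 + d.a1
  a2 := c.a2 + d.a2 + c.a8 * d.a1
  b2 := c.b2 + d.b2 + c.a2 * σ d.a2 + c.a4 * d.a1 + c.a6 * σ d.a1 + c.a2 * σ c.a8 * σ d.a1 + c.a8 * d.a1 * σ d.a2 + c.b8 *
    d.a1 * σ d.a1
  a3 := c.a3 + d.a3 + c.a4 * d.a2 + σ c.a6 * d.a1 + c.a7 * σ d.a1 + c.a8 * d.b2 + c.a4 * c.a8 * d.a1 + c.a8 * d.a2 * σ d.a2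
    + σ c.b8 * d.a1 * σ d.a1 + c.b8 * σ d.a1 * d.a2 + c.a8 * c.b8 * d.a1 * σ d.a1 + c.a8 ^ 2 * σ c.a8 * d.a1 * σ d.a1
  a4 := c.a4 + d.a4 + c.a8 * σ d.a2 + c.b8 * σ d.a1
  b4 := c.b4 + d.b4 + c.a4 * σ d.a4 + c.a5 * d.a2 + c.a6 * d.a3 + c.a7 * d.b2 + c.a8 * σ d.a3 + c.b6 * d.a1 + c.b8 * σ d.b2
    + c.a5 * c.a8 * d.a1 + c.a6 * c.a7 * σ d.a1 + c.a6 * c.a8 * d.b2 + σ c.a7 * d.a1 * d.a2 + c.a7 * d.a2 * σ d.a2 + σ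
    c.a8 * d.a2 * d.a3 + c.a8 * σ d.a2 * σ d.a4 + σ c.b8 * d.a1 * d.b2 + c.b8 * σ d.a1 * σ d.a4 + c.b8 * d.a1 * d.a3 +
    c.b8 * d.a2 * d.b2 + c.a4 * σ c.a8 * d.a2 ^ 2 + c.a4 * σ c.b8 * d.a1 ^ 2 + c.a6 * c.a8 * d.a2 * σ d.a2 + c.a6 * σ
    c.b8 * d.a1 * σ d.a1 + c.a6 * c.b8 * σ d.a1 * d.a2 + σ c.a7 * c.a8 * d.a1 ^ 2 + c.a7 * σ c.a8 * σ d.a1 * d.a2 + c.a7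
    * c.b8 * d.a1 * σ d.a1 + c.a8 * σ c.a8 * d.a1 * d.a3 + c.a8 * σ c.a8 * d.a2 * d.b2 + σ c.b8 * d.a1 * d.a2 * σ d.a2 +
    c.b8 * d.a2 ^ 2 * σ d.a2 + c.a6 * c.a8 * c.b8 * d.a1 * σ d.a1 + c.a7 * c.a8 * σ c.a8 * d.a1 * σ d.a1 + σ c.a8 * σ
    c.b8 * d.a1 * σ d.a1 * d.a2 + σ c.a8 * c.b8 * σ d.a1 * d.a2 ^ 2 + c.a8 * σ c.a8 * d.a2 ^ 2 * σ d.a2 + c.b8 * σ c.b8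
    * d.a1 ^ 2 * σ d.a1 + c.b8 ^ 2 * d.a1 * σ d.a1 * d.a2 + c.a6 * c.a8 ^ 2 * σ c.a8 * d.a1 * σ d.a1 + c.a8 * c.b8 ^ 2 *
    d.a1 ^ 2 * σ d.a1 + c.a8 * σ c.a8 * σ c.b8 * d.a1 ^ 2 * σ d.a1 + c.a8 ^ 2 * (σ c.a8) ^ 2 * d.a1 * σ d.a1 * d.a2 +
    c.a8 ^ 3 * (σ c.a8) ^ 2 * d.a1 ^ 2 * σ d.a1
  a5 := c.a5 + d.a5 + c.a6 * d.a4 + σ c.a7 * d.a1 + c.a7 * σ d.a2 + σ c.a8 * d.a3 + c.b8 * d.b2 + c.a6 * c.a8 * σ d.a2 +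
    c.a6 * c.b8 * σ d.a1 + c.a7 * σ c.a8 * σ d.a1 + σ c.a8 * d.a2 * d.a4 + c.a8 * σ c.a8 * d.b2 + σ c.b8 * d.a1 * σ d.a2
    + c.b8 * d.a1 * d.a4 + σ c.a8 * σ c.b8 * d.a1 * σ d.a1 + c.a8 * σ c.a8 * d.a1 * d.a4 + c.b8 ^ 2 * d.a1 * σ d.a1 +
    c.a8 ^ 2 * (σ c.a8) ^ 2 * d.a1 * σ d.a1
  a6 := c.a6 + d.a6 + σ c.a8 * d.a2 + c.b8 * d.a1 + c.a8 * σ c.a8 * d.a1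
  b6 := c.b6 + d.b6 + c.a6 * σ d.a6 + σ c.a7 * d.a2 + c.a7 * d.a4 + c.a8 * d.a5 + σ c.b8 * d.b2 + c.b8 * d.a3 + c.a6 * σ
    c.b8 * σ d.a1 + σ c.a7 * c.a8 * d.a1 + c.a7 * c.a8 * σ d.a2 + c.a7 * c.b8 * σ d.a1 + σ c.a8 * d.a2 * σ d.a6 + c.a8 *
    c.b8 * d.b2 + σ c.b8 * d.a1 * d.a4 + σ c.b8 * d.a2 * σ d.a2 + c.b8 * d.a1 * σ d.a6 + c.b8 * d.a2 * d.a4 + c.a6 *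
    c.a8 ^ 2 * σ d.a2 + σ c.a8 * σ c.b8 * σ d.a1 * d.a2 + c.a8 * σ c.b8 * d.a1 * σ d.a2 + c.a8 * c.b8 * d.a1 * d.a4 +
    c.a8 * σ c.a8 * d.a1 * σ d.a6 + c.a8 ^ 2 * σ c.a8 * d.b2 + c.b8 ^ 2 * σ d.a1 * d.a2 + c.a6 * c.a8 ^ 2 * σ c.a8 * σ
    d.a1 + c.a8 * c.b8 ^ 2 * d.a1 * σ d.a1 + c.a8 * σ c.a8 * σ c.b8 * d.a1 * σ d.a1 + c.a8 ^ 2 * σ c.a8 * d.a1 * d.a4 +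
    c.a8 ^ 2 * (σ c.a8) ^ 2 * σ d.a1 * d.a2 + c.a8 ^ 3 * (σ c.a8) ^ 2 * d.a1 * σ d.a1
  a7 := c.a7 + d.a7 + c.a8 * d.a6 + σ c.b8 * d.a1 + c.b8 * d.a2 + c.a8 * c.b8 * d.a1 + c.a8 ^ 2 * σ c.a8 * d.a1
  a8 := c.a8 + d.a8
  b8 := c.b8 + d.b8 + c.a8 * σ d.a8

/-- the inverse in coordinates -/
def minv (σ : K →+* K) (c : Cd K) : Cd K where
  a1 := c.a1
  a2 := c.a2 + c.a1 * c.a8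
  b2 := c.b2 + σ c.a1 * c.a6 + c.a1 * c.a4 + c.a2 * σ c.a2 + c.a1 * σ c.a2 * c.a8 + c.a1 * σ c.a1 * c.b8 + c.a1 * σ c.a1 *
    c.a8 * σ c.a8
  a3 := c.a3 + σ c.a1 * c.a7 + c.a1 * σ c.a6 + c.a2 * c.a4 + c.a8 * c.b2 + σ c.a1 * c.a2 * c.b8 + σ c.a1 * c.a6 * c.a8 +
    c.a1 * c.a4 * c.a8 + c.a1 * σ c.a1 * σ c.b8 + σ c.a1 * c.a2 * c.a8 * σ c.a8 + c.a1 * σ c.a1 * c.a8 * c.b8 + c.a1 * σ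
    c.a1 * c.a8 ^ 2 * σ c.a8
  a4 := c.a4 + σ c.a1 * c.b8 + σ c.a2 * c.a8 + σ c.a1 * c.a8 * σ c.a8
  b4 := c.b4 + c.a1 * c.b6 + c.a2 * c.a5 + σ c.a3 * c.a8 + c.a3 * c.a6 + c.a4 * σ c.a4 + c.a7 * c.b2 + σ c.b2 * c.b8 + σ
    c.a1 * c.a6 * c.a7 + c.a1 * c.a2 * σ c.a7 + c.a1 * c.a3 * c.b8 + c.a1 * c.a4 * c.a7 + c.a1 * c.a6 * σ c.a6 + c.a1 *
    c.b2 * σ c.b8 + c.a2 * c.a3 * σ c.a8 + c.a2 * c.a4 * c.a6 + c.a2 * c.b2 * c.b8 + c.a8 * σ c.a8 * σ c.b2 + σ c.a1 *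
    c.a2 * c.a6 * c.b8 + σ c.a1 * c.a2 * c.a7 * σ c.a8 + σ c.a1 * c.a6 ^ 2 * c.a8 + c.a1 * c.a2 * σ c.a6 * σ c.a8 + c.a1
    * σ c.a1 * c.a6 * σ c.b8 + c.a1 * σ c.a1 * c.a7 * c.b8 + c.a1 ^ 2 * c.a4 * σ c.b8 + c.a1 ^ 2 * σ c.a7 * c.a8 + c.a2
    ^ 2 * c.a4 * σ c.a8 + c.a2 ^ 2 * σ c.a2 * c.b8 + σ c.a1 * c.a2 ^ 2 * σ c.a8 * c.b8 + c.a1 * c.a8 ^ 2 * σ c.a8 * c.b2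
    + c.a1 * σ c.a1 * c.a2 * σ c.a8 * σ c.b8 + c.a1 * σ c.a1 * c.a2 * c.b8 ^ 2 + c.a1 ^ 2 * σ c.a6 * c.a8 * σ c.a8 +
    c.a1 ^ 2 * σ c.a1 * c.b8 * σ c.b8 + c.a2 ^ 2 * σ c.a2 * c.a8 * σ c.a8 + σ c.a1 * c.a2 ^ 2 * c.a8 * (σ c.a8) ^ 2 +
    c.a1 * σ c.a1 * c.a6 * c.a8 ^ 2 * σ c.a8 + c.a1 ^ 2 * c.a4 * c.a8 ^ 2 * σ c.a8 + c.a1 ^ 2 * σ c.a1 * c.a8 * c.b8 ^ 2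
    + c.a1 * σ c.a1 * c.a2 * c.a8 ^ 2 * (σ c.a8) ^ 2 + c.a1 ^ 2 * σ c.a1 * c.a8 ^ 2 * σ c.a8 * c.b8
  a5 := c.a5 + c.a1 * σ c.a7 + σ c.a2 * c.a7 + c.a3 * σ c.a8 + c.a4 * c.a6 + c.b2 * c.b8 + σ c.a1 * c.a6 * c.b8 + σ c.a1 *
    c.a7 * σ c.a8 + c.a1 * σ c.a2 * σ c.b8 + c.a1 * σ c.a6 * σ c.a8 + c.a2 * σ c.a2 * c.b8 + c.a1 * σ c.a1 * σ c.a8 * σ
    c.b8 + c.a1 * σ c.a1 * c.b8 ^ 2 + c.a1 * σ c.a2 * c.a8 ^ 2 * σ c.a8 + c.a1 * σ c.a1 * c.a8 ^ 2 * (σ c.a8) ^ 2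
  a6 := c.a6 + c.a1 * c.b8 + c.a2 * σ c.a8
  b6 := c.b6 + c.a2 * σ c.a7 + c.a3 * c.b8 + c.a4 * c.a7 + c.a5 * c.a8 + c.a6 * σ c.a6 + c.b2 * σ c.b8 + σ c.a1 * c.a6 * σ
    c.b8 + σ c.a1 * c.a7 * c.b8 + c.a1 * σ c.a7 * c.a8 + σ c.a2 * c.a7 * c.a8 + c.a2 * σ c.a6 * σ c.a8 + c.a3 * c.a8 * σ
    c.a8 + c.a4 * c.a6 * c.a8 + c.a8 * c.b2 * c.b8 + σ c.a1 * c.a2 * σ c.a8 * σ c.b8 + σ c.a1 * c.a2 * c.b8 ^ 2 + σ c.a1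
    * c.a6 * c.a8 * c.b8 + σ c.a1 * c.a7 * c.a8 * σ c.a8 + c.a1 * σ c.a2 * c.a8 * σ c.b8 + c.a1 * σ c.a6 * c.a8 * σ c.a8
    + c.a2 * σ c.a2 * c.a8 * c.b8 + c.a8 ^ 2 * σ c.a8 * c.b2 + σ c.a1 * c.a6 * c.a8 ^ 2 * σ c.a8 + c.a1 * σ c.a1 * c.a8
    * c.b8 ^ 2 + c.a1 * σ c.a1 * c.a8 * σ c.a8 * σ c.b8 + σ c.a1 * c.a2 * c.a8 ^ 2 * (σ c.a8) ^ 2 + c.a1 * σ c.a2 * c.a8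
    ^ 3 * σ c.a8 + c.a1 * σ c.a1 * c.a8 ^ 3 * (σ c.a8) ^ 2
  a7 := c.a7 + c.a1 * σ c.b8 + c.a2 * c.b8 + c.a6 * c.a8 + c.a1 * c.a8 * c.b8 + c.a2 * c.a8 * σ c.a8 + c.a1 * c.a8 ^ 2 * σ
    c.a8
  a8 := c.a8
  b8 := c.b8 + c.a8 * σ c.a8

end Cfsg.Agent.H181.TF
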