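import Cfsg.Agent.H181.TF.TIFin

/-!
# S5262, `q = 2` (helper181): the stabilizer of `Z4` in `Aut(QB)` and of `V` in `Aut(QA)` are 2-groups

`k01` : every element of `K` is `0` or `1`;
`stab2_B`, `stab2_A` : a subgroup of `Aut(QB)` preserving `Z4` (of `Aut(QA)` preserving `V`) is a 2-group;
`stab2_A_Y` : the same for a subgroup of `Aut(QA)` preserving `Y`;
`pow_B`, `pow_A`, `pow_A_Y` : the same for one automorphism.
-/

set_option autoImplicit false
set_option linter.unusedSimpArgs false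

namespace Cfsg.Agent.H181.TF

open Cfsg Cfsg.FusionSystem Cfsg.Agent.H756.PU Cfsg.Agent.H745.TF

universe u v w

variable {K : Type u} [Field K] {σ : K →+* K} {U : Type v} [Group U]

/-- `q = 2`: every element of the field is `0` or `1` -/
theorem k01 (hK : HypK σ 0) (x : K) : x = 0 ∨ x = 1 := by
  have := hK.fin
  have hc : Nat.card K = 2 := by rw [hK.card]; norm_num
  have := Fintype.ofFinite K
  have h1 : x ^ Fintype.card K = x := FiniteField.pow_card x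
  rw [← Nat.card_eq_fintype_card, hc] at h1
  rcases eq_or_ne x 0 with h | h
  · exact Or.inl h
  · exact Or.inr (mul_left_cancel₀ h (by rw [← pow_two, h1, mul_one]))

/-- a factor with one coordinate has order `2`, so it is centralized -/
theorem two_step (hK : HypK σ 0) (T : TF σ U) {α β : Type u} {pM : Cd K → α} {pN : Cd K → β} (hM : Cong σ pM)
    (hN : Cong σ pN) (f : Cd K → K) (hf : ∀ c d, pN c = pN d ↔ pM c = pM d ∧ f c = f d) {Q : Subgroup U}
    {γ : MulAut Q} (h1 : Pres γ (CS hK T hM)) (h2 : Pres γ (CS hK T hN)) (x : Q) (hx : (x : U) ∈ CS hK T hM) :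
    ((x⁻¹ * γ x : Q) : U) ∈ CS hK T hN := by
  have hy := (h1 x).1 hx
  change (x : U)⁻¹ * ((γ x : Q) : U) ∈ _
  by_cases hxN : (x : U) ∈ CS hK T hN
  · exact mul_mem (inv_mem hxN) ((h2 x).1 hxN)
  · have hyN : ((γ x : Q) : U) ∉ CS hK T hN := fun h => hxN ((h2 x).2 h)
    rw [crit', hf]
    rw [mem_CS] at hx hy hxN hyN
    refine ⟨hx.trans hy.symm, ?_⟩
    rw [hf] at hxN hyN
    have a1 : f (cd T x) ≠ f zc := fun h => hxN ⟨hx, h⟩
    have a2 : f (cd T (γ x : Q)) ≠ f zc := fun h => hyN ⟨hy, h⟩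
    rcases k01 hK (f (cd T x)) with h | h <;> rcases k01 hK (f (cd T (γ x : Q))) with h' | h' <;>
      rcases k01 hK (f zc) with h'' | h'' <;> simp_all

/-- the chain of `QB` with factors of order `2` -/
def M2B (hK : HypK σ 0) (T : TF σ U) : ℕ → Subgroup U
  | 0 => CS hK T (cB σ)
  | 1 => CS hK T (cW σ)
  | 2 => CS hK T (cN σ)
  | 3 => CS hK T (cF σ)
  | 4 => CS hK T (cF1 σ)
  | 5 => CS hK T (cF0 σ)
  | 6 => CS hK T (cA σ)
  | 7 => CS hK T (cE4 σ)
  | 8 => CS hK T (cY σ)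
  | 9 => CS hK T (cV σ)
  | 10 => CS hK T (cZ σ)
  | _ => CS hK T (cong_id (σ := σ))

theorem presB2 (hK : HypK σ 0) (T : TF σ U) {γ : MulAut (CS hK T (cB σ))} (hZ : Pres γ (CS hK T (cZ σ))) (i : ℕ) :
    Pres γ (M2B hK T i) := by
  have h := presB hK T hZ
  have hF1 : Pres γ (CS hK T (cF1 σ)) := pres_tr hK T (hA := cN σ) (qb_F1 σ) (l_A_B hK T) (h 2) (h 5) hZ
  match i with
  | 0 => exact h 0
  | 1 => exact h 1
  | 2 => exact h 2
  | 3 => exact h 3
  | 4 => exact hF1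
  | 5 => exact h 4
  | 6 => exact h 5
  | 7 => exact h 6
  | 8 => exact h 7
  | 9 => exact h 8
  | 10 => exact h 9
  | _ + 11 => exact h 10

theorem stepB2 (hK : HypK σ 0) (T : TF σ U) {γ : MulAut (CS hK T (cB σ))} (hZ : Pres γ (CS hK T (cZ σ))) (i : ℕ)
    (x : CS hK T (cB σ)) (hx : (x : U) ∈ M2B hK T i) : ((x⁻¹ * γ x : CS hK T (cB σ)) : U) ∈ M2B hK T (i + 1) := by
  have h := presB2 hK T hZ
  match i, hx with
  | 0, hx => exact two_step hK T (cB σ) (cW σ) (fun c => c.a8) (fun c d => by rw [pW_iff, pB_iff]) (h 0) (h 1) x hx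
  | 1, hx => exact two_step hK T (cW σ) (cN σ) (fun c => c.a2) (fun c d => by rw [pN_iff, pW_iff]; tauto) (h 1) (h 2) x hx
  | 2, hx => exact two_step hK T (cN σ) (cF σ) (fun c => c.b8) (fun c d => by rw [pF_iff, pN_iff]; tauto) (h 2) (h 3) x hx
  | 3, hx => exact two_step hK T (cF σ) (cF1 σ) (fun c => c.a4) (fun c d => by rw [pF1_iff, pF_iff]; tauto) (h 3) (h 4) x hx
  | 4, hx => exact two_step hK T (cF1 σ) (cF0 σ) (fun c => c.a6) (fun c d => by rw [pF0_iff, pF1_iff]; tauto) (h 4) (h 5) x hx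
  | 5, hx => exact two_step hK T (cF0 σ) (cA σ) (fun c => c.b2) (fun c d => by rw [pA_iff, pF0_iff]; tauto) (h 5) (h 6) x hx
  | 6, hx => exact two_step hK T (cA σ) (cE4 σ) (fun c => c.a7) (fun c d => by rw [pE4_iff, pA_iff]; tauto) (h 6) (h 7) x hx
  | 7, hx => exact two_step hK T (cE4 σ) (cY σ) (fun c => c.a3) (fun c d => by rw [pY_iff, pE4_iff]; tauto) (h 7) (h 8) x hx
  | 8, hx => exact two_step hK T (cY σ) (cV σ) (fun c => c.a5) (fun c d => by rw [pV_iff, pY_iff]; tauto) (h 8) (h 9) x hx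
  | 9, hx => exact two_step hK T (cV σ) (cZ σ) (fun c => c.b6) (fun c d => by rw [pZ_iff, pV_iff]; tauto) (h 9) (h 10) x hx
  | 10, hx => exact two_step hK T (cZ σ) (cong_id (σ := σ)) (fun c => c.b4) (fun c d => by rw [pZ_iff, p1_iff]; tauto) (h 10) (h 11) x hx
  | n + 11, hx =>
    change (x : U) ∈ CS hK T (cong_id (σ := σ)) at hx
    rw [CS_id, Subgroup.mem_bot] at hx
    have hx1 : x = 1 := Subtype.ext hx
    subst hx1
    simp only [map_one, mul_one, inv_one]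
    exact one_mem _

/-- the chain of `QA` with factors of order `2` -/
theorem stepA2 (hK : HypK σ 0) (T : TF σ U) {γ : MulAut (CS hK T (cQ σ))} (hV : Pres γ (CS hK T (cV σ))) (i : ℕ)
    (x : CS hK T (cQ σ)) (hx : (x : U) ∈ MA hK T i) : ((x⁻¹ * γ x : CS hK T (cQ σ)) : U) ∈ MA hK T (i + 1) := by
  have h := presA hK T hV
  match i, hx with
  | 0, hx => exact two_step hK T (cQ σ) (c2 σ) (fun c => c.a1) (fun c d => by rw [p2_iff, pQ_iff]; tauto) (h 0) (h 1) x hx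
  | 1, hx => exact two_step hK T (c2 σ) (cF σ) (fun c => c.a2) (fun c d => by rw [pF_iff, p2_iff]; tauto) (h 1) (h 2) x hx
  | 2, hx => exact two_step hK T (cF σ) (c7 σ) (fun c => c.a6) (fun c d => by rw [p7_iff, pF_iff]; tauto) (h 2) (h 3) x hx
  | 3, hx => exact two_step hK T (c7 σ) (cD σ) (fun c => c.a7) (fun c d => by rw [pD_iff, p7_iff]; tauto) (h 3) (h 4) x hx
  | 4, hx => exact two_step hK T (cD σ) (cE σ) (fun c => c.a4) (fun c d => by rw [pE_iff, pD_iff]; tauto) (h 4) (h 5) x hx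
  | 5, hx => exact two_step hK T (cE σ) (cE4 σ) (fun c => c.b2) (fun c d => by rw [pE4_iff, pE_iff]; tauto) (h 5) (h 6) x hx
  | 6, hx => exact two_step hK T (cE4 σ) (cY σ) (fun c => c.a3) (fun c d => by rw [pY_iff, pE4_iff]; tauto) (h 6) (h 7) x hx
  | 7, hx => exact two_step hK T (cY σ) (cV σ) (fun c => c.a5) (fun c d => by rw [pV_iff, pY_iff]; tauto) (h 7) (h 8) x hx
  | 8, hx => exact two_step hK T (cV σ) (cZ σ) (fun c => c.b6) (fun c d => by rw [pZ_iff, pV_iff]; tauto) (h 8) (h 9) x hx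
  | 9, hx => exact two_step hK T (cZ σ) (cong_id (σ := σ)) (fun c => c.b4) (fun c d => by rw [pZ_iff, p1_iff]; tauto) (h 9) (h 10) x hx
  | n + 10, hx =>
    change (x : U) ∈ CS hK T (cong_id (σ := σ)) at hx
    rw [CS_id, Subgroup.mem_bot] at hx
    have hx1 : x = 1 := Subtype.ext hx
    subst hx1
    simp only [map_one, mul_one, inv_one]
    exact one_mem _

theorem pg_B (hK : HypK σ 0) (T : TF σ U) (H : Subgroup (MulAut (CS hK T (cB σ))))
    (hH : ∀ γ ∈ H, Pres γ (CS hK T (cZ σ))) : IsPGroup 2 H := by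
  have hle : H ≤ ChS (fun i => (M2B hK T i).subgroupOf (CS hK T (cB σ))) := fun γ hγ => by
    rw [mem_ChS]
    exact ⟨fun i x => presB2 hK T (hH γ hγ) i x, fun i x hx => stepB2 hK T (hH γ hγ) i x hx⟩
  refine IsPGroup.to_le (isPGroup_ChS (k := 11) (e := (2 * 0 + 1) * 12) ?_ ?_ ?_) hle
  · change (CS hK T (cB σ)).subgroupOf (CS hK T (cB σ)) = ⊤
    rw [Subgroup.subgroupOf_self]
  · change (CS hK T (cong_id (σ := σ))).subgroupOf (CS hK T (cB σ)) = ⊥
    rw [CS_id, Subgroup.bot_subgroupOf]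
  · intro x
    ext
    rw [Subgroup.coe_pow, exp_U hK T]; rfl

theorem pg_A (hK : HypK σ 0) (T : TF σ U) (H : Subgroup (MulAut (CS hK T (cQ σ))))
    (hH : ∀ γ ∈ H, Pres γ (CS hK T (cV σ))) : IsPGroup 2 H := by
  have hle : H ≤ ChS (fun i => (MA hK T i).subgroupOf (CS hK T (cQ σ))) := fun γ hγ => by
    rw [mem_ChS]
    exact ⟨fun i x => presA hK T (hH γ hγ) i x, fun i x hx => stepA2 hK T (hH γ hγ) i x hx⟩
  refine IsPGroup.to_le (isPGroup_ChS (k := 10) (e := (2 * 0 + 1) * 12) ?_ ?_ ?_) hle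
  · change (CS hK T (cQ σ)).subgroupOf (CS hK T (cQ σ)) = ⊤
    rw [Subgroup.subgroupOf_self]
  · change (CS hK T (cong_id (σ := σ))).subgroupOf (CS hK T (cQ σ)) = ⊥
    rw [CS_id, Subgroup.bot_subgroupOf]
  · intro x
    ext
    rw [Subgroup.coe_pow, exp_U hK T]; rfl

/-! ### statements -/

/-- `q = 2`: a subgroup of `Aut(QB)` preserving `Z4` is a 2-group -/
theorem stab2_B (hK : HypK σ 0) (T : TF σ U) (H : Subgroup (MulAut T.QB))
    (hH : ∀ γ ∈ H, ∀ x : T.QB, (x : U) ∈ T.Z4 → ((γ x : T.QB) : U) ∈ T.Z4) : IsPGroup 2 H := by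
  have := Cfsg.Agent.H752.TF.finite_U hK T
  have hP : ∀ γ ∈ H, Pres γ T.Z4 := fun γ hγ => pres_of_le (hH γ hγ)
  have key : ∀ Q : Subgroup U, Q = CS hK T (cB σ) → ∀ Z : Subgroup U, Z = CS hK T (cZ σ) →
      ∀ H : Subgroup (MulAut Q), (∀ γ ∈ H, Pres γ Z) → IsPGroup 2 H := by
    rintro _ rfl _ rfl H h
    exact pg_B hK T H h
  exact key _ (QB_eq hK T) _ (Z4_eq hK T) H hP

/-- `q = 2`: a subgroup of `Aut(QA)` preserving `V` is a 2-group -/
theorem stab2_A (hK : HypK σ 0) (T : TF σ U) (H : Subgroup (MulAut T.QA))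
    (hH : ∀ γ ∈ H, ∀ x : T.QA, (x : U) ∈ T.V → ((γ x : T.QA) : U) ∈ T.V) : IsPGroup 2 H := by
  have := Cfsg.Agent.H752.TF.finite_U hK T
  have hP : ∀ γ ∈ H, Pres γ T.V := fun γ hγ => pres_of_le (hH γ hγ)
  have key : ∀ Q : Subgroup U, Q = CS hK T (cQ σ) → ∀ Z : Subgroup U, Z = CS hK T (cV σ) →
      ∀ H : Subgroup (MulAut Q), (∀ γ ∈ H, Pres γ Z) → IsPGroup 2 H := by
    rintro _ rfl _ rfl H h
    exact pg_A hK T H h
  exact key _ (QA_eq hK T) _ (V_eq hK T) H hP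

/-- `q = 2`: a subgroup of `Aut(QA)` preserving `Y` is a 2-group -/
theorem stab2_A_Y (hK : HypK σ 0) (T : TF σ U) (H : Subgroup (MulAut T.QA))
    (hH : ∀ γ ∈ H, ∀ x : T.QA, (x : U) ∈ T.Y → ((γ x : T.QA) : U) ∈ T.Y) : IsPGroup 2 H := by
  have := Cfsg.Agent.H752.TF.finite_U hK T
  have hP : ∀ γ ∈ H, Pres γ T.Y := fun γ hγ => pres_of_le (hH γ hγ)
  have key : ∀ Q : Subgroup U, Q = CS hK T (cQ σ) → ∀ Z : Subgroup U, Z = CS hK T (cY σ) →
      ∀ H : Subgroup (MulAut Q), (∀ γ ∈ H, Pres γ Z) → IsPGroup 2 H := by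
    rintro _ rfl _ rfl H h
    exact pg_A hK T H fun γ hγ => presV_of_Y hK T (h γ hγ)
  exact key _ (QA_eq hK T) _ (Y_eq hK T) H hP

/-- one automorphism of `QB` preserving `Z4` has 2-power order -/
theorem pow_B (hK : HypK σ 0) (T : TF σ U) (γ : MulAut T.QB)
    (hγ : ∀ x : T.QB, (x : U) ∈ T.Z4 → ((γ x : T.QB) : U) ∈ T.Z4) : ∃ k, γ ^ 2 ^ k = 1 := by
  have := Cfsg.Agent.H752.TF.finite_U hK T
  have hP : Pres γ T.Z4 := pres_of_le hγ
  have hz : ∀ δ ∈ Subgroup.zpowers γ, ∀ x : T.QB, (x : U) ∈ T.Z4 ↔ ((δ x : T.QB) : U) ∈ T.Z4 := by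
    intro δ hδ
    rw [Subgroup.zpowers_eq_closure] at hδ
    induction hδ using Subgroup.closure_induction with
    | mem x hx => rw [Set.mem_singleton_iff] at hx; subst hx; exact hP
    | one => exact fun x => Iff.rfl
    | mul a b _ _ ha hb => exact fun x => (hb x).trans (ha _)
    | inv a _ ha =>
      intro x
      have h1 : a (a⁻¹ x) = x := MulAut.apply_inv_self _ a x
      rw [ha (a⁻¹ x), h1]
  obtain ⟨k, hk⟩ := stab2_B hK T (Subgroup.zpowers γ) (fun δ hδ x hx => (hz δ hδ x).1 hx) ⟨γ, Subgroup.mem_zpowers γ⟩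
  exact ⟨k, congrArg Subtype.val hk⟩

/-- one automorphism of `QA` preserving `V` has 2-power order -/
theorem pow_A (hK : HypK σ 0) (T : TF σ U) (γ : MulAut T.QA)
    (hγ : ∀ x : T.QA, (x : U) ∈ T.V → ((γ x : T.QA) : U) ∈ T.V) : ∃ k, γ ^ 2 ^ k = 1 := by
  have := Cfsg.Agent.H752.TF.finite_U hK T
  have hP : Pres γ T.V := pres_of_le hγ
  have hz : ∀ δ ∈ Subgroup.zpowers γ, ∀ x : T.QA, (x : U) ∈ T.V ↔ ((δ x : T.QA) : U) ∈ T.V := by
    intro δ hδ
    rw [Subgroup.zpowers_eq_closure] at hδ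
    induction hδ using Subgroup.closure_induction with
    | mem x hx => rw [Set.mem_singleton_iff] at hx; subst hx; exact hP
    | one => exact fun x => Iff.rfl
    | mul a b _ _ ha hb => exact fun x => (hb x).trans (ha _)
    | inv a _ ha =>
      intro x
      have h1 : a (a⁻¹ x) = x := MulAut.apply_inv_self _ a x
      rw [ha (a⁻¹ x), h1]
  obtain ⟨k, hk⟩ := stab2_A hK T (Subgroup.zpowers γ) (fun δ hδ x hx => (hz δ hδ x).1 hx) ⟨γ, Subgroup.mem_zpowers γ⟩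
  exact ⟨k, congrArg Subtype.val hk⟩

/-- the stabilizer of `Z4` in `Aut(QB)`, as a subgroup; a 2-group for `q = 2` -/
def stZ (T : TF σ U) : Subgroup (MulAut T.QB) where
  carrier := {γ | ∀ x : T.QB, (x : U) ∈ T.Z4 ↔ ((γ x : T.QB) : U) ∈ T.Z4}
  one_mem' := fun _ => Iff.rfl
  mul_mem' := fun {a b} ha hb x => (hb x).trans (ha (b x))
  inv_mem' := fun {a} ha x => by
    have h1 : a (a⁻¹ x) = x := MulAut.apply_inv_self _ a x
    rw [ha (a⁻¹ x), h1]

/-- the stabilizer of `V` in `Aut(QA)`, as a subgroup; a 2-group for `q = 2` -/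
def stV (T : TF σ U) : Subgroup (MulAut T.QA) where
  carrier := {γ | ∀ x : T.QA, (x : U) ∈ T.V ↔ ((γ x : T.QA) : U) ∈ T.V}
  one_mem' := fun _ => Iff.rfl
  mul_mem' := fun {a b} ha hb x => (hb x).trans (ha (b x))
  inv_mem' := fun {a} ha x => by
    have h1 : a (a⁻¹ x) = x := MulAut.apply_inv_self _ a x
    rw [ha (a⁻¹ x), h1]

theorem isPGroup_stZ (hK : HypK σ 0) (T : TF σ U) : IsPGroup 2 (stZ T) :=
  stab2_B hK T _ fun _ h x => (h x).1

theorem isPGroup_stV (hK : HypK σ 0) (T : TF σ U) : IsPGroup 2 (stV T) :=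
  stab2_A hK T _ fun _ h x => (h x).1

end Cfsg.Agent.H181.TF
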