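import Cfsg.Agent.H181.TF.Stab2
import Cfsg.Agent.H181.TF.Facts3
import Cfsg.Agent.H483.TF.A2Def
import Cfsg.Agent.H240.TF.B2Def

/-!
# S5262, `q = 2` (helper181): `StStab2A`, `StStab2B`
-/

set_option autoImplicit false
set_option linter.unusedSimpArgs false

namespace Cfsg.Agent.H181.TF

open Cfsg Cfsg.FusionSystem Cfsg.Agent.H756.PU Cfsg.Agent.H745.TF

universe u v w

section
variable {K : Type u} [Field K] {σ : K →+* K} {U : Type v} [Group U] {m : ℕ}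

theorem l_7_Q' (hK : HypK σ m) (T : TF σ U) : CS hK T (cE4 σ) ≤ CS hK T (cQ σ) :=
  (l_E4_E hK T).trans (l_E_Q hK T)

/-- `γ(X7 D) = X7 D` implies `γ(V) = V` -/
theorem presV_of_7 (hK : HypK σ m) (T : TF σ U) {γ : MulAut (CS hK T (cQ σ))} (hX7 : Pres γ (CS hK T (c7 σ))) :
    Pres γ (CS hK T (cV σ)) := by
  have h1 := pres_one hK T γ
  have hQ := pres_self γ
  have hZ : Pres γ (CS hK T (cZ σ)) := pres_tr hK T (qa_Z σ) le_rfl hQ hQ h1
  have hE : Pres γ (CS hK T (cE σ)) := pres_tr hK T (qa_E σ) le_rfl hQ hQ hZ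
  have hD : Pres γ (CS hK T (cD σ)) := pres_tr hK T (qa_D σ) (l_E_Q hK T) hQ hE h1
  have hE4 : Pres γ (CS hK T (cE4 σ)) := pres_tr hK T (qa_E4 σ) (l_7_Q hK T) hE hX7 h1
  have hX2 : Pres γ (CS hK T (c2 σ)) := pres_tr hK T (qa_2s σ) (l_D_Q hK T) hQ hD hE4
  exact pres_tr hK T (qa_Vs σ) (l_2_Q hK T) hE4 hX2 h1

/-- `γ(D) = D` for every automorphism of `QA` -/
theorem presD (hK : HypK σ m) (T : TF σ U) (γ : MulAut (CS hK T (cQ σ))) : Pres γ (CS hK T (cD σ)) := by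
  have h1 := pres_one hK T γ
  have hQ := pres_self γ
  have hZ : Pres γ (CS hK T (cZ σ)) := pres_tr hK T (qa_Z σ) le_rfl hQ hQ h1
  have hE : Pres γ (CS hK T (cE σ)) := pres_tr hK T (qa_E σ) le_rfl hQ hQ hZ
  exact pres_tr hK T (qa_D σ) (l_E_Q hK T) hQ hE h1

end

section
variable {K : Type u} [Field K] {σ : K →+* K} {U : Type v} [Group U]

theorem x7_eq (T : TF σ U) (a : K) : T.el ⟨0, 0, 0, 0, 0, 0, 0, 0, 0, a, 0, 0⟩ = T.x7 a := by
  simp only [TF.el, H659.TF.x1_zero T.rel, H659.TF.x2_zero T.rel, H659.TF.x3_zero T.rel, H659.TF.x4_zero T.rel,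
    H659.TF.x5_zero T.rel, H659.TF.x6_zero T.rel, H659.TF.x8_zero T.rel, one_mul, mul_one]

theorem x4_eq (T : TF σ U) (a b : K) : T.el ⟨0, 0, 0, 0, a, b, 0, 0, 0, 0, 0, 0⟩ = T.x4 a b := by
  simp only [TF.el, H659.TF.x1_zero T.rel, H659.TF.x2_zero T.rel, H659.TF.x3_zero T.rel, H659.TF.x5_zero T.rel,
    H659.TF.x6_zero T.rel, H659.TF.x7_zero T.rel, H659.TF.x8_zero T.rel, one_mul, mul_one]

/-- the stabilizer of `Z4` in `Aut(QB)`: helper240's form -/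
theorem stStab2B : Cfsg.Agent.H240.TF.StStab2B.{u, v} := by
  intro K _ σ hK U _ T γ hγ
  refine pow_B hK T γ fun x hx => ?_
  rw [Z4_eq hK, mem_CS, pZ_iff] at hx
  simp only [zc] at hx
  obtain ⟨h1, h2, h3, h4, h5, h6, h7, h8, h9, h10, h11⟩ := hx
  rcases k01 hK (cd T (x : U)).b4 with h | h
  · have hx1 : (x : U) = 1 := by
      rw [← cd_inj T, cd_one hK T]
      exact p1_iff.2 ⟨h1, h2, h3, h4, h5, h, h6, h7, h8, h9, h10, h11⟩
    have hx2 : x = 1 := Subtype.ext hx1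
    rw [hx2, map_one]
    exact one_mem _
  · have hx1 : (x : U) = T.x4 0 1 := by
      rw [← x4_eq T, ← cd_inj T, cd_el]
      exact p1_iff.2 ⟨h1, h2, h3, h4, h5, h, h6, h7, h8, h9, h10, h11⟩
    rw [hγ x hx1, Z4_eq hK, mem_CS, pZ_iff]
    exact ⟨h1, h2, h3, h4, h5, h6, h7, h8, h9, h10, h11⟩

theorem pow_A_CS (hK : HypK σ 0) (T : TF σ U) (γ : MulAut (CS hK T (cQ σ)))
    (hγ : Pres γ (CS hK T (cV σ))) : ∃ k, γ ^ 2 ^ k = 1 := by
  obtain ⟨k, hk⟩ := pg_A hK T (Subgroup.zpowers γ) (fun δ hδ => by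
    rw [Subgroup.zpowers_eq_closure] at hδ
    induction hδ using Subgroup.closure_induction with
    | mem x hx => rw [Set.mem_singleton_iff] at hx; subst hx; exact hγ
    | one => exact fun x => Iff.rfl
    | mul a b _ _ ha hb => exact fun x => (hb x).trans (ha _)
    | inv a _ ha =>
      intro x
      have h1 : a (a⁻¹ x) = x := MulAut.apply_inv_self _ a x
      rw [ha (a⁻¹ x), h1]) ⟨γ, Subgroup.mem_zpowers γ⟩
  exact ⟨k, congrArg Subtype.val hk⟩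

/-- the stabilizer of `x7 D` in `Aut(QA)`: helper483's form -/
theorem stStab2A : Cfsg.Agent.H483.TF.StStab2A.{u, v} := by
  intro K _ σ hK U _ T γ hγ
  have := Cfsg.Agent.H752.TF.finite_U hK T
  have key : ∀ Q : Subgroup U, Q = CS hK T (cQ σ) → ∀ D : Subgroup U, D = CS hK T (cD σ) →
      ∀ γ : MulAut Q, (∀ e : Q, (e : U) = T.x7 1 → (T.x7 1)⁻¹ * ((γ e : Q) : U) ∈ D) → ∃ k, γ ^ 2 ^ k = 1 := by
    rintro _ rfl _ rfl γ hγ
    refine pow_A_CS hK T γ (presV_of_7 hK T ?_)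
    have hD := presD hK T γ
    have h7m : T.x7 1 ∈ CS hK T (c7 σ) := by rw [← x7_eq, el_mem_CS]; rfl
    refine pres_of_le fun x hx => ?_
    rcases k01 hK (cd T (x : U)).a7 with h | h
    · have hxD : (x : U) ∈ CS hK T (cD σ) := by
        rw [mem_CS, p7_iff] at hx
        rw [mem_CS, pD_iff]
        exact ⟨hx.1, hx.2.1, hx.2.2.1, h, hx.2.2.2.1, hx.2.2.2.2⟩
      exact l_D_7 hK T ((hD x).1 hxD)
    · let e : CS hK T (cQ σ) := ⟨T.x7 1, l_7_Q hK T h7m⟩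
      have hd : ((e⁻¹ * x : CS hK T (cQ σ)) : U) ∈ CS hK T (cD σ) := by
        change (T.x7 1)⁻¹ * (x : U) ∈ _
        rw [crit', ← x7_eq, cd_el, pD_iff]
        rw [mem_CS, p7_iff] at hx
        exact ⟨hx.1.symm, hx.2.1.symm, hx.2.2.1.symm, h.symm, hx.2.2.2.1.symm, hx.2.2.2.2.symm⟩
      have h1 := (hD _).1 hd
      have h2 := hγ e rfl
      have h3 : ((γ x : CS hK T (cQ σ)) : U) = T.x7 1 * ((T.x7 1)⁻¹ * ((γ e : CS hK T (cQ σ)) : U)) *
          ((γ (e⁻¹ * x) : CS hK T (cQ σ)) : U) := by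
        rw [mul_inv_cancel_left, ← Subgroup.coe_mul, ← map_mul, mul_inv_cancel_left]
      rw [h3]
      exact mul_mem (mul_mem h7m (l_D_7 hK T h2)) (l_D_7 hK T h1)
  exact key _ (QA_eq hK T) _ (D_eq hK T) γ hγ

end

end Cfsg.Agent.H181.TF
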