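import Cfsg.Agent.H181.TF.Cen

/-!
# S5262 [TI] (helper181)

`stTI : StTI`; `tiB'`, `tiA'` : `γ(Z) = Z` (for `QB`), `γ(V) = V` (for `QA`) imply that `γ` normalizes `Aut_U(Q)`.
-/

set_option autoImplicit false
set_option linter.unusedSimpArgs false

namespace Cfsg.Agent.H181.TF

open Cfsg Cfsg.FusionSystem Cfsg.Agent.H756.PU Cfsg.Agent.H745.TF

universe u v w

variable {K : Type u} [Field K] {σ : K →+* K} {U : Type v} [Group U] {m : ℕ}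

section
variable (hK : HypK σ m) (T : TF σ U)
include hK

include T in
theorem exp_U (x : U) : x ^ 2 ^ ((2 * m + 1) * 12) = 1 := by
  have := Cfsg.Agent.H752.TF.finite_U hK T
  rw [pow_mul 2, ← Cfsg.Agent.H752.TF.card_U hK T]
  exact pow_card_eq_one'

omit hK in
theorem pres_self {Q : Subgroup U} (γ : MulAut Q) : Pres γ Q := fun x => ⟨fun _ => (γ x).2, fun _ => x.2⟩

theorem pres_one {Q : Subgroup U} (γ : MulAut Q) : Pres γ (CS hK T (cong_id (σ := σ))) := fun x => by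
  rw [CS_id, Subgroup.mem_bot, Subgroup.mem_bot, OneMemClass.coe_eq_one, OneMemClass.coe_eq_one,
    map_eq_one_iff γ γ.injective]

theorem pres_tr {α1 α2 α3 α4 : Type*} {pM : Cd K → α1} {pA : Cd K → α2} {pB : Cd K → α3} {pN : Cd K → α4}
    {hM : Cong σ pM} {hA : Cong σ pA} {hB : Cong σ pB} {hN : Cong σ pN}
    (f : ∀ c, pM c = pM zc ↔ pA c = pA zc ∧ ∀ d, pB d = pB zc → pN (mul σ d c) = pN (mul σ c d))
    {Q : Subgroup U} {γ : MulAut Q} (hBQ : CS hK T hB ≤ Q) (h1 : Pres γ (CS hK T hA)) (h2 : Pres γ (CS hK T hB))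
    (h3 : Pres γ (CS hK T hN)) : Pres γ (CS hK T hM) :=
  pres_com hBQ h1 h2 h3 fun x _ => tr hK T hM hA hB hN f x

/-! ### the chains -/

/-- the chain in `QB` -/
def MB : ℕ → Subgroup U
  | 0 => CS hK T (cB σ)
  | 1 => CS hK T (cW σ)
  | 2 => CS hK T (cN σ)
  | 3 => CS hK T (cF σ)
  | 4 => CS hK T (cF0 σ)
  | 5 => CS hK T (cA σ)
  | 6 => CS hK T (cE4 σ)
  | 7 => CS hK T (cY σ)
  | 8 => CS hK T (cV σ)
  | 9 => CS hK T (cZ σ)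
  | _ => CS hK T (cong_id (σ := σ))

/-- the chain in `QA` -/
def MA : ℕ → Subgroup U
  | 0 => CS hK T (cQ σ)
  | 1 => CS hK T (c2 σ)
  | 2 => CS hK T (cF σ)
  | 3 => CS hK T (c7 σ)
  | 4 => CS hK T (cD σ)
  | 5 => CS hK T (cE σ)
  | 6 => CS hK T (cE4 σ)
  | 7 => CS hK T (cY σ)
  | 8 => CS hK T (cV σ)
  | 9 => CS hK T (cZ σ)
  | _ => CS hK T (cong_id (σ := σ))

theorem MB_T (i : ℕ) (g x : U) (hx : x ∈ MB hK T i) : x⁻¹ * (g * x * g⁻¹) ∈ MB hK T (i + 1) := by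
  match i, hx with
  | 0, hx => exact tr_ch hK T (cB σ) (cW σ) (ch_B_W σ) g x hx
  | 1, hx => exact tr_ch hK T (cW σ) (cN σ) (ch_W_N σ) g x hx
  | 2, hx => exact tr_ch hK T (cN σ) (cF σ) (ch_N_F σ) g x hx
  | 3, hx => exact tr_ch hK T (cF σ) (cF0 σ) (ch_F_F0 σ) g x hx
  | 4, hx => exact tr_ch hK T (cF0 σ) (cA σ) (ch_F0_A σ) g x hx
  | 5, hx => exact tr_ch hK T (cA σ) (cE4 σ) (ch_A_E4 σ) g x hx
  | 6, hx => exact tr_ch hK T (cE4 σ) (cY σ) (ch_E4_Y σ) g x hx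
  | 7, hx => exact tr_ch hK T (cY σ) (cV σ) (ch_Y_V σ) g x hx
  | 8, hx => exact tr_ch hK T (cV σ) (cZ σ) (ch_V_Z σ) g x hx
  | 9, hx => exact tr_ch hK T (cZ σ) cong_id (ch_Z_1 σ) g x hx
  | n + 10, hx =>
    change x ∈ CS hK T (cong_id (σ := σ)) at hx
    change x⁻¹ * (g * x * g⁻¹) ∈ CS hK T (cong_id (σ := σ))
    rw [CS_id, Subgroup.mem_bot] at hx
    subst hx
    simp

theorem MA_T (i : ℕ) (g x : U) (hx : x ∈ MA hK T i) : x⁻¹ * (g * x * g⁻¹) ∈ MA hK T (i + 1) := by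
  match i, hx with
  | 0, hx => exact tr_ch hK T (cQ σ) (c2 σ) (ch_Q_2 σ) g x hx
  | 1, hx => exact tr_ch hK T (c2 σ) (cF σ) (ch_2_F σ) g x hx
  | 2, hx => exact tr_ch hK T (cF σ) (c7 σ) (ch_F_7 σ) g x hx
  | 3, hx => exact tr_ch hK T (c7 σ) (cD σ) (ch_7_D σ) g x hx
  | 4, hx => exact tr_ch hK T (cD σ) (cE σ) (ch_D_E σ) g x hx
  | 5, hx => exact tr_ch hK T (cE σ) (cE4 σ) (ch_E_E4 σ) g x hx
  | 6, hx => exact tr_ch hK T (cE4 σ) (cY σ) (ch_E4_Y σ) g x hx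
  | 7, hx => exact tr_ch hK T (cY σ) (cV σ) (ch_Y_V σ) g x hx
  | 8, hx => exact tr_ch hK T (cV σ) (cZ σ) (ch_V_Z σ) g x hx
  | 9, hx => exact tr_ch hK T (cZ σ) cong_id (ch_Z_1 σ) g x hx
  | n + 10, hx =>
    change x ∈ CS hK T (cong_id (σ := σ)) at hx
    change x⁻¹ * (g * x * g⁻¹) ∈ CS hK T (cong_id (σ := σ))
    rw [CS_id, Subgroup.mem_bot] at hx
    subst hx
    simp

end

/-! ### inclusions -/

section
variable (hK : HypK σ m) (T : TF σ U)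

theorem l_Z_V : CS hK T (cZ σ) ≤ CS hK T (cV σ) := CS_le_CS fun c h => by
  rw [pZ_iff] at h; obtain ⟨h1, h2, h3, h4, h5, h6, h7, h8, h9, h10, h11⟩ := h
  exact pV_iff.2 ⟨h1, h2, h3, h4, h5, h6, h7, h9, h10, h11⟩
theorem l_V_Y : CS hK T (cV σ) ≤ CS hK T (cY σ) := CS_le_CS fun c h => by
  rw [pV_iff] at h; obtain ⟨h1, h2, h3, h4, h5, h6, h7, h8, h9, h10⟩ := h
  exact pY_iff.2 ⟨h1, h2, h3, h4, h5, h7, h8, h9, h10⟩
theorem l_Y_E4 : CS hK T (cY σ) ≤ CS hK T (cE4 σ) := CS_le_CS fun c h => by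
  rw [pY_iff] at h; obtain ⟨h1, h2, h3, h4, h5, h6, h7, h8, h9⟩ := h
  exact pE4_iff.2 ⟨h1, h2, h3, h5, h6, h7, h8, h9⟩
theorem l_E4_A : CS hK T (cE4 σ) ≤ CS hK T (cA σ) := CS_le_CS fun c h => by
  rw [pE4_iff] at h; obtain ⟨h1, h2, h3, h4, h5, h6, h7, h8⟩ := h
  exact pA_iff.2 ⟨h1, h2, h3, h4, h5, h7, h8⟩
theorem l_A_F0 : CS hK T (cA σ) ≤ CS hK T (cF0 σ) := CS_le_CS fun c h => by
  rw [pA_iff] at h; obtain ⟨h1, h2, h3, h4, h5, h6, h7⟩ := h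
  exact pF0_iff.2 ⟨h1, h2, h4, h5, h6, h7⟩
theorem l_F0_F : CS hK T (cF0 σ) ≤ CS hK T (cF σ) := CS_le_CS fun c h => by
  rw [pF0_iff] at h; obtain ⟨h1, h2, h3, h4, h5, h6⟩ := h
  exact pF_iff.2 ⟨h1, h2, h5, h6⟩
theorem l_F_N : CS hK T (cF σ) ≤ CS hK T (cN σ) := CS_le_CS fun c h => by
  rw [pF_iff] at h; obtain ⟨h1, h2, h3, h4⟩ := h
  exact pN_iff.2 ⟨h1, h2, h3⟩
theorem l_N_W : CS hK T (cN σ) ≤ CS hK T (cW σ) := CS_le_CS fun c h => by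
  rw [pN_iff] at h; obtain ⟨h1, h2, h3⟩ := h
  exact pW_iff.2 ⟨h1, h3⟩
theorem l_W_B : CS hK T (cW σ) ≤ CS hK T (cB σ) := CS_le_CS fun c h => by
  rw [pW_iff] at h; exact pB_iff.2 h.1
theorem l_E4_E : CS hK T (cE4 σ) ≤ CS hK T (cE σ) := CS_le_CS fun c h => by
  rw [pE4_iff] at h; obtain ⟨h1, h2, h3, h4, h5, h6, h7, h8⟩ := h
  exact pE_iff.2 ⟨h1, h2, h4, h5, h6, h7, h8⟩
theorem l_E_D : CS hK T (cE σ) ≤ CS hK T (cD σ) := CS_le_CS fun c h => by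
  rw [pE_iff] at h; obtain ⟨h1, h2, h3, h4, h5, h6, h7⟩ := h
  exact pD_iff.2 ⟨h1, h2, h4, h5, h6, h7⟩
theorem l_D_7 : CS hK T (cD σ) ≤ CS hK T (c7 σ) := CS_le_CS fun c h => by
  rw [pD_iff] at h; obtain ⟨h1, h2, h3, h4, h5, h6⟩ := h
  exact p7_iff.2 ⟨h1, h2, h3, h5, h6⟩
theorem l_7_F : CS hK T (c7 σ) ≤ CS hK T (cF σ) := CS_le_CS fun c h => by
  rw [p7_iff] at h; obtain ⟨h1, h2, h3, h4, h5⟩ := h
  exact pF_iff.2 ⟨h1, h2, h4, h5⟩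
theorem l_F_2 : CS hK T (cF σ) ≤ CS hK T (c2 σ) := CS_le_CS fun c h => by
  rw [pF_iff] at h; obtain ⟨h1, h2, h3, h4⟩ := h
  exact p2_iff.2 ⟨h1, h3, h4⟩
theorem l_2_Q : CS hK T (c2 σ) ≤ CS hK T (cQ σ) := CS_le_CS fun c h => by
  rw [p2_iff] at h; exact pQ_iff.2 h.2

theorem l_1 (H : Subgroup U) : CS hK T (cong_id (σ := σ)) ≤ H := by
  rw [CS_id]; exact bot_le

theorem MB_le (i : ℕ) : MB hK T (i + 1) ≤ MB hK T i := by
  match i with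
  | 0 => exact (l_W_B hK T)
  | 1 => exact (l_N_W hK T)
  | 2 => exact (l_F_N hK T)
  | 3 => exact (l_F0_F hK T)
  | 4 => exact (l_A_F0 hK T)
  | 5 => exact (l_E4_A hK T)
  | 6 => exact (l_Y_E4 hK T)
  | 7 => exact (l_V_Y hK T)
  | 8 => exact (l_Z_V hK T)
  | 9 => exact l_1 hK T _
  | _ + 10 => exact le_rfl

theorem MA_le (i : ℕ) : MA hK T (i + 1) ≤ MA hK T i := by
  match i with
  | 0 => exact (l_2_Q hK T)
  | 1 => exact (l_F_2 hK T)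
  | 2 => exact (l_7_F hK T)
  | 3 => exact (l_D_7 hK T)
  | 4 => exact (l_E_D hK T)
  | 5 => exact (l_E4_E hK T)
  | 6 => exact (l_Y_E4 hK T)
  | 7 => exact (l_V_Y hK T)
  | 8 => exact (l_Z_V hK T)
  | 9 => exact l_1 hK T _
  | _ + 10 => exact le_rfl

theorem l_Y_B : CS hK T (cY σ) ≤ CS hK T (cB σ) :=
  (l_Y_E4 hK T).trans ((l_E4_A hK T).trans ((l_A_F0 hK T).trans ((l_F0_F hK T).trans ((l_F_N hK T).trans ((l_N_W hK T).trans (l_W_B hK T))))))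
theorem l_E4_B : CS hK T (cE4 σ) ≤ CS hK T (cB σ) :=
  (l_E4_A hK T).trans ((l_A_F0 hK T).trans ((l_F0_F hK T).trans ((l_F_N hK T).trans ((l_N_W hK T).trans (l_W_B hK T)))))
theorem l_A_B : CS hK T (cA σ) ≤ CS hK T (cB σ) := (l_A_F0 hK T).trans ((l_F0_F hK T).trans ((l_F_N hK T).trans ((l_N_W hK T).trans (l_W_B hK T))))
theorem l_7_Q : CS hK T (c7 σ) ≤ CS hK T (cQ σ) := (l_7_F hK T).trans ((l_F_2 hK T).trans (l_2_Q hK T))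
theorem l_F_Q : CS hK T (cF σ) ≤ CS hK T (cQ σ) := (l_F_2 hK T).trans (l_2_Q hK T)
theorem l_D_Q : CS hK T (cD σ) ≤ CS hK T (cQ σ) := (l_D_7 hK T).trans (l_7_Q hK T)
theorem l_E_Q : CS hK T (cE σ) ≤ CS hK T (cQ σ) := (l_E_D hK T).trans (l_D_Q hK T)
theorem l_Y_Q : CS hK T (cY σ) ≤ CS hK T (cQ σ) := (l_Y_E4 hK T).trans ((l_E4_E hK T).trans (l_E_Q hK T))
theorem l_V_Q : CS hK T (cV σ) ≤ CS hK T (cQ σ) := (l_V_Y hK T).trans (l_Y_Q hK T)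

/-! ### `QB` -/

/-- everything follows from `γ(Z) = Z` -/
theorem presB {γ : MulAut (CS hK T (cB σ))} (hZ : Pres γ (CS hK T (cZ σ))) (i : ℕ) : Pres γ (MB hK T i) := by
  have h1 := pres_one hK T γ
  have hB := pres_self γ
  have hV : Pres γ (CS hK T (cV σ)) := pres_tr hK T (qb_V σ) le_rfl hB hB h1
  have hY : Pres γ (CS hK T (cY σ)) := pres_tr hK T (qb_Y σ) le_rfl hB hB hV
  have hA : Pres γ (CS hK T (cA σ)) := pres_tr hK T (qb_A σ) le_rfl hB hB hY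
  have hN : Pres γ (CS hK T (cN σ)) := pres_tr hK T (qb_N σ) (l_Y_B hK T) hB hY h1
  have hW : Pres γ (CS hK T (cW σ)) := pres_tr hK T (qb_W σ) (l_Y_B hK T) hB hY hZ
  have hE4 : Pres γ (CS hK T (cE4 σ)) := pres_tr hK T (qb_E4 σ) (l_W_B hK T) hA hW hV
  have hF : Pres γ (CS hK T (cF σ)) := pres_tr hK T (qb_F σ) (l_E4_B hK T) hN hE4 hZ
  have hF1 : Pres γ (CS hK T (cF1 σ)) := pres_tr hK T (qb_F1 σ) (l_A_B hK T) hN hA hZ
  have hF0 : Pres γ (CS hK T (cF0 σ)) := pres_tr hK T (qb_F0 σ) (l_E4_B hK T) hF1 hE4 h1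
  match i with
  | 0 => exact hB
  | 1 => exact hW
  | 2 => exact hN
  | 3 => exact hF
  | 4 => exact hF0
  | 5 => exact hA
  | 6 => exact hE4
  | 7 => exact hY
  | 8 => exact hV
  | 9 => exact hZ
  | _ + 10 => exact h1

theorem tiB_CS {Γ : Subgroup (MulAut (CS hK T (cB σ)))} (hΓ : autInducedBy ⊤ (CS hK T (cB σ)) ≤ Γ)
    (hsyl : ∀ P : Subgroup (MulAut (CS hK T (cB σ))), P ≤ Γ → IsPGroup 2 P →
      ∃ g ∈ Γ, ∀ x ∈ P, g * x * g⁻¹ ∈ autInducedBy ⊤ (CS hK T (cB σ)))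
    {γ : MulAut (CS hK T (cB σ))} (hγ : γ ∈ Γ) (hZ : Pres γ (CS hK T (cZ σ))) : NormAut (⊤ : Subgroup U) γ := by
  have := Cfsg.Agent.H752.TF.finite_U hK T
  exact ti_chain (exp_U hK T) (MB hK T) (k := 10) rfl (CS_id hK T) (MB_le hK T) (MB_T hK T) hΓ hsyl hγ (presB hK T hZ)

/-- the fixed points of an outer element in `V` -/
theorem gZ {g x : U} (hg : g ∉ CS hK T (cB σ)) (hx : x ∈ CS hK T (cV σ)) :
    g * x * g⁻¹ * x⁻¹ ∈ CS hK T (cong_id (σ := σ)) ↔ x ∈ CS hK T (cZ σ) := by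
  constructor
  · intro h
    have h1 := congrArg Cd.b4 (comm_crit.1 h)
    rw [mem_CS] at hx hg ⊢
    obtain ⟨ma1, ma2, mb2, ma3, ma4, ma5, ma6, ma7, ma8, mb8⟩ := pV_iff.1 hx
    simp only [zc] at ma1 ma2 mb2 ma3 ma4 ma5 ma6 ma7 ma8 mb8
    have ha : (cd T g).a1 ≠ 0 := fun h => hg (pB_iff.2 h)
    have h2 : (cd T g).a1 * (cd T x).b6 = 0 := by
      simp only [mul, ma1, ma2, mb2, ma3, ma4, ma5, ma6, ma7, ma8, mb8, map_zero, map_one, mul_zero, zero_mul, mul_one,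
        one_mul, add_zero, zero_add, one_pow, zero_pow two_ne_zero, zero_pow three_ne_zero] at h1
      linear_combination -h1
    have h3 : (cd T x).b6 = 0 := (mul_eq_zero.1 h2).resolve_left ha
    exact pZ_iff.2 ⟨ma1, ma2, mb2, ma3, ma4, ma5, ma6, h3, ma7, ma8, mb8⟩
  · intro h
    exact comm_crit.2 (ch_Z_1 σ _ _ h)

end

end Cfsg.Agent.H181.TF
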