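import Cfsg.Agent.H181.TF.TIFin
import Cfsg.Agent.H7.TF.LB
import Cfsg.Agent.H805.TF.Syl

/-!
# S5262: TI' for `QB` in the form used by `H7/TF/LB.lean`; `StLB1`, `StLB2` (helper181, helper7)
-/

set_option autoImplicit false

namespace Cfsg.Agent.H181.TF

open Cfsg Cfsg.FusionSystem Cfsg.Agent.H756.PU Cfsg.Agent.H745.TF

universe u v

theorem stTIB : Cfsg.Agent.H7.TF.StTIB.{u, v} := by
  intro K _ σ m hK U _ T Γ hΓ hsyl γ hγ h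
  refine tiB' hK T hΓ hsyl hγ fun x hx => ?_
  rw [Cfsg.Agent.H752.TF.mem_Z4 hK T] at hx ⊢
  obtain ⟨u, hu⟩ := hx
  obtain ⟨u', hu'⟩ := h u
  have e : ∀ a, ((Cfsg.Agent.H7.TF.vB T (a, 0) : T.QB) : U) = T.x4 0 a := fun a => by
    change T.x4 0 a * T.x6 0 0 = _
    rw [Cfsg.Agent.H659.TF.x6_zero T.rel, mul_one]
  have h1 : x = Cfsg.Agent.H7.TF.vB T (u, 0) := Subtype.ext (by rw [e, hu])
  rw [h1, hu', e]
  exact ⟨u', rfl⟩

theorem stLB1 : StLB1.{u, v} := Cfsg.Agent.H7.TF.stLB1 Cfsg.Agent.H805.TF.stGrp stTIB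
theorem stLB2 : StLB2.{u, v} := Cfsg.Agent.H7.TF.stLB2 Cfsg.Agent.H805.TF.stGrp stTIB

end Cfsg.Agent.H181.TF
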