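import Cfsg.Agent.H181.TF.TI

/-!
# S5262 [TI], final (helper181)

* `stTI : StTI`;
* `tiB'` : `γ ∈ Γ ≤ Aut(QB)`, `γ(Z4) ≤ Z4` implies that `γ` normalizes `Aut_U(QB)`;
* `tiA'` : `γ ∈ Γ ≤ Aut(QA)`, `γ(V) ≤ V` implies that `γ` normalizes `Aut_U(QA)`; `tiA_Y` : the same with `γ(Y) ≤ Y`.
-/

set_option autoImplicit false
set_option linter.unusedSimpArgs false

namespace Cfsg.Agent.H181.TF

open Cfsg Cfsg.FusionSystem Cfsg.Agent.H756.PU Cfsg.Agent.H745.TF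

universe u v w

variable {K : Type u} [Field K] {σ : K →+* K} {U : Type v} [Group U] {m : ℕ}

section
variable (hK : HypK σ m) (T : TF σ U)

/-! ### squares in `QA`, coordinates -/

theorem sqF (h2 : (2 : K) = 0) (c : Cd K) : pF K c = pF K zc ↔ p2 K c = p2 K zc ∧ pE4 K (mul σ c c) = pE4 K zc := by
  constructor
  · intro h
    obtain ⟨ma1, ma2, ma8, mb8⟩ := pF_iff.1 h
    simp only [zc] at ma1 ma2 ma8 mb8
    refine ⟨p2_iff.2 ⟨ma1, ma8, mb8⟩, pE4_iff.2 ⟨?_, ?_, ?_, ?_, ?_, ?_, ?_, ?_⟩⟩ <;>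
    · simp only [mul, zc, ma1, ma2, ma8, mb8, map_zero, mul_zero, zero_mul, add_zero, zero_add, zero_pow two_ne_zero,
        zero_pow three_ne_zero]
      try rw [← two_mul, h2, zero_mul]
  · rintro ⟨h, h'⟩
    obtain ⟨ma1, ma8, mb8⟩ := p2_iff.1 h
    simp only [zc] at ma1 ma8 mb8
    obtain ⟨-, -, e, -, -, -, -, -⟩ := pE4_iff.1 h'
    simp only [mul, zc, ma1, ma8, mb8, map_zero, mul_zero, zero_mul, add_zero, zero_add, zero_pow two_ne_zero,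
        zero_pow three_ne_zero] at e
    have h3 : c.a2 * σ c.a2 = 0 := by linear_combination e - c.b2 * h2
    have h4 : c.a2 = 0 := by
      rcases mul_eq_zero.1 h3 with h4 | h4
      · exact h4
      · exact (map_eq_zero σ).1 h4
    exact pF_iff.2 ⟨ma1, h4, ma8, mb8⟩

theorem sq7 (h2 : (2 : K) = 0) (c : Cd K) : p7 K c = p7 K zc ↔ pF K c = pF K zc ∧
    ∃ d, pD K d = pD K zc ∧ pZ K (mul σ (mul σ c d) (mul σ c d)) = pZ K zc := by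
  constructor
  · intro h
    obtain ⟨ma1, ma2, ma6, ma8, mb8⟩ := p7_iff.1 h
    simp only [zc] at ma1 ma2 ma6 ma8 mb8
    refine ⟨pF_iff.2 ⟨ma1, ma2, ma8, mb8⟩, ⟨0, 0, 0, 0, c.a4, 0, 0, 0, 0, 0, 0, 0⟩, rfl, ?_⟩
    have e4 : c.a4 + c.a4 = 0 := by rw [← two_mul, h2, zero_mul]
    refine pZ_iff.2 ⟨?_, ?_, ?_, ?_, ?_, ?_, ?_, ?_, ?_, ?_, ?_⟩ <;>
    · simp only [mul, zc, ma1, ma2, ma6, ma8, mb8, e4, map_zero, mul_zero, zero_mul, add_zero, zero_add,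
        zero_pow two_ne_zero, zero_pow three_ne_zero]
      try rw [← two_mul, h2, zero_mul]
  · rintro ⟨h, d, hd, h'⟩
    obtain ⟨ma1, ma2, ma8, mb8⟩ := pF_iff.1 h
    simp only [zc] at ma1 ma2 ma8 mb8
    obtain ⟨na1, na2, na6, na7, na8, nb8⟩ := pD_iff.1 hd
    simp only [zc] at na1 na2 na6 na7 na8 nb8
    obtain ⟨-, -, -, -, -, e5, -, e6, -, -, -⟩ := pZ_iff.1 h'
    simp only [mul, zc, ma1, ma2, ma8, mb8, na1, na2, na6, na7, na8, nb8, map_zero, mul_zero, zero_mul, add_zero,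
      zero_add, zero_pow two_ne_zero, zero_pow three_ne_zero] at e5 e6
    have k5 : c.a6 * (c.a4 + d.a4) = 0 := by
      linear_combination e5 - (c.a5 + d.a5 + c.a6 * d.a4) * h2
    have k6 : c.a6 * σ c.a6 + c.a7 * (c.a4 + d.a4) = 0 := by
      linear_combination e6 - (c.b6 + d.b6 + c.a7 * d.a4) * h2
    have h6 : c.a6 = 0 := by
      rcases mul_eq_zero.1 k5 with h5 | h5
      · exact h5
      · rw [h5, mul_zero, add_zero] at k6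
        rcases mul_eq_zero.1 k6 with h7 | h7
        · exact h7
        · exact (map_eq_zero σ).1 h7
    exact p7_iff.2 ⟨ma1, ma2, h6, ma8, mb8⟩

theorem sqV (h2 : (2 : K) = 0) (c : Cd K) : pV K c = pV K zc ↔ pY K c = pY K zc ∧
    ∃ d, p7 K d = p7 K zc ∧ pZ K c = pZ K (mul σ d d) := by
  constructor
  · intro h
    obtain ⟨ma1, ma2, mb2, ma3, ma4, ma5, ma6, ma7, ma8, mb8⟩ := pV_iff.1 h
    simp only [zc] at ma1 ma2 mb2 ma3 ma4 ma5 ma6 ma7 ma8 mb8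
    refine ⟨pY_iff.2 ⟨ma1, ma2, mb2, ma3, ma4, ma6, ma7, ma8, mb8⟩, ⟨0, 0, 0, 0, 1, 0, 0, 0, 0, c.b6, 0, 0⟩, rfl, ?_⟩
    refine pZ_iff.2 ⟨?_, ?_, ?_, ?_, ?_, ?_, ?_, ?_, ?_, ?_, ?_⟩
    all_goals simp only [mul, ma1, ma2, mb2, ma3, ma4, ma5, ma6, ma7, ma8, mb8, map_zero, mul_zero, zero_mul, add_zero,
      zero_add, mul_one, zero_pow two_ne_zero, zero_pow three_ne_zero]
    · rw [← two_mul, h2, zero_mul]
    · rw [← two_mul, h2, zero_mul]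
  · rintro ⟨h, d, hd, h'⟩
    obtain ⟨ma1, ma2, mb2, ma3, ma4, ma6, ma7, ma8, mb8⟩ := pY_iff.1 h
    simp only [zc] at ma1 ma2 mb2 ma3 ma4 ma6 ma7 ma8 mb8
    obtain ⟨na1, na2, na6, na8, nb8⟩ := p7_iff.1 hd
    simp only [zc] at na1 na2 na6 na8 nb8
    obtain ⟨-, -, -, -, -, e5, -, -, -, -, -⟩ := pZ_iff.1 h'
    simp only [mul, na1, na2, na6, na8, nb8, map_zero, mul_zero, zero_mul, add_zero, zero_add, zero_pow two_ne_zero,
      zero_pow three_ne_zero] at e5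
    have h5 : c.a5 = 0 := by rw [e5, ← two_mul, h2, zero_mul]
    exact pV_iff.2 ⟨ma1, ma2, mb2, ma3, ma4, h5, ma6, ma7, ma8, mb8⟩

/-! ### `QB`: TI -/

theorem tiB_aux {Γ : Subgroup (MulAut (CS hK T (cB σ)))} (hΓ : autInducedBy ⊤ (CS hK T (cB σ)) ≤ Γ)
    (hsyl : ∀ P : Subgroup (MulAut (CS hK T (cB σ))), P ≤ Γ → IsPGroup 2 P →
      ∃ g ∈ Γ, ∀ x ∈ P, g * x * g⁻¹ ∈ autInducedBy ⊤ (CS hK T (cB σ))) : TIAut (⊤ : Subgroup U) Γ := by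
  intro γ hγ t ht hti hti'
  obtain ⟨g, -, hg⟩ := (Cfsg.Agent.H802.mem_autInducedBy_iff _ _ _).1 ht
  obtain ⟨h, -, hh⟩ := (Cfsg.Agent.H802.mem_autInducedBy_iff _ _ _).1 hti'
  have hgQ : g ∉ CS hK T (cB σ) := not_mem_of_not_inn hg hti
  have hhQ : h ∉ CS hK T (cB σ) := not_mem_of_not_inn hh (conj_not_inn hti)
  have h1 := pres_one hK T γ
  have hB := pres_self γ
  have hV : Pres γ (CS hK T (cV σ)) := pres_tr hK T (qb_V σ) le_rfl hB hB h1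
  refine tiB_CS hK T hΓ hsyl hγ fun x => ?_
  constructor
  · intro hx
    have h3 := l_Z_V hK T hx
    rw [← gZ hK T hhQ ((hV x).1 h3), ← transport hg hh h1 x, gZ hK T hgQ h3]
    exact hx
  · intro hx
    have h3 := (hV x).2 (l_Z_V hK T hx)
    rw [← gZ hK T hgQ h3, transport hg hh h1 x, gZ hK T hhQ ((hV x).1 h3)]
    exact hx

/-! ### `QA`: everything follows from `γ(V) = V` -/

theorem presA {γ : MulAut (CS hK T (cQ σ))} (hV : Pres γ (CS hK T (cV σ))) (i : ℕ) : Pres γ (MA hK T i) := by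
  have h1 := pres_one hK T γ
  have hQ := pres_self γ
  have hZ : Pres γ (CS hK T (cZ σ)) := pres_tr hK T (qa_Z σ) le_rfl hQ hQ h1
  have hE : Pres γ (CS hK T (cE σ)) := pres_tr hK T (qa_E σ) le_rfl hQ hQ hZ
  have hD : Pres γ (CS hK T (cD σ)) := pres_tr hK T (qa_D σ) (l_E_Q hK T) hQ hE h1
  have hX2 : Pres γ (CS hK T (c2 σ)) := pres_tr hK T (qa_2 σ) (l_V_Q hK T) hQ hV h1
  have hX7 : Pres γ (CS hK T (c7 σ)) := pres_tr hK T (qa_7 σ) (l_D_Q hK T) hQ hD hV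
  have hE4 : Pres γ (CS hK T (cE4 σ)) := pres_tr hK T (qa_E4 σ) (l_7_Q hK T) hE hX7 h1
  have hF : Pres γ (CS hK T (cF σ)) := by
    have key : ∀ x : U, x ∈ CS hK T (cF σ) ↔ x ∈ CS hK T (c2 σ) ∧ x * x ∈ CS hK T (cE4 σ) := fun x => by
      rw [mem_CS, mem_CS, mem_CS, cd_mul hK, sqF hK.two]
    intro x
    rw [key, key]
    refine and_congr (hX2 x) ?_
    have := hE4 (x * x)
    rw [map_mul] at this
    exact this
  have hY : Pres γ (CS hK T (cY σ)) := pres_tr hK T (qa_Y σ) (l_F_Q hK T) hE hF h1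
  match i with
  | 0 => exact hQ
  | 1 => exact hX2
  | 2 => exact hF
  | 3 => exact hX7
  | 4 => exact hD
  | 5 => exact hE
  | 6 => exact hE4
  | 7 => exact hY
  | 8 => exact hV
  | 9 => exact hZ
  | _ + 10 => exact h1

theorem tiA_CS {Γ : Subgroup (MulAut (CS hK T (cQ σ)))} (hΓ : autInducedBy ⊤ (CS hK T (cQ σ)) ≤ Γ)
    (hsyl : ∀ P : Subgroup (MulAut (CS hK T (cQ σ))), P ≤ Γ → IsPGroup 2 P →
      ∃ g ∈ Γ, ∀ x ∈ P, g * x * g⁻¹ ∈ autInducedBy ⊤ (CS hK T (cQ σ)))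
    {γ : MulAut (CS hK T (cQ σ))} (hγ : γ ∈ Γ) (hV : Pres γ (CS hK T (cV σ))) : NormAut (⊤ : Subgroup U) γ := by
  have := Cfsg.Agent.H752.TF.finite_U hK T
  exact ti_chain (exp_U hK T) (MA hK T) (k := 10) rfl (CS_id hK T) (MA_le hK T) (MA_T hK T) hΓ hsyl hγ (presA hK T hV)

/-- `γ(Y) = Y` implies `γ(V) = V` -/
theorem presV_of_Y {γ : MulAut (CS hK T (cQ σ))} (hY : Pres γ (CS hK T (cY σ))) : Pres γ (CS hK T (cV σ)) := by
  have h1 := pres_one hK T γ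
  have hQ := pres_self γ
  have hZ : Pres γ (CS hK T (cZ σ)) := pres_tr hK T (qa_Z σ) le_rfl hQ hQ h1
  have hE : Pres γ (CS hK T (cE σ)) := pres_tr hK T (qa_E σ) le_rfl hQ hQ hZ
  have hD : Pres γ (CS hK T (cD σ)) := pres_tr hK T (qa_D σ) (l_E_Q hK T) hQ hE h1
  have hF : Pres γ (CS hK T (cF σ)) := pres_tr hK T (qa_F σ) (l_Y_Q hK T) hQ hY h1
  have inv : ∀ y : CS hK T (cQ σ), γ (γ⁻¹ y) = y := fun y => MulAut.apply_inv_self _ γ y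
  have hX7 : Pres γ (CS hK T (c7 σ)) := by
    have key : ∀ x : CS hK T (cQ σ), (x : U) ∈ CS hK T (c7 σ) ↔ (x : U) ∈ CS hK T (cF σ) ∧
        ∃ d : CS hK T (cQ σ), (d : U) ∈ CS hK T (cD σ) ∧ ((x * d * (x * d) : CS hK T (cQ σ)) : U) ∈ CS hK T (cZ σ) := by
      intro x
      rw [mem_CS, sq7 hK.two (σ := σ)]
      refine and_congr Iff.rfl ⟨?_, ?_⟩
      · rintro ⟨d, hd, h⟩
        refine ⟨⟨T.el d, l_D_Q hK T (el_mem_CS.2 hd)⟩, el_mem_CS.2 hd, ?_⟩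
        rw [mem_CS, Subgroup.coe_mul, Subgroup.coe_mul, cd_mul hK, cd_mul hK, cd_el]
        exact h
      · rintro ⟨d, hd, h⟩
        refine ⟨cd T d, hd, ?_⟩
        rwa [mem_CS, Subgroup.coe_mul, Subgroup.coe_mul, cd_mul hK, cd_mul hK] at h
    intro x
    rw [key, key]
    refine and_congr (hF x) ⟨?_, ?_⟩
    · rintro ⟨d, hd, h⟩
      refine ⟨γ d, (hD d).1 hd, ?_⟩
      rw [← map_mul, ← map_mul]
      exact (hZ _).1 h
    · rintro ⟨d, hd, h⟩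
      refine ⟨γ⁻¹ d, ?_, ?_⟩
      · rw [hD, inv]; exact hd
      · rw [hZ, map_mul, map_mul, inv]; exact h
  have key : ∀ x : CS hK T (cQ σ), (x : U) ∈ CS hK T (cV σ) ↔ (x : U) ∈ CS hK T (cY σ) ∧
      ∃ d : CS hK T (cQ σ), (d : U) ∈ CS hK T (c7 σ) ∧ ((x⁻¹ * (d * d) : CS hK T (cQ σ)) : U) ∈ CS hK T (cZ σ) := by
    intro x
    rw [mem_CS, sqV hK.two (σ := σ)]
    refine and_congr Iff.rfl ⟨?_, ?_⟩
    · rintro ⟨d, hd, h⟩
      refine ⟨⟨T.el d, l_7_Q hK T (el_mem_CS.2 hd)⟩, el_mem_CS.2 hd, ?_⟩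
      rw [Subgroup.coe_mul, Subgroup.coe_inv, crit', Subgroup.coe_mul, cd_mul hK, cd_el]
      exact h
    · rintro ⟨d, hd, h⟩
      refine ⟨cd T d, hd, ?_⟩
      rwa [Subgroup.coe_mul, Subgroup.coe_inv, crit', Subgroup.coe_mul, cd_mul hK] at h
  intro x
  rw [key, key]
  refine and_congr (hY x) ⟨?_, ?_⟩
  · rintro ⟨d, hd, h⟩
    refine ⟨γ d, (hX7 d).1 hd, ?_⟩
    rw [← map_mul, ← map_inv, ← map_mul]
    exact (hZ _).1 h
  · rintro ⟨d, hd, h⟩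
    refine ⟨γ⁻¹ d, ?_, ?_⟩
    · rw [hX7, inv]; exact hd
    · rw [hZ, map_mul, map_mul, map_inv, inv]; exact h

/-- fixed points of an outer element of `QA Z8` on `E/Z` -/
theorem gY {g x : U} (hg : g ∉ CS hK T (cQ σ)) (hg8 : (cd T g).a8 = 0) (hx : x ∈ CS hK T (cE σ)) :
    g * x * g⁻¹ * x⁻¹ ∈ CS hK T (cZ σ) ↔ x ∈ CS hK T (cY σ) := by
  rw [comm_crit, mem_CS]
  rw [mem_CS] at hx hg
  obtain ⟨ma1, ma2, ma4, ma6, ma7, ma8, mb8⟩ := pE_iff.1 hx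
  simp only [zc] at ma1 ma2 ma4 ma6 ma7 ma8 mb8
  have hb : (cd T g).b8 ≠ 0 := fun h => hg (pQ_iff.2 ⟨hg8, h⟩)
  constructor
  · intro h
    obtain ⟨-, -, -, -, -, e5, -, e6, -, -, -⟩ := pZ_iff.1 h
    simp only [mul, hg8, ma1, ma2, ma4, ma6, ma7, ma8, mb8, map_zero, mul_zero, zero_mul, add_zero, zero_add,
      zero_pow two_ne_zero, zero_pow three_ne_zero] at e5 e6
    have k5 : (cd T g).b8 * (cd T x).b2 = 0 := by linear_combination e5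
    have kb2 : (cd T x).b2 = 0 := (mul_eq_zero.1 k5).resolve_left hb
    rw [kb2] at e6
    have k6 : (cd T g).b8 * (cd T x).a3 = 0 := by linear_combination e6
    have ka3 : (cd T x).a3 = 0 := (mul_eq_zero.1 k6).resolve_left hb
    exact pY_iff.2 ⟨ma1, ma2, kb2, ka3, ma4, ma6, ma7, ma8, mb8⟩
  · intro h
    obtain ⟨-, -, mb2, ma3, -, -, -, -, -⟩ := pY_iff.1 h
    simp only [zc] at mb2 ma3
    refine pZ_iff.2 ⟨?_, ?_, ?_, ?_, ?_, ?_, ?_, ?_, ?_, ?_, ?_⟩ <;>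
    · simp only [mul, hg8, ma1, ma2, mb2, ma3, ma4, ma6, ma7, ma8, mb8, map_zero, mul_zero, zero_mul, add_zero, zero_add,
        zero_pow two_ne_zero, zero_pow three_ne_zero]
      try ring

/-- an inner automorphism is induced only by elements of `Q · C(Q)` -/
theorem mem_of_inn {G : Type*} [Group G] {Q : Subgroup G} (hc : ∀ x : G, (∀ y ∈ Q, y * x = x * y) → x ∈ Q) {s : MulAut Q} {h : G}
    (hs : ∀ x : Q, ((s x : Q) : G) = h * (x : G) * h⁻¹) (hi : s ∈ Inn Q) : h ∈ Q := by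
  obtain ⟨y, rfl⟩ := hi
  have h1 : (y : G)⁻¹ * h ∈ Q := by
    apply hc
    intro z hz
    have h2 := hs ⟨z, hz⟩
    rw [MulAut.conj_apply, Subgroup.coe_mul, Subgroup.coe_mul, Subgroup.coe_inv] at h2
    change (y : G) * z * (y : G)⁻¹ = h * z * h⁻¹ at h2
    have h3 : z * (y : G)⁻¹ * h = (y : G)⁻¹ * (h * z * h⁻¹) * h := by
      rw [← h2]; group
    rw [mul_assoc z] at h3
    rw [h3]
    group
  have h4 := Q.mul_mem y.2 h1
  rwa [mul_inv_cancel_left] at h4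

theorem cen_CSQ (x : U) (h : ∀ y ∈ CS hK T (cQ σ), y * x = x * y) : x ∈ CS hK T (cQ σ) := by
  rw [← QA_eq hK T] at h ⊢
  exact cen_QA hK T x h

theorem presY {γ t : MulAut (CS hK T (cQ σ))} {g h : U}
    (hg : ∀ x : CS hK T (cQ σ), ((t x : CS hK T (cQ σ)) : U) = g * (x : U) * g⁻¹)
    (hh : ∀ x : CS hK T (cQ σ), (((γ * t * γ⁻¹) x : CS hK T (cQ σ)) : U) = h * (x : U) * h⁻¹)
    (hgQ : g ∉ CS hK T (cQ σ)) (hhQ : h ∉ CS hK T (cQ σ)) (hg8 : (cd T g).a8 = 0) (hh8 : (cd T h).a8 = 0) :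
    Pres γ (CS hK T (cY σ)) := by
  have h1 := pres_one hK T γ
  have hQ := pres_self γ
  have hZ : Pres γ (CS hK T (cZ σ)) := pres_tr hK T (qa_Z σ) le_rfl hQ hQ h1
  have hE : Pres γ (CS hK T (cE σ)) := pres_tr hK T (qa_E σ) le_rfl hQ hQ hZ
  have l : CS hK T (cY σ) ≤ CS hK T (cE σ) := (l_Y_E4 hK T).trans (l_E4_E hK T)
  intro x
  constructor
  · intro hx
    have h3 := l hx
    rw [← gY hK T hhQ hh8 ((hE x).1 h3), ← transport hg hh hZ x, gY hK T hgQ hg8 h3]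
    exact hx
  · intro hx
    have h3 := (hE x).2 (l hx)
    rw [← gY hK T hgQ hg8 h3, transport hg hh hZ x, gY hK T hhQ hh8 ((hE x).1 h3)]
    exact hx

include hK

theorem sq_a8 (g : U) : (cd T (g * g)).a8 = 0 := by
  rw [cd_mul hK]
  change (cd T g).a8 + (cd T g).a8 = 0
  rw [← two_mul, hK.two, zero_mul]

theorem sq_b8 (g : U) : (cd T (g * g)).b8 = (cd T g).a8 * σ (cd T g).a8 := by
  rw [cd_mul hK]
  change (cd T g).b8 + (cd T g).b8 + (cd T g).a8 * σ (cd T g).a8 = _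
  rw [← two_mul, hK.two, zero_mul, zero_add]

theorem sq_mem_iff (g : U) : g * g ∈ CS hK T (cQ σ) ↔ (cd T g).a8 = 0 := by
  rw [mem_CS, pQ_iff, sq_a8 hK, sq_b8 hK]
  constructor
  · rintro ⟨-, h⟩
    rcases mul_eq_zero.1 h with h | h
    · exact h
    · exact (map_eq_zero σ).1 h
  · intro h
    refine ⟨rfl, ?_⟩
    rw [h, zero_mul]
    rfl

theorem tiA_aux {Γ : Subgroup (MulAut (CS hK T (cQ σ)))} (hΓ : autInducedBy ⊤ (CS hK T (cQ σ)) ≤ Γ)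
    (hsyl : ∀ P : Subgroup (MulAut (CS hK T (cQ σ))), P ≤ Γ → IsPGroup 2 P →
      ∃ g ∈ Γ, ∀ x ∈ P, g * x * g⁻¹ ∈ autInducedBy ⊤ (CS hK T (cQ σ))) : TIAut (⊤ : Subgroup U) Γ := by
  intro γ hγ t ht hti hti'
  obtain ⟨g, -, hg⟩ := (Cfsg.Agent.H802.mem_autInducedBy_iff _ _ _).1 ht
  obtain ⟨h, -, hh⟩ := (Cfsg.Agent.H802.mem_autInducedBy_iff _ _ _).1 hti'
  have hgQ : g ∉ CS hK T (cQ σ) := not_mem_of_not_inn hg hti
  have hhQ : h ∉ CS hK T (cQ σ) := not_mem_of_not_inn hh (conj_not_inn hti)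
  have sq : ∀ {s : MulAut (CS hK T (cQ σ))} {a : U},
      (∀ x : CS hK T (cQ σ), ((s x : CS hK T (cQ σ)) : U) = a * (x : U) * a⁻¹) →
      ∀ x : CS hK T (cQ σ), (((s * s) x : CS hK T (cQ σ)) : U) = (a * a) * (x : U) * (a * a)⁻¹ := by
    intro s a hs x
    rw [MulAut.mul_apply, hs, hs]; group
  have hg2 := sq hg
  have hh2 : ∀ x : CS hK T (cQ σ), (((γ * (t * t) * γ⁻¹) x : CS hK T (cQ σ)) : U) = (h * h) * (x : U) * (h * h)⁻¹ := by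
    have h3 := sq hh
    have h4 : γ * t * γ⁻¹ * (γ * t * γ⁻¹) = γ * (t * t) * γ⁻¹ := by group
    rwa [h4] at h3
  refine tiA_CS hK T hΓ hsyl hγ (presV_of_Y hK T ?_)
  by_cases g8 : (cd T g).a8 = 0
  · by_cases h8 : (cd T h).a8 = 0
    · exact presY hK T hg hh hgQ hhQ g8 h8
    · exfalso
      have h5 : h * h ∉ CS hK T (cQ σ) := fun hc => h8 ((sq_mem_iff hK T h).1 hc)
      have h6 : g * g ∈ CS hK T (cQ σ) := (sq_mem_iff hK T g).2 g8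
      have h7 : γ * (t * t) * γ⁻¹ ∉ Inn (CS hK T (cQ σ)) := fun hc => h5 (mem_of_inn (cen_CSQ hK T) hh2 hc)
      have h8 : t * t ∈ Inn (CS hK T (cQ σ)) := by
        refine ⟨⟨g * g, h6⟩, ?_⟩
        ext1 x
        apply Subtype.ext
        rw [hg2]; rfl
      exact h7 (by
        obtain ⟨y, hy⟩ := h8
        refine ⟨γ y, ?_⟩
        rw [← hy]
        ext1 z
        rw [MulAut.mul_apply, MulAut.mul_apply, MulAut.conj_apply, MulAut.conj_apply, map_mul, map_mul, map_inv,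
          MulAut.apply_inv_self])
  · have h5 : g * g ∉ CS hK T (cQ σ) := fun hc => g8 ((sq_mem_iff hK T g).1 hc)
    have h6 : t * t ∉ Inn (CS hK T (cQ σ)) := fun hc => h5 (mem_of_inn (cen_CSQ hK T) hg2 hc)
    have h7 : h * h ∉ CS hK T (cQ σ) := not_mem_of_not_inn hh2 (conj_not_inn h6)
    exact presY hK T hg2 hh2 h5 h7 (sq_a8 hK T g) (sq_a8 hK T h)

/-! ### the statements -/

omit hK in
theorem pres_of_le {G : Type*} [Group G] {Q : Subgroup G} [Finite Q] {γ : MulAut Q} {M : Subgroup G}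
    (h : ∀ x : Q, (x : G) ∈ M → ((γ x : Q) : G) ∈ M) : Pres γ M := by
  have h1 : (M.subgroupOf Q).map γ.toMonoidHom = M.subgroupOf Q := by
    apply Subgroup.eq_of_le_of_card_ge
    · rintro _ ⟨x, hx, rfl⟩
      exact Subgroup.mem_subgroupOf.2 (h x (Subgroup.mem_subgroupOf.1 hx))
    · rw [Subgroup.card_map_of_injective γ.injective]
  intro x
  refine ⟨h x, fun hx => ?_⟩
  have h2 : γ x ∈ (M.subgroupOf Q).map γ.toMonoidHom := by rw [h1]; exact Subgroup.mem_subgroupOf.2 hx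
  obtain ⟨y, hy, he⟩ := h2
  have h3 : y = x := γ.injective he
  rw [← h3]
  exact Subgroup.mem_subgroupOf.1 hy

/-- `γ(Z4) ≤ Z4` implies that `γ` normalizes `Aut_U(QB)` -/
theorem tiB' {Γ : Subgroup (MulAut T.QB)} (hΓ : autInducedBy ⊤ T.QB ≤ Γ)
    (hsyl : ∀ P : Subgroup (MulAut T.QB), P ≤ Γ → IsPGroup 2 P → ∃ g ∈ Γ, ∀ x ∈ P, g * x * g⁻¹ ∈ autInducedBy ⊤ T.QB)
    {γ : MulAut T.QB} (hγ : γ ∈ Γ) (hZ : ∀ x : T.QB, (x : U) ∈ T.Z4 → ((γ x : T.QB) : U) ∈ T.Z4) :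
    NormAut (⊤ : Subgroup U) γ := by
  have := Cfsg.Agent.H752.TF.finite_U hK T
  have hP : Pres γ T.Z4 := pres_of_le hZ
  have key : ∀ Q : Subgroup U, Q = CS hK T (cB σ) → ∀ Z : Subgroup U, Z = CS hK T (cZ σ) →
      ∀ Γ : Subgroup (MulAut Q), autInducedBy ⊤ Q ≤ Γ →
      (∀ P : Subgroup (MulAut Q), P ≤ Γ → IsPGroup 2 P → ∃ g ∈ Γ, ∀ x ∈ P, g * x * g⁻¹ ∈ autInducedBy ⊤ Q) →
      ∀ γ ∈ Γ, Pres γ Z → NormAut (⊤ : Subgroup U) γ := by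
    rintro _ rfl _ rfl Γ hΓ hsyl γ hγ hZ
    exact tiB_CS hK T hΓ hsyl hγ hZ
  exact key _ (QB_eq hK T) _ (Z4_eq hK T) Γ hΓ hsyl γ hγ hP

/-- `γ(V) ≤ V` implies that `γ` normalizes `Aut_U(QA)` -/
theorem tiA' {Γ : Subgroup (MulAut T.QA)} (hΓ : autInducedBy ⊤ T.QA ≤ Γ)
    (hsyl : ∀ P : Subgroup (MulAut T.QA), P ≤ Γ → IsPGroup 2 P → ∃ g ∈ Γ, ∀ x ∈ P, g * x * g⁻¹ ∈ autInducedBy ⊤ T.QA)
    {γ : MulAut T.QA} (hγ : γ ∈ Γ) (hV : ∀ x : T.QA, (x : U) ∈ T.V → ((γ x : T.QA) : U) ∈ T.V) :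
    NormAut (⊤ : Subgroup U) γ := by
  have := Cfsg.Agent.H752.TF.finite_U hK T
  have hP : Pres γ T.V := pres_of_le hV
  have key : ∀ Q : Subgroup U, Q = CS hK T (cQ σ) → ∀ Z : Subgroup U, Z = CS hK T (cV σ) →
      ∀ Γ : Subgroup (MulAut Q), autInducedBy ⊤ Q ≤ Γ →
      (∀ P : Subgroup (MulAut Q), P ≤ Γ → IsPGroup 2 P → ∃ g ∈ Γ, ∀ x ∈ P, g * x * g⁻¹ ∈ autInducedBy ⊤ Q) →
      ∀ γ ∈ Γ, Pres γ Z → NormAut (⊤ : Subgroup U) γ := by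
    rintro _ rfl _ rfl Γ hΓ hsyl γ hγ hZ
    exact tiA_CS hK T hΓ hsyl hγ hZ
  exact key _ (QA_eq hK T) _ (V_eq hK T) Γ hΓ hsyl γ hγ hP

/-- `γ(Y) ≤ Y` implies that `γ` normalizes `Aut_U(QA)` -/
theorem tiA_Y {Γ : Subgroup (MulAut T.QA)} (hΓ : autInducedBy ⊤ T.QA ≤ Γ)
    (hsyl : ∀ P : Subgroup (MulAut T.QA), P ≤ Γ → IsPGroup 2 P → ∃ g ∈ Γ, ∀ x ∈ P, g * x * g⁻¹ ∈ autInducedBy ⊤ T.QA)
    {γ : MulAut T.QA} (hγ : γ ∈ Γ) (hY : ∀ x : T.QA, (x : U) ∈ T.Y → ((γ x : T.QA) : U) ∈ T.Y) :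
    NormAut (⊤ : Subgroup U) γ := by
  have := Cfsg.Agent.H752.TF.finite_U hK T
  have hP : Pres γ T.Y := pres_of_le hY
  have key : ∀ Q : Subgroup U, Q = CS hK T (cQ σ) → ∀ Z : Subgroup U, Z = CS hK T (cY σ) →
      ∀ Γ : Subgroup (MulAut Q), autInducedBy ⊤ Q ≤ Γ →
      (∀ P : Subgroup (MulAut Q), P ≤ Γ → IsPGroup 2 P → ∃ g ∈ Γ, ∀ x ∈ P, g * x * g⁻¹ ∈ autInducedBy ⊤ Q) →
      ∀ γ ∈ Γ, Pres γ Z → NormAut (⊤ : Subgroup U) γ := by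
    rintro _ rfl _ rfl Γ hΓ hsyl γ hγ hZ
    exact tiA_CS hK T hΓ hsyl hγ (presV_of_Y hK T hZ)
  exact key _ (QA_eq hK T) _ (Y_eq hK T) Γ hΓ hsyl γ hγ hP

end

theorem stTI : Cfsg.Agent.H745.TF.StTI.{u, v} := by
  intro K _ σ m hK U _ T Q hQ
  rcases hQ with rfl | rfl
  · have key : ∀ Q : Subgroup U, Q = CS hK T (cQ σ) → ∀ Γ : Subgroup (MulAut Q), autInducedBy ⊤ Q ≤ Γ →
        (∀ P : Subgroup (MulAut Q), P ≤ Γ → IsPGroup 2 P → ∃ g ∈ Γ, ∀ x ∈ P, g * x * g⁻¹ ∈ autInducedBy ⊤ Q) →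
        TIAut (⊤ : Subgroup U) Γ := by
      rintro _ rfl Γ hΓ hsyl
      exact tiA_aux hK T hΓ hsyl
    refine ⟨key _ (QA_eq hK T), ?_, ?_, map_of_presU (fun α => char_QA hK T α)⟩
    · rintro x ⟨-, hx'⟩
      exact cen_QA hK T x (Subgroup.mem_centralizer_iff.1 hx')
    · intro htop
      have h1 : T.el ⟨0, 0, 0, 0, 0, 0, 0, 0, 0, 0, 1, 0⟩ ∈ T.QA := by rw [htop]; trivial
      rw [QA_eq hK, el_mem_CS, pQ_iff] at h1
      exact one_ne_zero h1.1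
  · have key : ∀ Q : Subgroup U, Q = CS hK T (cB σ) → ∀ Γ : Subgroup (MulAut Q), autInducedBy ⊤ Q ≤ Γ →
        (∀ P : Subgroup (MulAut Q), P ≤ Γ → IsPGroup 2 P → ∃ g ∈ Γ, ∀ x ∈ P, g * x * g⁻¹ ∈ autInducedBy ⊤ Q) →
        TIAut (⊤ : Subgroup U) Γ := by
      rintro _ rfl Γ hΓ hsyl
      exact tiB_aux hK T hΓ hsyl
    refine ⟨key _ (QB_eq hK T), ?_, ?_, map_of_presU (fun α => char_QB hK T α)⟩
    · rintro x ⟨-, hx'⟩
      exact cen_QB hK T x (Subgroup.mem_centralizer_iff.1 hx')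
    · intro htop
      have h1 : T.el ⟨1, 0, 0, 0, 0, 0, 0, 0, 0, 0, 0, 0⟩ ∈ T.QB := by rw [htop]; trivial
      rw [QB_eq hK, el_mem_CS, pB_iff] at h1
      exact one_ne_zero h1

end Cfsg.Agent.H181.TF
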